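import Cfsg.Agent.EqLemmas
import Mathlib.GroupTheory.Perm.Sign
import Mathlib.GroupTheory.Perm.Fin
import Mathlib.Data.ZMod.Basic

/-!
# Computations in the symmetric group of degree six

* `bP`, `cP`, `xP`, `yP`, `zP`, `lP` : the images of the two coordinates, the two signs, the exchange and
  the three conjugate signs commuting with it, in the two identifications
* `planeEl`, `normEl` : the plane and its normalizer
-/

set_option autoImplicit false
set_option synthInstance.maxSize 8000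
set_option synthInstance.maxHeartbeats 200000

namespace Cfsg.Agent.SymNineThree

open Equiv

/-- The image of the second coordinate. -/
def bP : Bool → Perm (Fin 6)
  | false => swap 0 1 * swap 1 2
  | true => swap 0 1 * swap 1 2 * (swap 3 4 * swap 4 5)⁻¹

/-- The image of the third coordinate. -/
def cP : Bool → Perm (Fin 6)
  | false => swap 3 4 * swap 4 5
  | true => swap 0 1 * swap 1 2 * (swap 3 4 * swap 4 5)

/-- The image of the sign of the second coordinate. -/
def xP : Bool → Perm (Fin 6)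
  | false => swap 1 2
  | true => swap 0 3 * swap 1 4 * swap 2 5

/-- The image of the sign of the third coordinate. -/
def yP : Bool → Perm (Fin 6)
  | false => swap 4 5
  | true => swap 0 3 * swap 1 5 * swap 2 4

/-- The image of the exchange. -/
def zP : Bool → Perm (Fin 6)
  | false => swap 0 3 * swap 1 4 * swap 2 5
  | true => swap 4 5

/-- The conjugates of `xP` commuting with `zP`. -/
def lP : Bool → Fin 3 → Perm (Fin 6)
  | false => ![swap 0 3, swap 1 4, swap 2 5]
  | true => ![swap 4 5 * (swap 0 1 * swap 2 3), swap 4 5 * (swap 0 2 * swap 1 3),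
      swap 4 5 * (swap 0 3 * swap 1 2)]

/-- The nine elements of the plane. -/
def planeEl (i : ZMod 3 × ZMod 3) : Perm (Fin 6) :=
  (swap 0 1 * swap 1 2) ^ i.1.val * (swap 3 4 * swap 4 5) ^ i.2.val

/-- The 72 elements of its normalizer. -/
def normEl (i : Bool × Bool × Bool × ZMod 3 × ZMod 3) : Perm (Fin 6) :=
  (if i.1 then swap 1 2 else 1) * (if i.2.1 then swap 4 5 else 1) *
    (if i.2.2.1 then swap 0 3 * swap 1 4 * swap 2 5 else 1) * planeEl i.2.2.2

theorem planeEl_props : (∀ i i', planeEl i * planeEl i' = planeEl (i + i')) ∧ planeEl 0 = 1 ∧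
    (∀ i, planeEl i = 1 → i = 0) ∧ (∀ c, ∃ i i', bP c = planeEl i ∧ cP c = planeEl i') ∧
    (∀ n i, ∃ i', normEl n * planeEl i * (normEl n)⁻¹ = planeEl i') := by decide +kernel

theorem sign_normalize : ∀ x : Perm (Fin 6), x * x = 1 →
    (∀ i, ∃ i', x * planeEl i * x = planeEl i') → (∃ i, i ≠ 0 ∧ x * planeEl i * x = planeEl i) →
    (∃ i, i ≠ 0 ∧ x * planeEl i * x = planeEl (-i)) →
    ∃ n c, normEl n * x * (normEl n)⁻¹ = xP c := by decide +kernel

theorem coord_normalize : ∀ c, ∀ i i', i ≠ 0 → i' ≠ 0 → xP c * planeEl i * xP c = planeEl (-i) →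
    xP c * planeEl i' * xP c = planeEl i' → ∃ n, normEl n * xP c * (normEl n)⁻¹ = xP c ∧
      normEl n * planeEl i * (normEl n)⁻¹ = bP c ∧ normEl n * planeEl i' * (normEl n)⁻¹ = cP c := by
  decide +kernel

theorem second_normalize : ∀ c, ∀ y : Perm (Fin 6), y * y = 1 → y * bP c = bP c * y →
    y * cP c * y = (cP c)⁻¹ → y * xP c = xP c * y →
    ∃ l : Fin 3, cP c ^ (l : ℕ) * y * (cP c ^ (l : ℕ))⁻¹ = yP c := by decide +kernel

theorem coord_power_facts : ∀ c, ∀ l : Fin 3, (∃ n, cP c ^ (l : ℕ) = normEl n) ∧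
    Commute (cP c ^ (l : ℕ)) (xP c) ∧ Commute (cP c ^ (l : ℕ)) (bP c) := by
  unfold Commute SemiconjBy
  decide +kernel

theorem exchange_unique : ∀ c, ∀ z : Perm (Fin 6), z * z = 1 → z * xP c * z = yP c →
    z * bP c * z = cP c → z = zP c := by decide +kernel

theorem adjacent_facts : ∀ c : Bool,
    swap (1 : Fin 6) 2 = (if c then xP c * yP c * zP c else xP c) ∧
    swap (4 : Fin 6) 5 = (if c then zP c else yP c) ∧
    swap (0 : Fin 6) 1 = (if c then bP c * cP c else (bP c)⁻¹) * swap 1 2 *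
      (if c then bP c * cP c else (bP c)⁻¹)⁻¹ ∧
    swap (3 : Fin 6) 4 = (if c then (bP c)⁻¹ * cP c else (cP c)⁻¹) * swap 4 5 *
      (if c then (bP c)⁻¹ * cP c else (cP c)⁻¹)⁻¹ := by decide +kernel

theorem middle_unique : ∀ y : Perm (Fin 6), y * y = 1 → y * swap 0 1 = swap 0 1 * y →
    y * swap 4 5 = swap 4 5 * y → (y * swap 1 2) ^ 3 = 1 → (y * swap 3 4) ^ 3 = 1 → y = swap 2 3 := by
  decide +kernel

theorem middle_relations : swap (2 : Fin 6) 3 * swap 2 3 = 1 ∧
    swap (2 : Fin 6) 3 * swap 0 1 = swap 0 1 * swap 2 3 ∧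
    swap (2 : Fin 6) 3 * swap 4 5 = swap 4 5 * swap 2 3 ∧
    (swap (2 : Fin 6) 3 * swap 1 2) ^ 3 = 1 ∧ (swap (2 : Fin 6) 3 * swap 3 4) ^ 3 = 1 := by decide +kernel

/-- The number of points moved. -/
def moved (σ : Perm (Fin 6)) : ℕ := (Finset.univ.filter fun i => σ i ≠ i).card

theorem moved_values : ∀ c, (moved (xP c) = if c then 6 else 2) ∧ (moved (zP c) = if c then 2 else 6) ∧
    moved (xP c * yP c) = 4 ∧ xP c * xP c = 1 ∧ zP c * zP c = 1 ∧ xP c * yP c * (xP c * yP c) = 1 := by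
  decide +kernel

theorem moved_eq_support (σ : Perm (Fin 6)) : moved σ = σ.support.card := rfl

theorem involution_cycleType {σ : Perm (Fin 6)} (h : σ * σ = 1) :
    σ.cycleType = Multiset.replicate (moved σ / 2) 2 := by
  have hall : ∀ m ∈ σ.cycleType, m = 2 := fun m hm => by
    have h1 : m ∣ 2 := (Perm.dvd_of_mem_cycleType hm).trans
      (orderOf_dvd_of_pow_eq_one (by rw [pow_two, h]))
    have h2 := Perm.two_le_of_mem_cycleType hm
    have h3 := Nat.le_of_dvd two_pos h1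
    omega
  have h1 := Perm.sum_cycleType σ
  rw [Multiset.eq_replicate_card.2 hall, Multiset.sum_replicate, smul_eq_mul] at h1
  rw [moved_eq_support, ← h1, Nat.mul_div_cancel _ two_pos]
  exact Multiset.eq_replicate_card.2 hall

theorem involution_conj {σ ρ : Perm (Fin 6)} (hσ : σ * σ = 1) (hρ : ρ * ρ = 1) (h : moved σ = moved ρ) :
    ∃ τ, τ * σ * τ⁻¹ = ρ :=
  isConj_iff.1 (Perm.isConj_iff_cycleType_eq.2
    (by rw [involution_cycleType hσ, involution_cycleType hρ, h]))

theorem moved_conj (σ τ : Perm (Fin 6)) : moved (τ * σ * τ⁻¹) = moved σ := by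
  rw [moved_eq_support, moved_eq_support, Perm.card_support_conj]

theorem moved_cases {σ : Perm (Fin 6)} (h : σ * σ = 1) :
    (moved σ = 0 ∨ moved σ = 2 ∨ moved σ = 4 ∨ moved σ = 6) ∧
      Perm.sign σ = (-1 : ℤˣ) ^ (moved σ / 2) := by
  have e := involution_cycleType h
  have h1 := Perm.sum_cycleType σ
  rw [e, Multiset.sum_replicate, smul_eq_mul, ← moved_eq_support] at h1
  have h2 : moved σ ≤ 6 := (Finset.card_le_univ _).trans (by simp)
  refine ⟨by omega, ?_⟩
  rw [Perm.sign_of_cycleType, e, Multiset.sum_replicate, Multiset.card_replicate, smul_eq_mul, pow_add,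
    pow_mul', neg_one_sq, one_pow, one_mul]

theorem involution_classes (c : Bool) {σ : Perm (Fin 6)} (h : σ * σ = 1) :
    ((∃ τ, τ * σ * τ⁻¹ = xP c) ∧ Perm.sign σ = -1) ∨ ((∃ τ, τ * σ * τ⁻¹ = zP c) ∧ Perm.sign σ = -1) ∨
      ((σ = 1 ∨ ∃ τ, τ * σ * τ⁻¹ = xP c * yP c) ∧ Perm.sign σ = 1) := by
  obtain ⟨hx, hz, hxy, hx2, hz2, hxy2⟩ := moved_values c
  obtain ⟨hm, hs⟩ := moved_cases h
  rcases hm with e | e | e | e <;> rw [e] at hs
  · refine Or.inr (Or.inr ⟨Or.inl ?_, by rw [hs]; rfl⟩)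
    exact Perm.support_eq_empty_iff.1 (Finset.card_eq_zero.1 ((moved_eq_support σ).symm.trans e))
  · cases c
    · exact Or.inl ⟨involution_conj h hx2 (e.trans hx.symm), by rw [hs]; rfl⟩
    · exact Or.inr (Or.inl ⟨involution_conj h hz2 (e.trans hz.symm), by rw [hs]; rfl⟩)
  · exact Or.inr (Or.inr ⟨Or.inr (involution_conj h hxy2 (e.trans hxy.symm)), by rw [hs]; rfl⟩)
  · cases c
    · exact Or.inr (Or.inl ⟨involution_conj h hz2 (e.trans hz.symm), by rw [hs]; rfl⟩)
    · exact Or.inl ⟨involution_conj h hx2 (e.trans hx.symm), by rw [hs]; rfl⟩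

theorem triple_facts : ∀ c, lP c 0 * lP c 1 * lP c 2 = zP c ∧
    (∀ k k', lP c k * lP c k' = lP c k' * lP c k) ∧ (∀ k, moved (lP c k) = moved (xP c)) ∧
    (∀ k, ∃ k', bP c * cP c * lP c k * (bP c * cP c)⁻¹ = lP c k') ∧
    (∀ k, lP c k * zP c = zP c * lP c k) ∧ (∀ k, lP c k * lP c k = 1) ∧
    (∀ k k', k ≠ k' → lP c k ≠ lP c k') ∧ bP c * cP c * zP c = zP c * (bP c * cP c) := by decide +kernel

theorem triple_complete : ∀ c, ∀ σ : Perm (Fin 6), σ * zP c = zP c * σ →
    σ * σ = 1 → moved σ = moved (xP c) → ∃ k, σ = lP c k := by decide +kernel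

theorem triple_perms : ∀ c, ∀ π : Perm (Fin 3), ∃ τ, τ * zP c = zP c * τ ∧
    ∀ k, τ * lP c k * τ⁻¹ = lP c (π k) := by decide +kernel

theorem triple_cent : ∀ c, ∀ σ : Perm (Fin 6), (∀ k, σ * lP c k = lP c k * σ) →
    σ * zP c = zP c * σ ∧ σ * σ = 1 := by decide +kernel

theorem triple_span : ∀ c, ∀ σ : Perm (Fin 6), (∀ k, σ * lP c k = lP c k * σ) → ∃ p q r : Bool,
    σ = (if p then lP c 0 else 1) * (if q then lP c 1 else 1) * (if r then lP c 2 else 1) := by
  decide +kernel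

theorem cent_exchange : ∀ c, ∀ σ : Perm (Fin 6), σ * zP c = zP c * σ → σ ^ 12 = 1 ∧
    (σ ^ 4 = 1 → (σ * (bP c * cP c) * σ⁻¹ * (bP c * cP c)⁻¹) ^ 4 = 1 →
      ∀ k, σ * lP c k = lP c k * σ) := by decide +kernel

theorem cent_double : ∀ c, ∀ σ : Perm (Fin 6), σ * (xP c * yP c) = xP c * yP c * σ →
    σ ^ 16 = 1 := by decide +kernel

theorem center_trivial : ∀ σ : Perm (Fin 6), (∀ i : Fin 5, σ * swap (Fin.castSucc i) i.succ =
    swap (Fin.castSucc i) i.succ * σ) → σ = 1 := by decide +kernel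

end Cfsg.Agent.SymNineThree
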