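import Cfsg.Agent.Lib.SymNineThree.CentTau
import Cfsg.Agent.Lib.SymNineThree.SixModel
import Cfsg.Agent.S3333

/-!
# The centralizer of an axis

* `Ctx.exists_six_iso` : it is in `N(J)` for all axes, or the kernel at `(1,0,0)` is symmetric of degree six
* `Six E ι c` : the identification of the kernel, `Ctx.exists_six`
-/

set_option autoImplicit false
set_option synthInstance.maxSize 8000
set_option synthInstance.maxHeartbeats 200000

namespace Cfsg.Agent.SymNineThree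

open Cfsg Subgroup
open ThreeCubedSymFour (V3)
open Multiplicative (ofAdd toAdd)
open Equiv (Perm swap)

/-- The first axis. -/
def axA : V3 := (1, 0, 0)
/-- The sign of the second coordinate. -/
def sgnB : Mon := ⟨0, false, false, true, false⟩
/-- The sign of the third coordinate. -/
def sgnC : Mon := ⟨0, false, false, false, true⟩

/-- The stabiliser of the first axis as a dihedral group. -/
def octMon : DihedralGroup 4 → Mon
  | .r i => (tau * sgnB) ^ i.val
  | .sr i => tau * (tau * sgnB) ^ i.val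

theorem octMon_facts : (∀ d d', octMon (d * d') = octMon d * octMon d') ∧
    (∀ d, octMon d = 1 → d = 1) ∧
    (∀ m : Mon, act m axA = axA ↔ ∃ d, octMon d = m) ∧
    sgnB * sgnB = 1 ∧ sgnC * sgnC = 1 ∧ eA * eA = 1 := by
  decide +kernel

theorem axA_stab :
    (∀ m ∈ stab 3 axA axA, m * m * m = 1 → m = 1) ∧ (normKer 3 axA axA).card = 9 ∧
    normFun 3 axA axA axA ≠ 0 ∧ (∀ u, normFun 3 axA axA u = 0 ↔ u.1 = 0) ∧
    (∀ p : V3, p.1 = 0 → p ≠ 0 → Simple 3 axA p) ∧
    (∀ v : V3, v ≠ 0 → Axis v → ∃ m : Mon, act m v = axA) := by decide +kernel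

theorem axA_acts : act sgnB (0, 1, 0) = -(0, 1, 0) ∧ act sgnB ((0, 0, 1) : V3) = (0, 0, 1) ∧
    act sgnC (0, 1, 0) = ((0, 1, 0) : V3) ∧ act sgnC (0, 0, 1) = -(0, 0, 1) ∧
    act tau (0, 1, 0) = ((0, 0, 1) : V3) ∧ act sgnB axA = axA ∧ act sgnC axA = axA ∧ act tau axA = axA ∧
    act eA axA = -axA ∧ act eA (0, 1, 0) = ((0, 1, 0) : V3) ∧ act eA ((0, 0, 1) : V3) = (0, 0, 1) ∧
    sgnB * sgnC = sgnC * sgnB ∧ tau * sgnB * tau = sgnC ∧ sgnB * eA = eA * sgnB ∧
    sgnC * eA = eA * sgnC ∧ tau * eA = eA * tau := by decide +kernel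

/-- The plane as a homomorphism. -/
def planeHom : Multiplicative (ZMod 3 × ZMod 3) →* Perm (Fin 6) where
  toFun i := planeEl i.toAdd
  map_one' := planeEl_props.2.1
  map_mul' i i' := (planeEl_props.1 i.toAdd i'.toAdd).symm

theorem planeEl_neg (i : ZMod 3 × ZMod 3) : planeEl (-i) = (planeEl i)⁻¹ :=
  map_inv planeHom (ofAdd i)

/-- Every subgroup of order nine is conjugate to the plane. -/
theorem exists_conj_plane (S : Subgroup (Perm (Fin 6))) (h9 : Nat.card S = 9) :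
    ∃ g, ∀ x ∈ S, ∃ i, g * x * g⁻¹ = planeEl i := by
  have : Fact (Nat.Prime 3) := ⟨Nat.prime_three⟩
  have hcardP : Nat.card planeHom.range = 9 := by
    rw [← Nat.card_congr (MonoidHom.ofInjective (f := planeHom) ?_).toEquiv]
    · rw [Nat.card_congr Multiplicative.toAdd]
      simp
    · rw [← MonoidHom.ker_eq_bot_iff, eq_bot_iff_forall]
      intro i hi
      have h : planeEl i.toAdd = 1 := hi
      exact Multiplicative.toAdd.injective (planeEl_props.2.2.1 _ h)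
  obtain ⟨Q, hQ⟩ := (IsPGroup.of_card (p := 3) (n := 2) (by rw [hcardP]; rfl)).exists_le_sylow
  obtain ⟨R, hR⟩ := (IsPGroup.of_card (p := 3) (n := 2) (by rw [h9]; rfl)).exists_le_sylow (P := S)
  have hQ9 : Nat.card Q ≤ 9 := by
    obtain ⟨n, hn⟩ := Q.isPGroup'.exists_card_eq
    rw [hn]
    have h2 : 3 ^ n ∣ 720 := by
      rw [← hn]
      refine (Subgroup.card_subgroup_dvd_card _).trans ?_
      rw [Nat.card_eq_fintype_card, Fintype.card_perm]
      decide
    by_contra hh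
    have : 3 ≤ n := by
      by_contra h3
      interval_cases n <;> norm_num at hh
    exact absurd ((pow_dvd_pow 3 this).trans h2) (by norm_num)
  have hPQ : planeHom.range = Q := eq_of_le_of_card_ge hQ (by rw [hcardP]; exact hQ9)
  obtain ⟨g, hg⟩ := MulAction.exists_smul_eq (Perm (Fin 6)) R Q
  refine ⟨g, fun x hx => ?_⟩
  have h1 : g * x * g⁻¹ ∈ planeHom.range := by
    rw [hPQ, ← hg]
    exact ⟨x, hR hx, rfl⟩
  obtain ⟨i, hi⟩ := h1
  exact ⟨i.toAdd, hi.symm⟩

variable {G : Type*} [Group G] {W : Subgroup Mon} {j : Multiplicative V3 →* G} {s : W →* G}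

theorem Setting.el_neg (E : Setting W j s) (u : V3) : el j s (-u) 1 = (el j s u 1)⁻¹ := by
  rw [E.el_inv (one_mem W), inv_one, act_one]

/-- Conjugation of an element of the space. -/
theorem Setting.el_conj_involution (E : Setting W j s) {m : Mon} (hm : m ∈ W) (h : m * m = 1) (u : V3) :
    el j s 0 m * el j s u 1 * el j s 0 m = el j s (act m u) 1 := by
  rw [← E.el_conj hm 0 u]
  congr 1
  rw [E.el_inv hm, show act m⁻¹ (0 : V3) = 0 from (actAdd _).map_zero, neg_zero,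
    inv_eq_of_mul_eq_one_right h]

variable [Finite G]

/-- The centralizers of the axes are small, or the kernel at the first axis is symmetric of degree six. -/
theorem Ctx.exists_six_iso (E : Ctx W j s 3) :
    (∀ v : V3, v ≠ 0 → centralizer ({el j s v 1} : Set G) ≤ normalizer (j.range : Set G)) ∨
    ∃ ι : Perm (Fin 6) →* G, Function.Injective ι ∧
      (∀ σ, ι σ ∈ centralizer ({el j s axA 1} : Set G)) ∧
      (∀ g ∈ centralizer ({el j s axA 1} : Set G), ∃ i : ℕ, ∃ σ, g = el j s axA 1 ^ i * ι σ) ∧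
      (∀ g ∈ centralizer ({el j s axA 1} : Set G), g * g = 1 → g ∈ ι.range) ∧
      (∀ u : V3, u.1 = 0 → el j s u 1 ∈ ι.range) ∧
      (∀ σ u, ι σ = el j s u 1 → u.1 = 0) := by
  have : Fact (Nat.Prime 3) := ⟨Nat.prime_three⟩
  obtain ⟨hmul, hone, himg, hB2, -, -⟩ := octMon_facts
  obtain ⟨h3, h9, hv, hker, hsimp, haxis⟩ := axA_stab
  obtain ⟨L, hLC, hn, hloc, hcardP, hLJ, hinv, hdec, hNP, hPN⟩ := E.exists_plane h3 h9 hv
  set P := planeSub j (normMap 3 axA axA)
  set C := centralizer ({el j s axA 1} : Set G)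
  have hPmem : ∀ u, el j s u 1 ∈ P ↔ u.1 = 0 := fun u => E.mem_planeSub.trans (hker u)
  have hPL : P ≤ L := hloc.PC
  set S := P.subgroupOf L
  have hP3 : IsPGroup 3 P := hloc.isPGroup
  let Psyl : Sylow 3 L := (hP3.comap_subtype (K := L)).toSylow hloc.idx
  have hScard : Nat.card S = 9 := by
    rw [Nat.card_congr (subgroupOfEquivOfLe hPL).toEquiv, hcardP]
  have hS : ∀ {g : L}, g ∈ S ↔ (g : G) ∈ P := Iff.rfl
  have hcentS : centralizer (S : Set L) = S := by
    refine le_antisymm (fun g hg => ?_) (fun g hg h hh => ?_)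
    · obtain ⟨p, hp, z, hz, e⟩ := hloc.self g g.2 fun q hq =>
        (congrArg Subtype.val (hg ⟨q, hPL hq⟩ (hS.2 hq)) :)
      rw [mem_bot.1 hz, mul_one] at e
      exact hS.2 (e ▸ hp)
    · exact Subtype.ext (congrArg Subtype.val (hloc.comm.is_comm.comm ⟨h, hS.1 hh⟩ ⟨g, hS.1 hg⟩) :)
  have hnorm : ∀ g : L, g ∈ normalizer (S : Set L) ↔ (g : G) ∈ normalizer (P : Set G) := fun g => by
    constructor
    · intro hg
      refine mem_normalizer_iff.2 fun x => ⟨fun hx => ?_, fun hx => ?_⟩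
      · exact (mem_normalizer_iff.1 hg ⟨x, hPL hx⟩).1 hx
      · have hxL : x ∈ L := by
          have := L.mul_mem (L.mul_mem (L.inv_mem g.2) (hPL hx)) g.2
          simpa [mul_assoc] using this
        exact (mem_normalizer_iff.1 hg ⟨x, hxL⟩).2 hx
    · exact fun hg => mem_normalizer_iff.2 fun x => mem_normalizer_iff.1 hg x
  obtain ⟨μ, hμ⟩ := E.exists_mu
  let ψ : normalizer (S : Set L) →* Mon := μ.comp (MonoidHom.codRestrict
    (L.subtype.comp (normalizer (S : Set L)).subtype) (normalizer (j.range : Set G))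
    fun n => hNP _ (hLC (n : L).2) ((hnorm _).1 n.2))
  have hψform : ∀ n : normalizer (S : Set L), ∃ v, ((n : L) : G) = el j s v (ψ n) ∧ act (ψ n) axA = axA := by
    intro n
    have hN := hNP _ (hLC (n : L).2) ((hnorm _).1 n.2)
    obtain ⟨v, m, hm, e⟩ := E.exists_normal_form hN
    have e' : ψ n = m := by
      rw [← hμ v m hm (e ▸ hN)]
      exact congrArg μ (Subtype.ext e)
    refine ⟨v, by rw [e', ← e], ?_⟩
    rw [e']
    exact (E.mem_cent_el hm).1 (e ▸ hLC (n : L).2)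
  let oct : DihedralGroup 4 →* Mon := MonoidHom.mk' octMon hmul
  have hoct : Function.Injective oct := (injective_iff_map_eq_one oct).2 hone
  have hψmem : ∀ n, ψ n ∈ oct.range := fun n => by
    obtain ⟨v, -, h⟩ := hψform n
    exact (himg _).1 h
  let f : normalizer (S : Set L) →* DihedralGroup 4 :=
    (MonoidHom.ofInjective hoct).symm.toMonoidHom.comp (ψ.codRestrict _ hψmem)
  have hf : ∀ n, oct (f n) = ψ n := fun n =>
    congrArg Subtype.val ((MonoidHom.ofInjective hoct).apply_symm_apply ⟨ψ n, hψmem n⟩)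
  have hfk : f.ker = S.subgroupOf (normalizer (S : Set L)) := by
    ext n
    rw [MonoidHom.mem_ker, ← hoct.eq_iff, hf, map_one, mem_subgroupOf, hS]
    obtain ⟨v, e, -⟩ := hψform n
    constructor
    · intro h
      rw [h] at e
      rw [e]
      exact hLJ _ (el_mem_range v) (e ▸ (n : L).2)
    · intro h
      obtain ⟨u, -, e'⟩ := E.exists_planeSub h
      exact ((E.el_injective (E.mem rfl) (one_mem W) (e.symm.trans e')).2)
  have hfs : Function.Surjective f := by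
    have hgen : ∀ d, el j s 0 (octMon d) ∈ L := by
      have hi : ∀ m : Mon, m * m = 1 → act m axA = axA → el j s 0 m ∈ L := fun m h2 hm =>
        hinv _ ((E.mem_cent_el (E.mem rfl)).2 hm) (E.sm_sq (E.mem rfl) h2)
      have hR : ∀ i : ℕ, el j s 0 ((tau * sgnB) ^ i) ∈ L := fun i => by
        induction i with
        | zero => rw [pow_zero, el_zero_one]; exact one_mem L
        | succ i ih =>
          have h1 : el j s 0 (tau * sgnB) ∈ L := by
            have := mul_mem (hi tau tau_facts.1 axA_acts.2.2.2.2.2.2.2.1) (hi sgnB hB2 axA_acts.2.2.2.2.2.1)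
            rwa [E.el_mul (E.mem rfl) (E.mem rfl), show act tau (0 : V3) = 0 from (actAdd tau).map_zero,
              add_zero] at this
          have := mul_mem ih h1
          rwa [E.el_mul (E.mem rfl) (E.mem rfl),
            show ∀ m, act m (0 : V3) = 0 from fun m => (actAdd m).map_zero, add_zero, ← pow_succ] at this
      rintro (i | i)
      · exact hR _
      · have := mul_mem (hi tau tau_facts.1 axA_acts.2.2.2.2.2.2.2.1) (hR i.val)
        rwa [E.el_mul (E.mem rfl) (E.mem rfl), show act tau (0 : V3) = 0 from (actAdd tau).map_zero,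
          add_zero] at this
    intro d
    have hdP : el j s 0 (octMon d) ∈ normalizer (P : Set G) :=
      hPN _ (E.el_mem_normalizer (E.mem rfl) 0) (hLC (hgen d))
    refine ⟨⟨(⟨_, hgen d⟩ : L), (hnorm _).2 hdP⟩, hoct ?_⟩
    rw [hf]
    obtain ⟨v, e, -⟩ := hψform ⟨(⟨_, hgen d⟩ : L), (hnorm _).2 hdP⟩
    exact (E.el_injective (E.mem rfl) (E.mem rfl) e).2.symm
  let eN : normalizer (S : Set L) ⧸ S.subgroupOf (normalizer (S : Set L)) ≃* DihedralGroup 4 :=
    (QuotientGroup.quotientMulEquivOfEq hfk.symm).trans (QuotientGroup.quotientKerEquivOfSurjective f hfs)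
  have hcentx : ∀ x ∈ S, x ≠ 1 → centralizer ({x} : Set L) ≤ normalizer (S : Set L) := by
    intro x hx hx1 g hg
    obtain ⟨u, hu, e⟩ := E.exists_planeSub (hS.1 hx)
    have hu0 : u ≠ 0 := fun h => hx1 (Subtype.ext (by rw [e, h, el_zero_one]; rfl))
    refine (hnorm g).2 (hPN _ (E.cent_pair (hsimp u ((hker u).1 hu) hu0) ⟨hLC g.2,
      mem_centralizer_singleton_iff.2 ?_⟩) (hLC g.2))
    have := congrArg Subtype.val (mem_centralizer_singleton_iff.1 hg)
    rwa [← e]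
  rcases S3333.result Psyl S (IsPGroup.toSylow_coe _ _).symm hScard hcentS eN hcentx with hnorm' | hiso
  · left
    have hC : C ≤ normalizer (j.range : Set G) := by
      intro c hc
      obtain ⟨i, l, hl, rfl⟩ := hdec c hc
      refine mul_mem (le_normalizer (pow_mem (el_mem_range axA) i)) (hNP l (hLC hl) ((hnorm ⟨l, hl⟩).1 ?_))
      rw [normalizer_eq_top_iff.2 hnorm']
      exact mem_top _
    intro v hv
    rcases E.cent_or_axis hv with h | ⟨-, h⟩
    · exact h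
    obtain ⟨m, hmv⟩ := haxis v hv h
    intro g hg
    have hmW : m ∈ W := E.mem rfl
    have h1 : el j s 0 m * g * (el j s 0 m)⁻¹ ∈ C := by
      refine mem_centralizer_singleton_iff.2 ?_
      rw [← hmv, ← E.el_conj hmW 0]
      exact ((show Commute g (el j s v 1) from mem_centralizer_singleton_iff.1 hg).map
        (MulAut.conj (el j s 0 m)).toMonoidHom).eq
    have h3 := E.el_mem_normalizer hmW 0
    have := mul_mem (mul_mem (inv_mem h3) (hC h1)) h3
    simpa [mul_assoc] using this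
  · right
    obtain ⟨e⟩ := hiso
    let ι : Perm (Fin 6) →* G := L.subtype.comp e.symm.toMonoidHom
    have hrange : ι.range = L := by
      refine le_antisymm ?_ fun g hg => ⟨e ⟨g, hg⟩, by simp [ι]⟩
      rintro _ ⟨σ, rfl⟩
      exact (e.symm σ).2
    refine ⟨ι, fun a b h => e.symm.injective (Subtype.ext h), fun σ => hLC (hrange ▸ ⟨σ, rfl⟩),
      fun g hg => ?_, fun g hg hg2 => hrange.symm ▸ hinv g hg hg2,
      fun u hu => hrange.symm ▸ hPL ((hPmem u).2 hu), fun σ u h => ?_⟩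
    · obtain ⟨i, l, hl, rfl⟩ := hdec g hg
      exact ⟨i, e ⟨l, hl⟩, by simp [ι]⟩
    · exact (hPmem u).1 (hLJ _ (el_mem_range u) (hrange ▸ ⟨σ, h⟩))

/-- The kernel at the first axis with its coordinates. -/
structure Six (E : Ctx W j s 3) (ι : Perm (Fin 6) →* G) (c : Bool) : Prop where
  inj : Function.Injective ι
  cent : ∀ σ, ι σ ∈ centralizer ({el j s axA 1} : Set G)
  dec : ∀ g ∈ centralizer ({el j s axA 1} : Set G), ∃ i : ℕ, ∃ σ, g = el j s axA 1 ^ i * ι σ
  val_b : ι (bP c) = el j s (0, 1, 0) 1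
  val_c : ι (cP c) = el j s (0, 0, 1) 1
  val_x : ι (xP c) = el j s 0 sgnB
  val_y : ι (yP c) = el j s 0 sgnC
  val_z : ι (zP c) = el j s 0 tau
  comm_e : ∀ σ, Commute (el j s 0 eA) (ι σ)

theorem adjacent_closure {T : Submonoid (Perm (Fin 6))}
    (h : ∀ i : Fin 5, swap (Fin.castSucc i) i.succ ∈ T) (σ : Perm (Fin 6)) : σ ∈ T := by
  have h1 : Submonoid.closure (Set.range fun i : Fin 5 => swap (Fin.castSucc i) i.succ) ≤ T :=
    Submonoid.closure_le.2 (by rintro _ ⟨i, rfl⟩; exact h i)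
  rw [Equiv.Perm.mclosure_swap_castSucc_succ] at h1
  exact h1 (Submonoid.mem_top σ)

theorem Ctx.exists_six (E : Ctx W j s 3) :
    (∀ v : V3, v ≠ 0 → centralizer ({el j s v 1} : Set G) ≤ normalizer (j.range : Set G)) ∨
    ∃ ι c, Six E ι c := by
  rcases E.exists_six_iso with hsmall | ⟨ι₀, hinj₀, hcent₀, hdec₀, hinv₀, hplane₀, hplane₀'⟩
  · exact Or.inl hsmall
  right
  obtain ⟨-, -, -, hB2, hC2, hA2⟩ := octMon_facts
  obtain ⟨aBb, aBc, aCb, aCc, atb, aBa, aCa, ata, aAa, aAb, aAc, hBC, htB, hBA, hCA, htA⟩ := axA_acts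
  obtain ⟨hpadd, hp0, hp1, hpc, hpn⟩ := planeEl_props
  -- the plane
  have hS : ∃ ι : Perm (Fin 6) →* G, Function.Injective ι ∧
      (∀ σ, ι σ ∈ centralizer ({el j s axA 1} : Set G)) ∧
      (∀ g ∈ centralizer ({el j s axA 1} : Set G), ∃ i : ℕ, ∃ σ, g = el j s axA 1 ^ i * ι σ) ∧
      (∀ g ∈ centralizer ({el j s axA 1} : Set G), g * g = 1 → g ∈ ι.range) ∧
      (∀ u : V3, u.1 = 0 → ∃ i, ι (planeEl i) = el j s u 1) ∧
      (∀ i, ∃ u : V3, u.1 = 0 ∧ ι (planeEl i) = el j s u 1) := by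
    set P₀ := (planeSub j (normMap 3 axA axA)).comap ι₀
    have hP₀ : ∀ σ, σ ∈ P₀ ↔ ∃ u : V3, u.1 = 0 ∧ ι₀ σ = el j s u 1 := fun σ => by
      constructor
      · intro h
        obtain ⟨u, hu, e⟩ := E.exists_planeSub h
        exact ⟨u, (axA_stab.2.2.2.1 u).1 hu, e⟩
      · rintro ⟨u, hu, e⟩
        show ι₀ σ ∈ planeSub j (normMap 3 axA axA)
        rw [e]
        exact E.mem_planeSub.2 ((axA_stab.2.2.2.1 u).2 hu)
    have h9 : Nat.card P₀ = 9 := by
      have hle : planeSub j (normMap 3 axA axA) ≤ ι₀.range := fun g hg => by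
        obtain ⟨u, hu, rfl⟩ := E.exists_planeSub hg
        exact hplane₀ u ((axA_stab.2.2.2.1 u).1 hu)
      rw [← card_map_of_injective hinj₀ (K := P₀), map_comap_eq_self hle, E.card_planeSub,
        ← axA_stab.2.1, normKer]
      rfl
    obtain ⟨g, hg⟩ := exists_conj_plane P₀ h9
    refine ⟨ι₀.comp (MulAut.conj g⁻¹).toMonoidHom, hinj₀.comp (MulAut.conj g⁻¹).injective,
      fun σ => hcent₀ _, fun y hy => ?_, fun y hy hy2 => ?_, fun u hu => ?_, fun i => ?_⟩
    · obtain ⟨i, σ, e⟩ := hdec₀ y hy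
      exact ⟨i, g * σ * g⁻¹, by rw [e]; simp [mul_assoc]⟩
    · obtain ⟨σ, e⟩ := hinv₀ y hy hy2
      exact ⟨g * σ * g⁻¹, by rw [← e]; simp [mul_assoc]⟩
    · obtain ⟨σ, e⟩ := hplane₀ u hu
      obtain ⟨i, hi⟩ := hg σ ((hP₀ σ).2 ⟨u, hu, e⟩)
      exact ⟨i, by rw [← e, ← hi]; simp [mul_assoc]⟩
    · -- the nine elements exhaust the plane
      let F : P₀ → ZMod 3 × ZMod 3 := fun σ => (hg σ σ.2).choose
      have hF : ∀ σ : P₀, g * (σ : Perm (Fin 6)) * g⁻¹ = planeEl (F σ) := fun σ => (hg σ σ.2).choose_spec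
      have hFb : Function.Bijective F := by
        rw [Nat.bijective_iff_injective_and_card]
        exact ⟨fun a b h => Subtype.ext (by simpa using (hF a).trans ((congrArg planeEl h).trans (hF b).symm)),
          by rw [h9]; simp⟩
      obtain ⟨σ, rfl⟩ := hFb.2 i
      obtain ⟨u, hu, e⟩ := (hP₀ _).1 σ.2
      exact ⟨u, hu, by rw [← e, ← hF σ]; simp [mul_assoc]⟩
  obtain ⟨ι₁, hinj₁, hcent₁, hdec₁, hinv₁, hpl₁, hpl₁'⟩ := hS
  have hlift : ∀ m : Mon, m * m = 1 → act m axA = axA → ∃ σ, ι₁ σ = el j s 0 m ∧ σ * σ = 1 := by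
    intro m h2 hm
    obtain ⟨σ, e⟩ := hinv₁ _ ((E.mem_cent_el (E.mem rfl)).2 hm) (E.sm_sq (E.mem rfl) h2)
    exact ⟨σ, e, hinj₁ (by rw [map_mul, map_one, e, E.sm_sq (E.mem rfl) h2])⟩
  have hact : ∀ {m : Mon}, m * m = 1 → ∀ {σ : Perm (Fin 6)}, ι₁ σ = el j s 0 m →
      ∀ {p : Perm (Fin 6)} {u}, ι₁ p = el j s u 1 → ι₁ (σ * p * σ) = el j s (act m u) 1 := by
    intro m h2 σ e p u e'
    rw [map_mul, map_mul, e, e', E.el_conj_involution (E.mem rfl) h2]
  obtain ⟨x₁, hx, hx2⟩ := hlift sgnB hB2 aBa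
  obtain ⟨y₁, hy, hy2⟩ := hlift sgnC hC2 aCa
  obtain ⟨z₁, hz, hz2⟩ := hlift tau tau_facts.1 ata
  obtain ⟨ib, hb⟩ := hpl₁ (0, 1, 0) rfl
  obtain ⟨ic, hc⟩ := hpl₁ (0, 0, 1) rfl
  have hne : ∀ u : V3, u ≠ 0 → ∀ {i}, ι₁ (planeEl i) = el j s u 1 → i ≠ 0 := by
    intro u hu i e h
    rw [h, hp0, map_one] at e
    exact hu ((E.el_eq_one_iff (one_mem W)).1 e.symm).1
  have hib := hne _ (by simp) hb
  have hic := hne _ (by simp) hc
  have hxb : x₁ * planeEl ib * x₁ = planeEl (-ib) := hinj₁ (by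
    rw [hact hB2 hx hb, aBb, E.el_neg, planeEl_neg, map_inv, hb])
  have hxc : x₁ * planeEl ic * x₁ = planeEl ic := hinj₁ (by rw [hact hB2 hx hc, aBc, hc])
  have hxn : ∀ i, ∃ i', x₁ * planeEl i * x₁ = planeEl i' := by
    intro i
    obtain ⟨u, hu, e⟩ := hpl₁' i
    obtain ⟨i', e'⟩ := hpl₁ (act sgnB u) (by
      have key : ∀ u : V3, u.1 = 0 → (act sgnB u).1 = 0 := by decide +kernel
      exact key u hu)
    exact ⟨i', hinj₁ (by rw [hact hB2 hx e, e'])⟩
  obtain ⟨n, c, hn⟩ := sign_normalize x₁ hx2 hxn ⟨ic, hic, hxc⟩ ⟨ib, hib, hxb⟩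
  -- coordinates
  obtain ⟨jb, hjb⟩ := hpn n ib
  obtain ⟨jc, hjc⟩ := hpn n ic
  have hjb0 : jb ≠ 0 := fun h => hib (hp1 _ (by
    rw [h, hp0] at hjb
    exact conj_eq_one_iff.1 hjb))
  have hjc0 : jc ≠ 0 := fun h => hic (hp1 _ (by
    rw [h, hp0] at hjc
    exact conj_eq_one_iff.1 hjc))
  have hxbn : xP c * planeEl jb * xP c = planeEl (-jb) := by
    rw [← hn, planeEl_neg, ← hjb, conj_inv, ← planeEl_neg, ← hxb]; group
  have hxcn : xP c * planeEl jc * xP c = planeEl jc := by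
    rw [← hn, ← hjc]
    conv_rhs => rw [← hxc]
    group
  obtain ⟨n', hn'x, hn'b, hn'c⟩ := coord_normalize c jb jc hjb0 hjc0 hxbn hxcn
  set k := normEl n' * normEl n with hk
  have hkx : k * x₁ * k⁻¹ = xP c := by rw [hk, ← hn'x, ← hn]; group
  have hkb : k * planeEl ib * k⁻¹ = bP c := by rw [hk, ← hn'b, ← hjb]; group
  have hkc : k * planeEl ic * k⁻¹ = cP c := by rw [hk, ← hn'c, ← hjc]; group
  -- the second sign
  have hrel : ∀ {σ τ ρ : Perm (Fin 6)}, σ * τ * σ = ρ → (k * σ * k⁻¹) * (k * τ * k⁻¹) * (k * σ * k⁻¹) =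
      k * ρ * k⁻¹ := fun {σ τ ρ} h => by rw [← h]; group
  have hyb : k * y₁ * k⁻¹ * bP c = bP c * (k * y₁ * k⁻¹) := by
    have h1 : y₁ * planeEl ib * y₁ = planeEl ib := hinj₁ (by rw [hact hC2 hy hb, aCb, hb])
    have h2 : y₁ * planeEl ib = planeEl ib * y₁ := by
      calc y₁ * planeEl ib = y₁ * planeEl ib * (y₁ * y₁) := by rw [hy2, mul_one]
        _ = y₁ * planeEl ib * y₁ * y₁ := by group
        _ = _ := by rw [h1]
    rw [← hkb]
    calc k * y₁ * k⁻¹ * (k * planeEl ib * k⁻¹) = k * (y₁ * planeEl ib) * k⁻¹ := by group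
      _ = _ := by rw [h2]; group
  have hyc : k * y₁ * k⁻¹ * cP c * (k * y₁ * k⁻¹) = (cP c)⁻¹ := by
    rw [← hkc, hrel (hinj₁ (by rw [hact hC2 hy hc, aCc, E.el_neg, map_inv, hc]) :
      y₁ * planeEl ic * y₁ = (planeEl ic)⁻¹), conj_inv]
  have hyx : k * y₁ * k⁻¹ * xP c = xP c * (k * y₁ * k⁻¹) := by
    have h1 : y₁ * x₁ = x₁ * y₁ := hinj₁ (by
      rw [map_mul, map_mul, hx, hy, E.el_mul (E.mem rfl) (E.mem rfl), E.el_mul (E.mem rfl) (E.mem rfl)]
      simp only [show ∀ m, act m (0 : V3) = 0 from fun m => (actAdd m).map_zero, hBC])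
    rw [← hkx]
    calc k * y₁ * k⁻¹ * (k * x₁ * k⁻¹) = k * (y₁ * x₁) * k⁻¹ := by group
      _ = _ := by rw [h1]; group
  have hy2' : k * y₁ * k⁻¹ * (k * y₁ * k⁻¹) = 1 := by
    calc k * y₁ * k⁻¹ * (k * y₁ * k⁻¹) = k * (y₁ * y₁) * k⁻¹ := by group
      _ = 1 := by rw [hy2]; group
  obtain ⟨l, hl⟩ := second_normalize c _ hy2' hyb hyc hyx
  obtain ⟨-, hlx, hlb⟩ := coord_power_facts c l
  set q := cP c ^ (l : ℕ) with hq
  set g := q * k with hg
  let ι : Perm (Fin 6) →* G := ι₁.comp (MulAut.conj g⁻¹).toMonoidHom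
  have hι : ∀ {σ τ}, g * τ * g⁻¹ = σ → ι σ = ι₁ τ := fun {σ τ} e => by
    show ι₁ (g⁻¹ * σ * g⁻¹⁻¹) = _
    rw [← e]; congr 1; group
  have hgx : g * x₁ * g⁻¹ = xP c := by
    calc g * x₁ * g⁻¹ = q * (k * x₁ * k⁻¹) * q⁻¹ := by rw [hg]; group
      _ = _ := by rw [hkx, hlx.eq, mul_inv_cancel_right]
  have hgb : g * planeEl ib * g⁻¹ = bP c := by
    calc g * planeEl ib * g⁻¹ = q * (k * planeEl ib * k⁻¹) * q⁻¹ := by rw [hg]; group
      _ = _ := by rw [hkb, hlb.eq, mul_inv_cancel_right]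
  have hgc : g * planeEl ic * g⁻¹ = cP c := by
    calc g * planeEl ic * g⁻¹ = q * (k * planeEl ic * k⁻¹) * q⁻¹ := by rw [hg]; group
      _ = _ := by rw [hkc, hq, ((Commute.refl (cP c)).pow_left _).eq, mul_inv_cancel_right]
  have hgy : g * y₁ * g⁻¹ = yP c := by
    calc g * y₁ * g⁻¹ = q * (k * y₁ * k⁻¹) * q⁻¹ := by rw [hg]; group
      _ = _ := hl
  have vb : ι (bP c) = el j s (0, 1, 0) 1 := (hι hgb).trans hb
  have vc : ι (cP c) = el j s (0, 0, 1) 1 := (hι hgc).trans hc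
  have vx : ι (xP c) = el j s 0 sgnB := (hι hgx).trans hx
  have vy : ι (yP c) = el j s 0 sgnC := (hι hgy).trans hy
  have hinj : Function.Injective ι := hinj₁.comp (MulAut.conj g⁻¹).injective
  have vz : ι (zP c) = el j s 0 tau := by
    have hvz : ι (g * z₁ * g⁻¹) = el j s 0 tau := (hι rfl).trans hz
    rw [← exchange_unique c (g * z₁ * g⁻¹) ?_ (hinj ?_) (hinj ?_)]
    · exact hvz
    · calc g * z₁ * g⁻¹ * (g * z₁ * g⁻¹) = g * (z₁ * z₁) * g⁻¹ := by group
        _ = 1 := by rw [hz2]; group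
    · rw [map_mul, map_mul, hvz, vx, vy, E.el_mul (E.mem rfl) (E.mem rfl),
        E.el_mul (E.mem rfl) (E.mem rfl)]
      simp only [show ∀ m, act m (0 : V3) = 0 from fun m => (actAdd m).map_zero, add_zero, htB]
    · rw [map_mul, map_mul, hvz, vb, vc, E.el_conj_involution (E.mem rfl) tau_facts.1, atb]
  -- the first sign centralizes the kernel
  set e := el j s 0 eA with he
  have he2 : e * e = 1 := E.sm_sq (E.mem rfl) hA2
  have hev : ∀ {σ v m}, ι σ = el j s v m → act eA v = v → m * eA = eA * m → Commute e (ι σ) := by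
    intro σ v m e' hv hm
    rw [e']
    refine (E.el_comm_iff (E.mem rfl) (E.mem rfl)).2 ⟨?_, hm.symm⟩
    rw [hv, show act m (0 : V3) = 0 from (actAdd m).map_zero, zero_add, add_zero]
  have hfix0 : act eA (0 : V3) = 0 := (actAdd eA).map_zero
  let T : Submonoid (Perm (Fin 6)) := (centralizer ({e} : Set G)).toSubmonoid.comap ι
  have hT : ∀ σ, σ ∈ T ↔ Commute e (ι σ) := fun σ =>
    mem_centralizer_singleton_iff.trans ⟨fun h => h.symm, fun h => h.symm⟩
  have hTinv : ∀ {σ}, σ ∈ T → σ⁻¹ ∈ T := fun {σ} h =>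
    (hT _).2 (by rw [map_inv]; exact ((hT σ).1 h).inv_right)
  have tb : bP c ∈ T := (hT _).2 (hev vb aAb (by rw [one_mul, mul_one]))
  have tc : cP c ∈ T := (hT _).2 (hev vc aAc (by rw [one_mul, mul_one]))
  have tx : xP c ∈ T := (hT _).2 (hev vx hfix0 hBA)
  have ty : yP c ∈ T := (hT _).2 (hev vy hfix0 hCA)
  have tz : zP c ∈ T := (hT _).2 (hev vz hfix0 htA)
  obtain ⟨h12, h45, h01, h34⟩ := adjacent_facts c
  have t12 : swap (1 : Fin 6) 2 ∈ T := by
    rw [h12]; split_ifs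
    exacts [T.mul_mem (T.mul_mem tx ty) tz, tx]
  have t45 : swap (4 : Fin 6) 5 ∈ T := by
    rw [h45]; split_ifs
    exacts [tz, ty]
  have tconj : ∀ {σ τ}, σ ∈ T → τ ∈ T → σ * τ * σ⁻¹ ∈ T := fun hσ hτ =>
    T.mul_mem (T.mul_mem hσ hτ) (hTinv hσ)
  have t01 : swap (0 : Fin 6) 1 ∈ T := by
    rw [h01]; split_ifs
    exacts [tconj (T.mul_mem tb tc) t12, tconj (hTinv tb) t12]
  have t34 : swap (3 : Fin 6) 4 ∈ T := by
    rw [h34]; split_ifs
    exacts [tconj (T.mul_mem (hTinv tb) tc) t45, tconj (hTinv tc) t45]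
  have t23 : swap (2 : Fin 6) 3 ∈ T := by
    obtain ⟨m1, m2, m3, m4, m5⟩ := middle_relations
    have heinv : e⁻¹ = e := inv_eq_of_mul_eq_one_right he2
    set y := ι (swap (2 : Fin 6) 3) with hydef
    have hy2 : e * y * e⁻¹ * (e * y * e⁻¹) = 1 := by
      calc e * y * e⁻¹ * (e * y * e⁻¹) = e * (y * y) * e⁻¹ := by group
        _ = 1 := by rw [hydef, ← map_mul, m1, map_one]; group
    have hea : e * el j s axA 1 * e⁻¹ = (el j s axA 1)⁻¹ := by rw [E.el_conj (E.mem rfl), aAa, E.el_neg]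
    obtain ⟨σ', hσ'⟩ := hinv₁ (e * y * e⁻¹) (by
      refine mem_centralizer_singleton_iff.2 ?_
      have hcy : Commute y (el j s axA 1)⁻¹ :=
        (show Commute y (el j s axA 1) from mem_centralizer_singleton_iff.1 (hcent₁ _)).inv_right
      have h := (hcy.map (MulAut.conj e).toMonoidHom).eq
      simp only [MulEquiv.toMonoidHom_eq_coe, MonoidHom.coe_coe, MulAut.conj_apply] at h
      rwa [show e * (el j s axA 1)⁻¹ * e⁻¹ = el j s axA 1 by rw [← conj_inv, hea, inv_inv]] at h) hy2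
    set σ := g * σ' * g⁻¹
    have hσ : ι σ = e * y * e⁻¹ := (hι rfl).trans hσ'
    have hfix : ∀ {τ}, τ ∈ T → e * ι τ * e⁻¹ = ι τ := fun {τ} h => by
      rw [((hT τ).1 h).eq, mul_inv_cancel_right]
    have hmid : σ = swap 2 3 := by
      refine middle_unique σ (hinj (by rw [map_mul, map_one, hσ]; exact hy2))
        (hinj ?_) (hinj ?_) (hinj ?_) (hinj ?_)
      · rw [map_mul ι σ, map_mul ι _ σ, hσ, ← hfix t01]
        calc e * y * e⁻¹ * (e * ι (swap 0 1) * e⁻¹) = e * (y * ι (swap 0 1)) * e⁻¹ := by group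
          _ = _ := by rw [hydef, ← map_mul, m2, map_mul]; group
      · rw [map_mul ι σ, map_mul ι _ σ, hσ, ← hfix t45]
        calc e * y * e⁻¹ * (e * ι (swap 4 5) * e⁻¹) = e * (y * ι (swap 4 5)) * e⁻¹ := by group
          _ = _ := by rw [hydef, ← map_mul, m3, map_mul]; group
      · rw [map_pow, map_mul ι σ, hσ, ← hfix t12, map_one,
          show e * y * e⁻¹ * (e * ι (swap 1 2) * e⁻¹) = e * (y * ι (swap 1 2)) * e⁻¹ by group, conj_pow,
          hydef, ← map_mul, ← map_pow, m4, map_one, mul_one, mul_inv_cancel]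
      · rw [map_pow, map_mul ι σ, hσ, ← hfix t34, map_one,
          show e * y * e⁻¹ * (e * ι (swap 3 4) * e⁻¹) = e * (y * ι (swap 3 4)) * e⁻¹ by group, conj_pow,
          hydef, ← map_mul, ← map_pow, m5, map_one, mul_one, mul_inv_cancel]
    rw [hmid] at hσ
    refine (hT _).2 ?_
    show e * y = y * e
    exact mul_inv_eq_iff_eq_mul.1 hσ.symm
  have hall : ∀ σ, σ ∈ T := adjacent_closure fun i => by
    fin_cases i
    exacts [t01, t12, t23, t34, t45]
  refine ⟨ι, c, hinj, fun σ => hcent₁ _, fun y hy' => ?_, vb, vc, vx, vy, vz, fun σ => (hT σ).1 (hall σ)⟩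
  obtain ⟨i, σ, e'⟩ := hdec₁ y hy'
  exact ⟨i, g * σ * g⁻¹, by rw [e']; congr 1; exact ((hι rfl)).symm⟩

end Cfsg.Agent.SymNineThree
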