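import Cfsg.Agent.Lib.SymNineThree.Setup

/-!
# Elements of the normalizer of `J`

* `inKind`, `exists_kind` : the four possible automizers
* `el` : the elements, with their calculus (`el_mul`, `el_eq_iff`, `el_comm_iff`, `el_conj`)
* `Ctx.cent_space`, `Ctx.mem_J_iff_three` : centralizer of `J`, elements of order a power of three
-/

set_option autoImplicit false
set_option synthInstance.maxSize 8000
set_option synthInstance.maxHeartbeats 200000

namespace Cfsg.Agent.SymNineThree

open Cfsg Subgroup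
open ThreeCubedSymFour (V3)
open Multiplicative (ofAdd toAdd)

/-- Membership in the four automizers. -/
def inKind (k : Fin 4) (m : Mon) : Bool :=
  match k with
  | 0 => !(m.s || m.t || m.u)
  | 1 => (m.s == m.t) && (m.t == m.u)
  | 2 => !(xor (xor m.s m.t) m.u)
  | 3 => true

theorem inKind_mul : ∀ k m n, inKind k m = true → inKind k n = true → inKind k (m * n) = true := by
  decide +kernel

theorem inKind_one : ∀ k, inKind k 1 = true := by decide +kernel

theorem inKind_inv : ∀ k m, inKind k m = true → inKind k m⁻¹ = true := by decide +kernel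

theorem inKind_perm : ∀ k r b, inKind k (Mon.perm r b) = true := by decide +kernel

/-- The diagonal with the signs of an element. -/
def diagOf (m : Mon) : Mon := ⟨0, false, m.s, m.t, m.u⟩

theorem diag_split : ∀ m : Mon, diagOf m * Mon.perm m.r m.w = m := by decide +kernel

theorem diag_shapes : ∀ d : Mon, d.r = 0 → d.w = false → d = 1 ∨ d = negOne ∨
    ∃ r, Mon.perm r false * d * (Mon.perm r false)⁻¹ = eA ∨
      Mon.perm r false * d * (Mon.perm r false)⁻¹ = eBC := by decide +kernel

theorem kind_closure : (eBC * negOne = eA) ∧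
    ∀ d : Mon, d.r = 0 → d.w = false →
      (inKind 0 d = true → d = 1) ∧ (inKind 1 d = true → d = 1 ∨ d = negOne) ∧
      (inKind 2 d = true → d = 1 ∨ ∃ r, Mon.perm r false * eBC * (Mon.perm r false)⁻¹ = d) ∧
      (∃ r r' r'', (d = 1 ∨ d = Mon.perm r false * eA * (Mon.perm r false)⁻¹ ∨
        d = Mon.perm r false * eA * (Mon.perm r false)⁻¹ *
          (Mon.perm r' false * eA * (Mon.perm r' false)⁻¹) ∨
        d = Mon.perm r false * eA * (Mon.perm r false)⁻¹ *
          (Mon.perm r' false * eA * (Mon.perm r' false)⁻¹) *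
          (Mon.perm r'' false * eA * (Mon.perm r'' false)⁻¹))) := by decide +kernel

/-- The automizer is one of four. -/
theorem exists_kind (W : Subgroup Mon) (hperm : ∀ r b, Mon.perm r b ∈ W) :
    ∃ k, ∀ m, m ∈ W ↔ inKind k m = true := by
  classical
  obtain ⟨hne, hcl⟩ := kind_closure
  have hiff : ∀ m, m ∈ W ↔ diagOf m ∈ W := fun m => by
    conv_lhs => rw [← diag_split m]
    exact ⟨fun h => by simpa using mul_mem h (inv_mem (hperm m.r m.w)), fun h => mul_mem h (hperm _ _)⟩
  have hkind : ∀ k m, inKind k m = inKind k (diagOf m) := by decide +kernel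
  suffices ∃ k, ∀ d : Mon, d.r = 0 → d.w = false → (d ∈ W ↔ inKind k d = true) by
    obtain ⟨k, hk⟩ := this
    exact ⟨k, fun m => by rw [hiff, hkind, hk _ rfl rfl]⟩
  have hconj : ∀ r d, d ∈ W → Mon.perm r false * d * (Mon.perm r false)⁻¹ ∈ W := fun r d h =>
    mul_mem (mul_mem (hperm _ _) h) (inv_mem (hperm _ _))
  have hback : ∀ r d, Mon.perm r false * d * (Mon.perm r false)⁻¹ ∈ W → d ∈ W := fun r d h => by
    have := mul_mem (mul_mem (inv_mem (hperm r false)) h) (hperm r false)
    simpa [mul_assoc] using this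
  by_cases hA : eA ∈ W
  · refine ⟨3, fun d hr hw => iff_of_true ?_ rfl⟩
    obtain ⟨r, r', r'', h | h | h | h⟩ := (hcl d hr hw).2.2.2 <;> rw [h]
    exacts [one_mem W, hconj r _ hA, mul_mem (hconj r _ hA) (hconj r' _ hA),
      mul_mem (mul_mem (hconj r _ hA) (hconj r' _ hA)) (hconj r'' _ hA)]
  by_cases hB : eBC ∈ W
  · have hN : negOne ∉ W := fun h => hA (hne ▸ mul_mem hB h)
    refine ⟨2, fun d hr hw => ⟨fun h => ?_, fun h => ?_⟩⟩
    · by_contra hh
      rcases diag_shapes d hr hw with rfl | rfl | ⟨r, e | e⟩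
      · exact hh (inKind_one 2)
      · exact hN h
      · exact hA (e ▸ hconj r d h)
      · refine hh ?_
        have : ∀ d r, d.r = 0 → d.w = false → Mon.perm r false * d * (Mon.perm r false)⁻¹ = eBC →
            inKind 2 d = true := by decide +kernel
        exact this d r hr hw e
    · rcases (hcl d hr hw).2.2.1 h with rfl | ⟨r, e⟩
      · exact one_mem W
      · exact e ▸ hconj r _ hB
  have hone : ∀ d, d ∈ W → d.r = 0 → d.w = false → d = 1 ∨ d = negOne := fun d h hr hw => by
    rcases diag_shapes d hr hw with e | e | ⟨r, e | e⟩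
    exacts [Or.inl e, Or.inr e, absurd (e ▸ hconj r d h) hA, absurd (e ▸ hconj r d h) hB]
  by_cases hN : negOne ∈ W
  · refine ⟨1, fun d hr hw => ⟨fun h => ?_, fun h => ?_⟩⟩
    · rcases hone d h hr hw with rfl | rfl <;> rfl
    · rcases (hcl d hr hw).2.1 h with rfl | rfl
      exacts [one_mem W, hN]
  · refine ⟨0, fun d hr hw => ⟨fun h => ?_, fun h => ?_⟩⟩
    · rcases hone d h hr hw with rfl | rfl
      exacts [rfl, absurd h hN]
    · rw [(hcl d hr hw).1 h]; exact one_mem W

section Elements

variable {G : Type*} [Group G]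

open Classical in
/-- The complement, extended. -/
noncomputable def sm {W : Subgroup Mon} (s : W →* G) (m : Mon) : G :=
  if h : m ∈ W then s ⟨m, h⟩ else 1

/-- An element of the normalizer. -/
noncomputable def el {W : Subgroup Mon} (j : Multiplicative V3 →* G) (s : W →* G) (v : V3) (m : Mon) : G :=
  j (ofAdd v) * sm s m

/-- The setting with the kind of the automizer. -/
structure Ctx (W : Subgroup Mon) (j : Multiplicative V3 →* G) (s : W →* G) (k : Fin 4) : Prop
    extends Setting W j s where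
  kind : ∀ m, m ∈ W ↔ inKind k m = true

variable {W : Subgroup Mon} {j : Multiplicative V3 →* G} {s : W →* G} {k : Fin 4}

theorem Ctx.mem (E : Ctx W j s k) {m : Mon} (h : inKind k m = true) : m ∈ W := (E.kind m).2 h

theorem sm_mem {m : Mon} (h : m ∈ W) : sm s m = s ⟨m, h⟩ := dif_pos h

theorem sm_one : sm s 1 = 1 := by rw [sm_mem (one_mem W)]; exact map_one s

theorem sm_mul {m n : Mon} (hm : m ∈ W) (hn : n ∈ W) : sm s (m * n) = sm s m * sm s n := by
  rw [sm_mem hm, sm_mem hn, sm_mem (mul_mem hm hn), ← map_mul]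
  rfl

theorem sm_inv {m : Mon} (hm : m ∈ W) : sm s m⁻¹ = (sm s m)⁻¹ :=
  eq_inv_of_mul_eq_one_left (by rw [← sm_mul (inv_mem hm) hm, inv_mul_cancel, sm_one])

theorem el_one_right (v : V3) : el j s v 1 = j (ofAdd v) := by rw [el, sm_one, mul_one]

theorem el_zero_left (m : Mon) : el j s 0 m = sm s m := by rw [el, ofAdd_zero, map_one, one_mul]

theorem el_zero_one : el j s 0 1 = 1 := by rw [el_one_right, ofAdd_zero, map_one]

theorem el_mem_range (v : V3) : el j s v 1 ∈ j.range := ⟨ofAdd v, (el_one_right v).symm⟩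

theorem exists_el {g : G} (h : g ∈ j.range) : ∃ v, g = el j s v 1 := by
  obtain ⟨v, rfl⟩ := h
  exact ⟨v.toAdd, (el_one_right _).symm⟩

variable (E : Setting W j s)

include E

theorem Setting.sm_conj {m : Mon} (hm : m ∈ W) (v : V3) :
    sm s m * j (ofAdd v) = j (ofAdd (act m v)) * sm s m := by
  rw [sm_mem hm, ← E.conj ⟨m, hm⟩ v, inv_mul_cancel_right]

theorem Setting.el_mul {m n : Mon} (hm : m ∈ W) (hn : n ∈ W) (v u : V3) :
    el j s v m * el j s u n = el j s (v + act m u) (m * n) := by
  rw [el, el, el, ofAdd_add, map_mul, sm_mul hm hn]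
  calc j (ofAdd v) * sm s m * (j (ofAdd u) * sm s n)
      = j (ofAdd v) * (sm s m * j (ofAdd u)) * sm s n := by group
    _ = j (ofAdd v) * (j (ofAdd (act m u)) * sm s m) * sm s n := by rw [E.sm_conj hm]
    _ = _ := by group

theorem Setting.el_inv {m : Mon} (hm : m ∈ W) (v : V3) :
    (el j s v m)⁻¹ = el j s (-act m⁻¹ v) m⁻¹ := by
  refine inv_eq_of_mul_eq_one_right ?_
  rw [E.el_mul hm (inv_mem hm), mul_inv_cancel]
  have : act m (-act m⁻¹ v) = -v := by
    have h := (actAdd m).map_neg (act m⁻¹ v)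
    rw [show actAdd m (-act m⁻¹ v) = act m (-act m⁻¹ v) from rfl] at h
    rw [h]
    show -act m (act m⁻¹ v) = -v
    rw [← act_mul, mul_inv_cancel, act_one]
  rw [this, add_neg_cancel, el_zero_one]

theorem Setting.el_injective {m n : Mon} (hm : m ∈ W) (hn : n ∈ W) {v u : V3}
    (h : el j s v m = el j s u n) : v = u ∧ m = n := by
  have e : m = n := by
    have key : ∀ x, act m x = act n x := fun x => by
      have h1 : el j s v m * el j s x 1 = el j s (v + act m x) m := by
        rw [E.el_mul hm (one_mem W), mul_one]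
      have h2 : el j s u n * el j s x 1 = el j s (u + act n x) n := by
        rw [E.el_mul hn (one_mem W), mul_one]
      have h3 : j (ofAdd (act m x)) * el j s v m = j (ofAdd (act n x)) * el j s u n := by
        rw [← el_one_right (s := s), ← el_one_right (s := s), E.el_mul (one_mem W) hm,
          E.el_mul (one_mem W) hn, act_one, act_one, one_mul, one_mul,
          add_comm (act m x), add_comm (act n x), ← h1, ← h2, h]
      rw [h] at h3
      exact congrArg toAdd (E.inj (mul_right_cancel h3))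
    exact act_ext _ _ (key _) (key _) (key _)
  refine ⟨?_, e⟩
  subst e
  exact congrArg toAdd (E.inj (mul_right_cancel h))

theorem Setting.el_eq_iff {m n : Mon} (hm : m ∈ W) (hn : n ∈ W) {v u : V3} :
    el j s v m = el j s u n ↔ v = u ∧ m = n :=
  ⟨E.el_injective hm hn, fun ⟨h, h'⟩ => by rw [h, h']⟩

theorem Setting.el_eq_one_iff {m : Mon} (hm : m ∈ W) {v : V3} : el j s v m = 1 ↔ v = 0 ∧ m = 1 := by
  rw [← el_zero_one (j := j) (s := s), E.el_eq_iff hm (one_mem W)]

theorem Setting.el_comm_iff {m n : Mon} (hm : m ∈ W) (hn : n ∈ W) {v u : V3} :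
    el j s v m * el j s u n = el j s u n * el j s v m ↔
      v + act m u = u + act n v ∧ m * n = n * m := by
  rw [E.el_mul hm hn, E.el_mul hn hm, E.el_eq_iff (mul_mem hm hn) (mul_mem hn hm)]

theorem Setting.el_comm_space {m : Mon} (hm : m ∈ W) {v u : V3} :
    el j s v m * el j s u 1 = el j s u 1 * el j s v m ↔ act m u = u := by
  rw [E.el_comm_iff hm (one_mem W), act_one, mul_one, one_mul, add_comm u v, add_right_inj]
  simp

theorem Setting.el_conj {m : Mon} (hm : m ∈ W) (v u : V3) :
    el j s v m * el j s u 1 * (el j s v m)⁻¹ = el j s (act m u) 1 := by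
  rw [mul_inv_eq_iff_eq_mul, E.el_mul hm (one_mem W), E.el_mul (one_mem W) hm, act_one, mul_one, one_mul,
    add_comm]

theorem Setting.space_cube {g : G} (hg : g ∈ j.range) : g ^ 3 = 1 := by
  obtain ⟨v, rfl⟩ := hg
  rw [← map_pow, show v ^ 3 = 1 from ?_, map_one]
  obtain ⟨v, rfl⟩ : ∃ u : V3, v = ofAdd u := ⟨v.toAdd, rfl⟩
  revert v
  decide +kernel

theorem Setting.space_comm : IsMulCommutative j.range := ⟨⟨fun a b => Subtype.ext (by
  obtain ⟨u, hu⟩ := a.2
  obtain ⟨v, hv⟩ := b.2
  show (a : G) * b = b * a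
  rw [← hu, ← hv, ← map_mul, ← map_mul, mul_comm])⟩⟩

theorem Setting.space_isPGroup : IsPGroup 3 j.range := fun g =>
  ⟨1, Subtype.ext (by rw [pow_one, SubgroupClass.coe_pow, E.space_cube g.2]; rfl)⟩

theorem Setting.card_space : Nat.card j.range = 27 := by
  rw [← Nat.card_congr (MonoidHom.ofInjective E.inj).toEquiv, Nat.card_congr Multiplicative.toAdd]
  simp [Nat.card_prod, Nat.card_zmod]

theorem Setting.el_mem_normalizer {m : Mon} (hm : m ∈ W) (v : V3) :
    el j s v m ∈ normalizer (j.range : Set G) := by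
  refine mem_normalizer_iff.2 fun x => ⟨fun hx => ?_, fun hx => ?_⟩
  · obtain ⟨u, rfl⟩ := exists_el (s := s) hx
    rw [E.el_conj hm]
    exact el_mem_range _
  · obtain ⟨u, hu⟩ := exists_el (s := s) hx
    have h2 : x = (el j s v m)⁻¹ * el j s u 1 * ((el j s v m)⁻¹)⁻¹ := by rw [← hu]; group
    rw [h2, E.el_inv hm, E.el_conj (inv_mem hm)]
    exact el_mem_range _

theorem Setting.exists_normal_form {g : G} (hg : g ∈ normalizer (j.range : Set G)) :
    ∃ v m, m ∈ W ∧ g = el j s v m := by
  obtain ⟨v, w, rfl⟩ := E.norm g hg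
  exact ⟨v, (w : Mon), w.2, by rw [el, sm_mem w.2]⟩

/-- `C(J) = J`. -/
theorem Setting.cent_space {g : G} (h : ∀ u, g * el j s u 1 = el j s u 1 * g) : g ∈ j.range := by
  have h1 := h ones
  rw [el_one_right] at h1
  obtain ⟨v, w, -, rfl⟩ := E.cent g h1
  have e : j (ofAdd v) * s w = el j s v (w : Mon) := by rw [el, sm_mem w.2]
  rw [e] at h ⊢
  have hw : (w : Mon) = 1 := act_ext _ _ (by rw [(E.el_comm_space w.2).1 (h _), act_one])
    (by rw [(E.el_comm_space w.2).1 (h _), act_one]) (by rw [(E.el_comm_space w.2).1 (h _), act_one])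
  rw [hw]
  exact el_mem_range v

end Elements

theorem pow_twelve : ∀ m : Mon, m * m * m * (m * m * m) * (m * m * m * (m * m * m)) = 1 := by
  decide +kernel

theorem cube_of_three_power {m : Mon} {n : ℕ} (h : m ^ 3 ^ n = 1) : m ^ 3 = 1 := by
  have h12 : m ^ 12 = 1 := by
    rw [← pow_twelve m]
    simp only [pow_succ, pow_zero, one_mul, mul_assoc]
  have h1 := pow_gcd_eq_one.2 ⟨h, h12⟩
  have hd : Nat.gcd (3 ^ n) 12 ∣ 3 := by
    refine (Nat.Coprime.dvd_of_dvd_mul_right ?_ (show Nat.gcd (3 ^ n) 12 ∣ 3 * 4 from Nat.gcd_dvd_right _ _))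
    exact Nat.Coprime.coprime_dvd_left (Nat.gcd_dvd_left _ _) (Nat.Coprime.pow_left n (by norm_num))
  obtain ⟨c, hc⟩ := hd
  rw [hc, pow_mul, h1, one_pow]

section Elements

variable {G : Type*} [Group G] {W : Subgroup Mon} {j : Multiplicative V3 →* G} {s : W →* G}

theorem Setting.el_pow (E : Setting W j s) {m : Mon} (hm : m ∈ W) (v : V3) (n : ℕ) :
    ∃ u, el j s v m ^ n = el j s u (m ^ n) := by
  induction n with
  | zero => exact ⟨0, by rw [pow_zero, pow_zero, el_zero_one]⟩
  | succ n ih =>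
    obtain ⟨u, hu⟩ := ih
    exact ⟨u + act (m ^ n) v, by rw [pow_succ, hu, E.el_mul (pow_mem hm n) hm, ← pow_succ]⟩

/-- An element of order a power of three has an automizer part of order dividing three. -/
theorem Setting.cube_of_el (E : Setting W j s) {m : Mon} (hm : m ∈ W) {v : V3} {n : ℕ}
    (h : el j s v m ^ 3 ^ n = 1) : m ^ 3 = 1 := by
  obtain ⟨u, hu⟩ := E.el_pow hm v (3 ^ n)
  rw [hu, E.el_eq_one_iff (pow_mem hm _)] at h
  exact cube_of_three_power h.2

end Elements

end Cfsg.Agent.SymNineThree
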