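import Cfsg.Agent.Lib.SymNineThree.Centralizers

/-!
# The centralizer of the exchange of two blocks

* `fixT` : the fixed plane of `t = el 0 tau`, `Setting.normalizer_fixT`
* `Ctx.cent_tau_form` : the part of the centralizer in `N(J)`
* `Ctx.cent_tau_le` : the centralizer is in `N(J)` when those of all points are
-/

set_option autoImplicit false
set_option synthInstance.maxSize 8000
set_option synthInstance.maxHeartbeats 200000

namespace Cfsg.Agent.SymNineThree

open Cfsg Subgroup
open ThreeCubedSymFour (V3)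
open Multiplicative (ofAdd toAdd)

/-- `m - 1`. -/
def fixMap (m : Mon) : V3 →+ V3 := actAdd m - AddMonoidHom.id V3

theorem fixMap_eq_zero {m : Mon} {u : V3} : fixMap m u = 0 ↔ act m u = u := sub_eq_zero

theorem tau_facts : tau * tau = 1 ∧ act tau ones = ones ∧ act tau (1, 0, 0) = (1, 0, 0) ∧
    act tau (0, 1, 1) = (0, 1, 1) ∧ (Finset.univ.filter fun u : V3 => act tau u = u).card = 9 ∧
    (∀ m, act m ones = ones → act m (1, 0, 0) = (1, 0, 0) → m = 1 ∨ m = tau) := by decide +kernel

theorem tau_comm : ∀ k m, inKind k m = true → m * tau = tau * m →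
    ∃ b : Bool, ∃ x, (x = 1 ∨ x = eA ∨ x = eBC ∨ x = negOne) ∧ inKind k x = true ∧
      m = x * (if b then tau else 1) := by decide +kernel

theorem diag_tau : ∀ x, (x = 1 ∨ x = eA ∨ x = eBC ∨ x = negOne) → x * tau = tau * x ∧ x * x = 1 := by
  decide +kernel

variable {G : Type*} [Group G] {W : Subgroup Mon} {j : Multiplicative V3 →* G} {s : W →* G} {k : Fin 4}

/-- The fixed plane of the exchange. -/
def fixT (j : Multiplicative V3 →* G) : Subgroup G := planeSub j (fixMap tau)

theorem tau_mem (E : Setting W j s) : tau ∈ W := E.perm 0 true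

theorem Setting.mem_fixT (E : Setting W j s) {u : V3} : el j s u 1 ∈ fixT j ↔ act tau u = u :=
  E.mem_planeSub.trans fixMap_eq_zero

theorem Setting.fixT_le_cent (E : Setting W j s) : fixT j ≤ centralizer ({el j s 0 tau} : Set G) := by
  intro g hg
  obtain ⟨u, hu, rfl⟩ := E.exists_planeSub hg
  exact mem_centralizer_singleton_iff.2 ((E.el_comm_space (tau_mem E)).2 (fixMap_eq_zero.1 hu)).symm

theorem Setting.mem_cent_tau (E : Setting W j s) {m : Mon} (hm : m ∈ W) {w : V3} :
    el j s w m ∈ centralizer ({el j s 0 tau} : Set G) ↔ act tau w = w ∧ m * tau = tau * m := by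
  rw [mem_centralizer_singleton_iff, E.el_comm_iff hm (tau_mem E),
    show act m (0 : V3) = 0 from (actAdd m).map_zero, add_zero, zero_add, eq_comm (a := w)]

theorem Setting.card_fixT (E : Setting W j s) : Nat.card (fixT j) = 9 := by
  rw [fixT, E.card_planeSub]
  have e : (Finset.univ.filter fun u : V3 => fixMap tau u = 0) =
      Finset.univ.filter fun u : V3 => act tau u = u :=
    Finset.filter_congr fun u _ => fixMap_eq_zero
  rw [e]
  exact tau_facts.2.2.2.2.1

theorem Setting.fixT_comm (E : Setting W j s) : IsMulCommutative (fixT j) := ⟨⟨fun a b => Subtype.ext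
  (congrArg Subtype.val (E.space_comm.is_comm.comm ⟨a, planeSub_le _ a.2⟩ ⟨b, planeSub_le _ b.2⟩) :)⟩⟩

theorem Setting.fixT_noncyc (E : Setting W j s) : ¬ IsCyclic (fixT j) := by
  intro hc
  obtain ⟨g, hg⟩ := hc.exists_generator
  have h1 := orderOf_eq_card_of_forall_mem_zpowers hg
  rw [E.card_fixT] at h1
  have h2 : g ^ 3 = 1 := Subtype.ext (by simpa using E.space_cube (planeSub_le _ g.2))
  have := orderOf_dvd_of_pow_eq_one h2
  rw [h1] at this
  norm_num at this

theorem Setting.cent_fixT (E : Setting W j s) [Finite G] {g : G} (hg : ∀ p ∈ fixT j, g * p = p * g) :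
    ∃ w m, m ∈ W ∧ (m = 1 ∨ m = tau) ∧ g = el j s w m := by
  obtain ⟨-, h1, h2, -, -, h3⟩ := tau_facts
  obtain ⟨w, m, hm, rfl⟩ := E.exists_normal_form
    (E.cent_ones (mem_centralizer_singleton_iff.2 (hg _ (E.mem_fixT.2 h1))))
  exact ⟨w, m, hm, h3 m ((E.el_comm_space hm).1 (hg _ (E.mem_fixT.2 h1)))
    ((E.el_comm_space hm).1 (hg _ (E.mem_fixT.2 h2))), rfl⟩

variable [Finite G]

theorem Setting.normalizer_fixT (E : Setting W j s) :
    normalizer (fixT j : Set G) ≤ normalizer (j.range : Set G) := fun g hg =>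
  E.map_conj_space fun p hp => by
    obtain ⟨w, m, hm, -, e⟩ := E.cent_fixT (g := g * p * g⁻¹) fun q hq => by
      have hq' : g⁻¹ * q * g ∈ fixT j :=
        (mem_normalizer_iff.1 hg _).2 (by simpa [mul_assoc] using hq)
      have hc : Commute p (g⁻¹ * q * g) :=
        (congrArg Subtype.val (E.space_comm.is_comm.comm ⟨p, hp⟩ ⟨_, planeSub_le _ hq'⟩) :)
      have := (hc.map (MulAut.conj g).toMonoidHom).eq
      simpa [mul_assoc] using this
    rw [e]
    exact E.el_mem_normalizer hm w

theorem Setting.fixT_index (E : Setting W j s) :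
    ¬ 3 ∣ ((fixT j).subgroupOf (centralizer ({el j s 0 tau} : Set G))).index := by
  refine not_dvd_index_of_normalizer E.fixT_le_cent (E.space_isPGroup.to_le (planeSub_le _))
    fun g hg hgP n hn => ?_
  obtain ⟨w, m, hm, rfl⟩ := E.exists_normal_form (E.normalizer_fixT hgP)
  obtain ⟨hw, hc⟩ := (E.mem_cent_tau hm).1 hg
  have key : ∀ m, m * m * m = 1 → m * tau = tau * m → m = 1 := by decide +kernel
  rw [key m (by rw [← E.cube_of_el hm hn, pow_succ, pow_two]) hc]
  exact E.mem_fixT.2 hw

theorem Setting.mem_tau_pow (E : Setting W j s) (b : Bool) :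
    el j s 0 (if b then tau else 1) ∈ zpowers (el j s 0 tau) := by
  cases b
  · simp only [Bool.false_eq_true, if_false, el_zero_one]; exact one_mem _
  · exact mem_zpowers _

/-- The centralizer of the exchange inside `N(J)`. -/
theorem Ctx.cent_tau_form (E : Ctx W j s k) {g : G} (hg : g ∈ centralizer ({el j s 0 tau} : Set G))
    (hN : g ∈ normalizer (j.range : Set G)) :
    ∃ x, (x = 1 ∨ x = eA ∨ x = eBC ∨ x = negOne) ∧ inKind k x = true ∧
      ∃ p ∈ fixT j, ∃ z ∈ zpowers (el j s 0 tau), g = el j s 0 x * (p * z) := by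
  obtain ⟨w, m, hm, rfl⟩ := E.exists_normal_form hN
  obtain ⟨hw, hc⟩ := (E.mem_cent_tau hm).1 hg
  obtain ⟨b, x, hx, hxk, rfl⟩ := tau_comm k m ((E.kind m).1 hm) hc
  obtain ⟨hxt, hx2⟩ := diag_tau x hx
  have hxW := E.mem hxk
  have hb : (if b then tau else 1) ∈ W := by cases b <;> simp [one_mem, tau_mem E.toSetting]
  refine ⟨x, hx, hxk, el j s (act x w) 1, E.mem_fixT.2 ?_, _, E.mem_tau_pow b, ?_⟩
  · rw [← act_mul, ← hxt, act_mul, hw]
  · rw [E.el_mul (one_mem W) hb, show act 1 (0 : V3) = 0 from (actAdd 1).map_zero, add_zero, one_mul,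
      E.el_mul hxW hb, ← act_mul, hx2, act_one, zero_add]

theorem Setting.zpow_tau_cases (E : Setting W j s) {z : G} (hz : z ∈ zpowers (el j s 0 tau)) :
    z = 1 ∨ z = el j s 0 tau := by
  obtain ⟨i, rfl⟩ := mem_zpowers_iff.1 hz
  have h2 := E.sm_sq (tau_mem E) tau_facts.1
  rcases Int.even_or_odd i with ⟨l, rfl⟩ | ⟨l, rfl⟩
  · left; rw [← two_mul, zpow_mul, zpow_two, h2, one_zpow]
  · right; rw [zpow_add_one, zpow_mul, zpow_two, h2, one_zpow, one_mul]

theorem Setting.tau_central (E : Setting W j s) :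
    ∀ z ∈ zpowers (el j s 0 tau), ∀ p ∈ fixT j, z * p = p * z := by
  intro z hz p hp
  rcases E.zpow_tau_cases hz with rfl | rfl
  · rw [one_mul, mul_one]
  · exact (mem_centralizer_singleton_iff.1 (E.fixT_le_cent hp)).symm

theorem Setting.card_zpow_tau (E : Setting W j s) : Nat.card (zpowers (el j s 0 tau)) ∣ 2 := by
  rw [Nat.card_zpowers]
  exact orderOf_dvd_of_pow_eq_one (by rw [pow_two, E.sm_sq (tau_mem E) tau_facts.1])

/-- Coprime invariant subgroups in the centralizer of a point inside `N(J)`. -/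
theorem Ctx.sig_tau_point (E : Ctx W j s k) {K : Subgroup G}
    (hK : K ≤ centralizer ({el j s 0 tau} : Set G)) (hPK : fixT j ≤ normalizer (K : Set G))
    (hcop : (Nat.card K).Coprime 3) {g : G} (hg : g ∈ K) (hN : g ∈ normalizer (j.range : Set G)) :
    g ∈ zpowers (el j s 0 tau) := by
  have hgP : g ∈ normalizer (fixT j : Set G) := by
    obtain ⟨w, m, hm, rfl⟩ := E.exists_normal_form hN
    obtain ⟨-, hc⟩ := (E.mem_cent_tau hm).1 (hK hg)
    refine mem_normalizer_iff_map_conj_eq.2 (eq_of_le_of_card_ge ?_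
      (by rw [card_map_of_injective (MulAut.conj (el j s w m)).injective]))
    rintro _ ⟨q, hq, rfl⟩
    obtain ⟨u, hu, rfl⟩ := E.exists_planeSub hq
    show el j s w m * el j s u 1 * (el j s w m)⁻¹ ∈ fixT j
    rw [E.el_conj hm]
    exact E.mem_fixT.2 (by rw [← act_mul, ← hc, act_mul, fixMap_eq_zero.1 hu])
  have hcent := le_of_commutator hPK (E.space_isPGroup.to_le (planeSub_le _)) hcop hg hgP
  obtain ⟨w, m, hm, hm', rfl⟩ := E.cent_fixT (g := g) fun p hp => (hcent p hp).symm
  obtain ⟨hw, -⟩ := (E.mem_cent_tau hm).1 (hK hg)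
  have hsq : el j s w m * el j s w m = el j s (w + w) 1 := by
    rw [E.el_mul hm hm]
    rcases hm' with rfl | rfl
    · rw [act_one, one_mul]
    · rw [hw, tau_facts.1]
  have h1 : el j s (w + w) 1 = 1 := by
    refine orderOf_eq_one_iff.1 (Nat.eq_one_of_dvd_coprimes hcop.symm ?_ ?_)
    · exact orderOf_dvd_of_pow_eq_one (E.space_cube (el_mem_range _))
    · rw [← hsq]; exact Subgroup.orderOf_dvd_natCard K (K.mul_mem hg hg)
  have key : ∀ w : V3, w + w = 0 → w = 0 := by decide +kernel
  rw [key w ((E.el_eq_one_iff (one_mem W)).1 h1).1]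
  rcases hm' with rfl | rfl
  · rw [el_zero_one]; exact one_mem _
  · exact mem_zpowers _

/-- The centralizer of the exchange is in `N(J)` if those of all points are. -/
theorem Ctx.cent_tau_le (E : Ctx W j s k)
    (hsmall : ∀ v : V3, v ≠ 0 → centralizer ({el j s v 1} : Set G) ≤ normalizer (j.range : Set G)) :
    centralizer ({el j s 0 tau} : Set G) ≤ normalizer (j.range : Set G) := by
  set t := el j s 0 tau
  set C := centralizer ({t} : Set G)
  set P := fixT j with hPdef
  set Z := zpowers t with hZ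
  have hPC : P ≤ C := E.fixT_le_cent
  have hP3 : IsPGroup 3 P := E.space_isPGroup.to_le (planeSub_le _)
  have hZC : Z ≤ C := zpowers_le.2 (mem_centralizer_singleton_iff.2 rfl)
  have hZN : C ≤ normalizer (Z : Set G) := fun c hc => by
    refine mem_normalizer_iff.2 fun z => ?_
    have hcz : ∀ z ∈ Z, c * z * c⁻¹ = z := fun z hz => by
      obtain ⟨i, rfl⟩ := mem_zpowers_iff.1 hz
      rw [((show Commute c t from mem_centralizer_singleton_iff.1 hc).zpow_right i).eq, mul_inv_cancel_right]
    refine ⟨fun hz => (hcz z hz).symm ▸ hz, fun hz => ?_⟩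
    have h1 : c * (c * z * c⁻¹) * c⁻¹ = c * z * c⁻¹ := hcz _ hz
    have h2 : c * z * c⁻¹ = z := mul_left_cancel (mul_right_cancel h1)
    rwa [h2] at hz
  have hSig : Sig P C Z := sig_of_points hP3 E.fixT_comm E.fixT_noncyc fun a ha ha1 K hK hPK hcop g hg => by
    obtain ⟨u, -, rfl⟩ := E.exists_planeSub ha
    exact E.sig_tau_point hK hPK hcop hg.1 (hsmall u (fun e => ha1 (by rw [e, el_zero_one])) hg.2)
  have hform : ∀ g ∈ C, g ∈ normalizer (P : Set G) → ∃ x, (x = 1 ∨ x = eA ∨ x = eBC ∨ x = negOne) ∧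
      inKind k x = true ∧ ∃ p ∈ P, ∃ z ∈ Z, g = el j s 0 x * (p * z) :=
    fun g hg hgP => E.cent_tau_form hg (E.normalizer_fixT hgP)
  have hact : ∀ x, (x = 1 ∨ x = eA ∨ x = eBC ∨ x = negOne) → inKind k x = true → ∀ p ∈ P, ∀ z ∈ Z,
      ∀ u, el j s u 1 ∈ P →
      el j s 0 x * (p * z) * el j s u 1 * (el j s 0 x * (p * z))⁻¹ = el j s (act x u) 1 := by
    intro x _ hxk p hp z hz u hu
    have h1 : Commute (p * z) (el j s u 1) := (show Commute p (el j s u 1) from
      (congrArg Subtype.val (E.fixT_comm.is_comm.comm ⟨p, hp⟩ ⟨_, hu⟩) :)).mul_left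
      (E.tau_central z hz _ hu)
    rw [mul_inv_rev, show el j s 0 x * (p * z) * el j s u 1 * ((p * z)⁻¹ * (el j s 0 x)⁻¹) =
      el j s 0 x * ((p * z) * el j s u 1 * (p * z)⁻¹) * (el j s 0 x)⁻¹ by group, h1.eq,
      mul_inv_cancel_right, E.el_conj (E.mem hxk)]
  have hxC : ∀ x, (x = 1 ∨ x = eA ∨ x = eBC ∨ x = negOne) → inKind k x = true →
      el j s 0 x ∈ C ∧ el j s 0 x ∈ normalizer (P : Set G) := by
    intro x hx hxk
    have hxW := E.mem hxk
    obtain ⟨hxt, -⟩ := diag_tau x hx
    refine ⟨(E.mem_cent_tau hxW).2 ⟨(actAdd tau).map_zero, hxt⟩, ?_⟩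
    refine mem_normalizer_iff_map_conj_eq.2 (eq_of_le_of_card_ge ?_
      (by rw [card_map_of_injective (MulAut.conj (el j s 0 x)).injective]))
    rintro _ ⟨q, hq, rfl⟩
    obtain ⟨u, hu, rfl⟩ := E.exists_planeSub hq
    show el j s 0 x * el j s u 1 * (el j s 0 x)⁻¹ ∈ fixT j
    rw [E.el_conj hxW]
    exact E.mem_fixT.2 (by rw [← act_mul, ← hxt, act_mul, fixMap_eq_zero.1 hu])
  have hself : ∀ g ∈ C, g ∈ centralizer (P : Set G) → ∃ p ∈ P, ∃ z ∈ Z, g = p * z := by
    intro g hg hgP
    obtain ⟨w, m, hm, hm', rfl⟩ := E.cent_fixT (g := g) fun p hp => (hgP p hp).symm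
    obtain ⟨hw, -⟩ := (E.mem_cent_tau hm).1 hg
    refine ⟨el j s w 1, E.mem_fixT.2 hw, el j s 0 m, ?_, ?_⟩
    · rcases hm' with rfl | rfl
      · rw [el_zero_one]; exact one_mem _
      · exact mem_zpowers _
    · rw [E.el_mul (one_mem W) hm, show act 1 (0 : V3) = 0 from (actAdd 1).map_zero, add_zero, one_mul]
  have hloc : Loc C P Z :=
    ⟨hPC, E.fixT_comm, fun p hp => E.space_cube (planeSub_le _ hp), E.fixT_noncyc, E.fixT_index, hZC,
      hZN, E.tau_central, Nat.Coprime.coprime_dvd_left E.card_zpow_tau (by norm_num), hself, hSig⟩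
  suffices C ≤ normalizer (P : Set G) from fun c hc => E.normalizer_fixT (this hc)
  obtain rfl | rfl | rfl | rfl : k = 0 ∨ k = 1 ∨ k = 2 ∨ k = 3 := by clear * - k; revert k; decide
  · -- trivial automizer
    intro c hc
    obtain ⟨p, hp, z, hz, rfl⟩ := E.le_of_trivial_automizer hPC (planeSub_le _) E.fixT_index
      (fun n hn hnP u hu => by
        obtain ⟨x, hx, hxk, p, hp, z, hz, rfl⟩ := hform n hn hnP
        have : x = 1 := by
          have key : ∀ x, (x = 1 ∨ x = eA ∨ x = eBC ∨ x = negOne) → inKind 0 x = true → x = 1 := by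
            decide +kernel
          exact key x hx hxk
        subst this
        rw [hact 1 hx hxk p hp z hz u hu, act_one]) hSig c hc
    refine mul_mem (le_normalizer hp) (mem_normalizer_iff.2 fun q => ?_)
    have hcomm : ∀ q ∈ P, z * q * z⁻¹ = q := fun q hq => by rw [E.tau_central z hz q hq, mul_inv_cancel_right]
    refine ⟨fun hq => (hcomm q hq).symm ▸ hq, fun hq => ?_⟩
    have h2 : z * q * z⁻¹ = q := mul_left_cancel (mul_right_cancel (hcomm _ hq))
    rwa [h2] at hq
  · -- inverted
    obtain ⟨hu, hu2⟩ := hxC negOne (Or.inr (Or.inr (Or.inr rfl))) rfl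
    have huW : negOne ∈ W := E.mem rfl
    refine hloc.le_normalizer_inverted hu (fun p hp => ?_) (E.sm_sq huW (by decide +kernel))
      fun n hn hnP => ?_
    · obtain ⟨u, -, rfl⟩ := E.exists_planeSub hp
      rw [E.el_conj huW, act_negOne, E.el_inv (one_mem W), inv_one, act_one]
    · obtain ⟨x, hx, hxk, p, hp, z, hz, rfl⟩ := hform n hn hnP
      have key : ∀ x, (x = 1 ∨ x = eA ∨ x = eBC ∨ x = negOne) → inKind 1 x = true →
          x = 1 ∨ x = negOne := by decide +kernel
      rcases key x hx hxk with rfl | rfl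
      · exact Or.inl ⟨p, hp, z, hz, by rw [el_zero_one, one_mul]⟩
      · refine Or.inr ⟨p⁻¹, inv_mem hp, z, hz, ?_⟩
        obtain ⟨u, hu', rfl⟩ := E.exists_planeSub hp
        have hneg : el j s 0 negOne * el j s u 1 * el j s 0 negOne = (el j s u 1)⁻¹ := by
          rw [E.el_mul huW (one_mem W), mul_one, E.el_mul huW huW, act_negOne, zero_add,
            act_negOne, neg_zero, add_zero, show negOne * negOne = 1 by decide +kernel,
            E.el_inv (one_mem W), inv_one, act_one]
        have hzc : el j s 0 negOne * z = z * el j s 0 negOne := by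
          rcases E.zpow_tau_cases hz with rfl | rfl
          · rw [one_mul, mul_one]
          · exact mem_centralizer_singleton_iff.1 hu
        rw [← hneg]
        calc el j s 0 negOne * (el j s u 1 * z) * el j s 0 negOne
            = el j s 0 negOne * el j s u 1 * (z * el j s 0 negOne) := by group
          _ = el j s 0 negOne * el j s u 1 * (el j s 0 negOne * z) := by rw [hzc]
          _ = _ := by group
  · -- a reflection
    have hbW : eBC ∈ W := E.mem rfl
    obtain ⟨L, hLC, hn, hLP, hdec⟩ := E.exists_kernel_space hPC (planeSub_le _) E.fixT_index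
      (AddMonoidHom.id V3 + actAdd eBC) fun n hn hnP u hu => by
        obtain ⟨x, hx, hxk, p, hp, z, hz, rfl⟩ := hform n hn hnP
        refine ⟨act x u, hact x hx hxk p hp z hz u hu, ?_⟩
        have key : ∀ x, (x = 1 ∨ x = eA ∨ x = eBC ∨ x = negOne) → inKind 2 x = true →
            x = 1 ∨ x = eBC := by decide +kernel
        rcases key x hx hxk with rfl | rfl
        · rw [act_one]
        · show act eBC u + act eBC (act eBC u) = u + act eBC u
          rw [← act_mul, show eBC * eBC = 1 by decide +kernel, act_one, add_comm]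
    have hbP : el j s (0, 1, 1) 1 ∈ P := E.mem_fixT.2 tau_facts.2.2.2.1
    have hyL : el j s (0, 1, 1) 1 ∈ L := (hLP _ hbP).2 (by decide +kernel)
    have hy : orderOf (el j s (0, 1, 1) 1) = 3 := by
      have : Fact (Nat.Prime 3) := ⟨Nat.prime_three⟩
      exact orderOf_eq_prime (E.space_cube (el_mem_range _))
        fun e => absurd ((E.el_eq_one_iff (one_mem W)).1 e).1 (by decide +kernel)
    have hmem : ∀ g ∈ P, g ∈ L → g ∈ zpowers (el j s (0, 1, 1) 1) := by
      intro g hg hgL
      obtain ⟨u, hu, rfl⟩ := E.exists_planeSub hg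
      have key : ∀ u : V3, act tau u = u → u + act eBC u = 0 →
          u = 0 ∨ u = (0, 1, 1) ∨ u = -(0, 1, 1) := by decide +kernel
      rcases key u (fixMap_eq_zero.1 hu) ((hLP u hg).1 hgL) with rfl | rfl | rfl
      · rw [el_zero_one]; exact one_mem _
      · exact mem_zpowers _
      · rw [show el j s (-(0, 1, 1)) 1 = (el j s (0, 1, 1) 1)⁻¹ by rw [E.el_inv (one_mem W), inv_one, act_one]]
        exact inv_mem (mem_zpowers _)
    have hint : Nat.card (P ⊓ L : Subgroup G) = 3 ^ 1 := by
      rw [pow_one]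
      refine Eq.trans ?_ hy
      rw [← Nat.card_zpowers]
      refine congrArg (fun K : Subgroup G => Nat.card K) (le_antisymm (fun g hg => hmem g hg.1 hg.2) ?_)
      exact zpowers_le.2 ⟨hbP, hyL⟩
    have ht2 := E.sm_sq (tau_mem E.toSetting) tau_facts.1
    have hZL : Z ≤ L := zpowers_le.2 (mem_kernel hPC hn hP3 hdec (mem_centralizer_singleton_iff.2 rfl)
      (k := 2) (by rw [pow_two, ht2]) (by norm_num))
    have hZ2 : IsPGroup 2 Z := fun z => ⟨1, Subtype.ext (by
      rcases E.zpow_tau_cases z.2 with h | h <;> simp [h, pow_two, t, ht2])⟩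
    intro c hc
    have hline := conj_mem_of_line hP3 hZ2 hSig hLC hn hPC hZL hZN hyL hy
      (fun z hz => E.tau_central z hz _ hbP) (not_nine_dvd hPC hLC hn hdec E.fixT_index hint)
      (fun g hg hgy => by
        obtain ⟨x, hx, hxk, p, hp, z, hz, rfl⟩ := E.cent_tau_form (hLC hg)
          (hsmall _ (by decide +kernel) (mem_centralizer_singleton_iff.2 hgy))
        have hxu : act x ((0, 1, 1) : V3) = (0, 1, 1) := by
          have h1 := hact x hx hxk p hp z hz _ hbP
          rw [hgy, mul_inv_cancel_right] at h1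
          exact (E.el_injective (one_mem W) (one_mem W) h1).1.symm
        have key : ∀ x, (x = 1 ∨ x = eA ∨ x = eBC ∨ x = negOne) → inKind 2 x = true →
            act x ((0, 1, 1) : V3) = (0, 1, 1) → x = 1 := by decide +kernel
        obtain rfl := key x hx hxk hxu
        rw [el_zero_one, one_mul] at hg
        have hpL : p ∈ L := by
          have := mul_mem hg (inv_mem (hZL hz))
          rwa [mul_inv_cancel_right] at this
        obtain ⟨n, hn'⟩ := (mem_powers_iff_mem_zpowers (G := G)).2 (inv_mem (hmem p hp hpL))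
        refine ⟨n, ?_⟩
        rw [el_zero_one, one_mul, show el j s (0, 1, 1) 1 ^ n = p⁻¹ from hn', E.tau_central z hz p hp |>.symm,
          mul_inv_cancel_right]
        exact hz) hc
    obtain ⟨hbC, hbN⟩ := hxC eBC (Or.inr (Or.inr (Or.inl rfl))) rfl
    have hcent : ∀ g ∈ C, g * el j s (0, 1, 1) 1 = el j s (0, 1, 1) 1 * g → g ∈ normalizer (P : Set G) := by
      intro g hg hgy
      obtain ⟨x, hx, hxk, p, hp, z, hz, rfl⟩ := E.cent_tau_form hg
        (hsmall _ (by decide +kernel) (mem_centralizer_singleton_iff.2 hgy))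
      refine mul_mem (hxC x hx hxk).2 (mul_mem (le_normalizer hp) (mem_normalizer_iff.2 fun q => ?_))
      have hcomm : ∀ q ∈ P, z * q * z⁻¹ = q := fun q hq => by
        rw [E.tau_central z hz q hq, mul_inv_cancel_right]
      refine ⟨fun hq => (hcomm q hq).symm ▸ hq, fun hq => ?_⟩
      have h2 : z * q * z⁻¹ = q := mul_left_cancel (mul_right_cancel (hcomm _ hq))
      rwa [h2] at hq
    rcases hline with e | e
    · exact hcent c hc (mul_inv_eq_iff_eq_mul.1 e)
    · have h1 := hcent (el j s 0 eBC * c) (C.mul_mem hbC hc) (mul_inv_eq_iff_eq_mul.1 (by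
        calc el j s 0 eBC * c * el j s (0, 1, 1) 1 * (el j s 0 eBC * c)⁻¹
            = el j s 0 eBC * (c * el j s (0, 1, 1) 1 * c⁻¹) * (el j s 0 eBC)⁻¹ := by group
          _ = el j s (0, 1, 1) 1 := by
            rw [e, E.el_inv (one_mem W), inv_one, act_one, E.el_conj hbW,
              show act eBC (-(0, 1, 1) : V3) = (0, 1, 1) by decide +kernel]))
      have := mul_mem (inv_mem hbN) h1
      rwa [inv_mul_cancel_left] at this
  · -- a four group
    obtain ⟨ha, haN⟩ := hxC eA (Or.inr (Or.inl rfl)) rfl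
    obtain ⟨hb, hbN⟩ := hxC eBC (Or.inr (Or.inr (Or.inl rfl))) rfl
    have haW : eA ∈ W := E.mem rfl
    have hbW : eBC ∈ W := E.mem rfl
    have hab : el j s 0 eA * el j s 0 eBC = el j s 0 negOne := by
      rw [E.el_mul haW hbW, show act eA (0 : V3) = 0 from (actAdd eA).map_zero, add_zero,
        show eA * eBC = negOne by decide +kernel]
    refine hloc.le_normalizer_klein E.card_fixT ha hb haN hbN (fun p hp z hz => ?_) (fun n hn hnP => ?_)
      (fun n hn hnP => ?_) fun p hp hp1 g hg hgp => ?_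
    · obtain ⟨u, -, rfl⟩ := E.exists_planeSub hp
      have hne : ∀ x, (x = eA ∨ x = eBC ∨ x = negOne) → el j s 0 x ≠ el j s u 1 * z := by
        intro x hx e
        have hxW : x ∈ W := E.mem (by rcases hx with rfl | rfl | rfl <;> rfl)
        have key : ∀ x, (x = eA ∨ x = eBC ∨ x = negOne) → x ≠ 1 ∧ x ≠ tau := by decide +kernel
        rcases E.zpow_tau_cases hz with rfl | rfl
        · rw [mul_one] at e
          exact (key x hx).1 (E.el_injective hxW (one_mem W) e).2
        · rw [E.el_mul (one_mem W) (tau_mem E.toSetting), one_mul] at e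
          exact (key x hx).2 (E.el_injective hxW (tau_mem E.toSetting) e).2
      rw [hab]
      exact ⟨hne _ (Or.inl rfl), hne _ (Or.inr (Or.inl rfl)), hne _ (Or.inr (Or.inr rfl))⟩
    · obtain ⟨w, m, hm, rfl⟩ := E.exists_normal_form (E.normalizer_fixT hnP)
      obtain ⟨hw, hc⟩ := (E.mem_cent_tau hm).1 hn
      have key : ∀ m, m * tau = tau * m → m * m = 1 := by decide +kernel
      refine ⟨el j s (w + act m w) 1, E.mem_fixT.2 ?_, 1, one_mem _, ?_⟩
      · rw [act_add, ← act_mul, ← hc, act_mul, hw]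
      · rw [mul_one, E.el_mul hm hm, key m hc]
    · obtain ⟨x, hx, -, p, hp, z, hz, rfl⟩ := hform n hn hnP
      rcases hx with rfl | rfl | rfl | rfl
      · exact Or.inl ⟨p, hp, z, hz, by rw [el_zero_one, one_mul]⟩
      · exact Or.inr (Or.inl ⟨p, hp, z, hz, rfl⟩)
      · exact Or.inr (Or.inr (Or.inl ⟨p, hp, z, hz, rfl⟩))
      · exact Or.inr (Or.inr (Or.inr ⟨p, hp, z, hz, by rw [hab]⟩))
    · obtain ⟨u, -, rfl⟩ := E.exists_planeSub hp
      obtain ⟨x, hx, hxk, q, hq, z, hz, rfl⟩ := E.cent_tau_form hg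
        (hsmall u (fun e => hp1 (by rw [e, el_zero_one])) (mem_centralizer_singleton_iff.2 hgp))
      refine mul_mem (hxC x hx hxk).2 (mul_mem (le_normalizer hq) (mem_normalizer_iff.2 fun q => ?_))
      have hcomm : ∀ q ∈ P, z * q * z⁻¹ = q := fun q hq => by
        rw [E.tau_central z hz q hq, mul_inv_cancel_right]
      refine ⟨fun hq => (hcomm q hq).symm ▸ hq, fun hq => ?_⟩
      have h2 : z * q * z⁻¹ = q := mul_left_cancel (mul_right_cancel (hcomm _ hq))
      rwa [h2] at hq

end Cfsg.Agent.SymNineThree
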