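import Cfsg.Agent.S3331
import Cfsg.Agent.Lib.Coprime.Generation
import Cfsg.Agent.Lib.Cores.Basic
import Cfsg.Agent.Lib.Linear.PSLTwoSmall

/-!
# Self-centralizing elements of order three under a bound on invariant subgroups

* `Sig A C Ω`: every subgroup of `C` of order prime to 3 normalized by `A` lies in `Ω`
* `self_cent_three`: then a subgroup of `C` with a self-centralizing element of order three
  has all its elements of order three in one coset group
-/

set_option autoImplicit false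

namespace Cfsg.Agent.SymNineThree

open Cfsg Subgroup

variable {G : Type*} [Group G] [Finite G]

/-- `A` leaves invariant no subgroup of `C` of order prime to 3 outside `Ω`. -/
def Sig (A C Ω : Subgroup G) : Prop :=
  ∀ K : Subgroup G, K ≤ C → A ≤ normalizer (K : Set G) → (Nat.card K).Coprime 3 → K ≤ Ω

omit [Finite G] in
theorem Sig.mono {A C C' Ω : Subgroup G} (h : Sig A C Ω) (hC : C' ≤ C) : Sig A C' Ω :=
  fun K hK => h K (hK.trans hC)

theorem sylow_two_five :
    ∀ T : Sylow 2 (alternatingGroup (Fin 5)), Nat.card (Sylow 2 (alternatingGroup (Fin 5))) = 5 := by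
  have : Fact (Nat.Prime 2) := ⟨Nat.prime_two⟩
  intro T
  let V : Subgroup (alternatingGroup (Fin 5)) :=
    { carrier := {σ | σ * σ = 1 ∧ (σ : Equiv.Perm (Fin 5)) 4 = 4}
      one_mem' := by simp
      mul_mem' := by
        show ∀ {a b : alternatingGroup (Fin 5)}, (a * a = 1 ∧ (a : Equiv.Perm (Fin 5)) 4 = 4) →
          (b * b = 1 ∧ (b : Equiv.Perm (Fin 5)) 4 = 4) →
          (a * b * (a * b) = 1 ∧ ((a * b : alternatingGroup (Fin 5)) : Equiv.Perm (Fin 5)) 4 = 4)
        decide +kernel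
      inv_mem' := by
        intro a ⟨ha, h4⟩
        rw [inv_eq_of_mul_eq_one_right ha]
        exact ⟨ha, h4⟩ }
  have hmem : ∀ σ, σ ∈ V ↔ (σ * σ = 1 ∧ (σ : Equiv.Perm (Fin 5)) 4 = 4) := fun σ => Iff.rfl
  have hV : Nat.card V = 4 := by
    show Nat.card {σ // σ ∈ V} = 4
    rw [Nat.subtype_card (Finset.univ.filter fun σ : alternatingGroup (Fin 5) =>
      σ * σ = 1 ∧ (σ : Equiv.Perm (Fin 5)) 4 = 4) (fun σ => by simp [hmem])]
    decide +kernel
  have hfac : (Nat.card (alternatingGroup (Fin 5))).factorization 2 = 2 := by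
    rw [show Nat.card (alternatingGroup (Fin 5)) = 2 ^ 2 * 15 by
      rw [Nat.card_eq_fintype_card]; decide +kernel, Nat.factorization_mul (by norm_num) (by norm_num), Finsupp.add_apply,
      Nat.Prime.factorization_pow Nat.prime_two, Finsupp.single_eq_same,
      Nat.factorization_eq_zero_of_not_dvd (show ¬ 2 ∣ 15 by norm_num)]
  let VS : Sylow 2 (alternatingGroup (Fin 5)) := Sylow.ofCard V (by rw [hV, hfac]; norm_num)
  rw [VS.card_eq_index_normalizer]
  have hN : Nat.card (normalizer (VS : Set (alternatingGroup (Fin 5)))) = 12 := by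
    show Nat.card {σ // σ ∈ normalizer (VS : Set (alternatingGroup (Fin 5)))} = 12
    rw [Nat.subtype_card (Finset.univ.filter fun σ : alternatingGroup (Fin 5) =>
      (σ : Equiv.Perm (Fin 5)) 4 = 4) (fun σ => by
        show _ ↔ σ ∈ normalizer ((V : Subgroup (alternatingGroup (Fin 5))) : Set (alternatingGroup (Fin 5)))
        rw [Subgroup.mem_normalizer_iff]
        simp only [Finset.mem_filter, Finset.mem_univ, true_and]
        show _ ↔ ∀ h, h ∈ V ↔ σ * h * σ⁻¹ ∈ V
        simp only [hmem]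
        revert σ
        decide +kernel)]
    decide +kernel
  have := (normalizer (VS : Set (alternatingGroup (Fin 5)))).card_mul_index
  rw [hN, show Nat.card (alternatingGroup (Fin 5)) = 60 by
      rw [Nat.card_eq_fintype_card]; decide +kernel] at this
  omega

theorem card_sylow_two_of_alt_five {Q : Type*} [Group Q] [Finite Q]
    (e : Q ≃* alternatingGroup (Fin 5)) : Nat.card (Sylow 2 Q) = 5 := by
  have : Fact (Nat.Prime 2) := ⟨Nat.prime_two⟩
  obtain ⟨T⟩ := (inferInstance : Nonempty (Sylow 2 (alternatingGroup (Fin 5))))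
  obtain ⟨U⟩ := (inferInstance : Nonempty (Sylow 2 Q))
  set U' : Sylow 2 (alternatingGroup (Fin 5)) := U.mapSurjective (f := e.toMonoidHom) e.surjective
  rw [← sylow_two_five T, U.card_eq_index_normalizer, U'.card_eq_index_normalizer]
  have : normalizer (U' : Set (alternatingGroup (Fin 5))) =
      (normalizer (U : Set Q)).map e.toMonoidHom :=
    (Subgroup.map_equiv_normalizer_eq (U : Subgroup Q) e).symm
  rw [this]
  exact (Subgroup.index_map_equiv _ e).symm

theorem card_sylow_seven {Q : Type*} [Group Q] [Finite Q]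
    (e : Q ≃* Matrix.ProjectiveSpecialLinearGroup (Fin 2) (ZMod 7)) :
    7 ∣ Nat.card Q ∧ ¬ 3 ∣ Nat.card (Sylow 7 Q) := by
  have : Fact (Nat.Prime 7) := ⟨by norm_num⟩
  have h : Nat.card Q = 168 := by
    rw [Nat.card_congr e.toEquiv, GLOrder.card_PSL_two, Nat.card_zmod]
    norm_num
  refine ⟨by rw [h]; norm_num, fun h3 => ?_⟩
  obtain ⟨P⟩ := (inferInstance : Nonempty (Sylow 7 Q))
  have hP : Nat.card (P : Subgroup Q) = 7 := by
    rw [SmallOrders.card_sylow_subgroup (e := 1) (m := 24) (by rw [h]; norm_num) (by norm_num) P, pow_one]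
  have hidx : (P : Subgroup Q).index = 24 := by
    have := (P : Subgroup Q).card_mul_index
    rw [hP, h] at this
    omega
  have hd := hidx ▸ P.card_dvd_index
  have hm := card_sylow_modEq_one 7 Q
  have hle := Nat.le_of_dvd (by norm_num) hd
  interval_cases hn : Nat.card (Sylow 7 Q) <;> simp_all [Nat.ModEq]

omit [Finite G] in
theorem mk_conj_eq {L O : Subgroup G} [(O.subgroupOf L).Normal] {a : G} {g h : L}
    (ha : ∀ x, x ∈ O → a * x * a⁻¹ ∈ O) (e : QuotientGroup.mk' (O.subgroupOf L) g = QuotientGroup.mk' _ h)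
    (hg : a * g * a⁻¹ ∈ L) (hh : a * h * a⁻¹ ∈ L) :
    QuotientGroup.mk' (O.subgroupOf L) ⟨_, hg⟩ = QuotientGroup.mk' _ ⟨_, hh⟩ := by
  rw [QuotientGroup.mk'_apply, QuotientGroup.mk'_apply, QuotientGroup.eq, mem_subgroupOf] at e ⊢
  have := ha _ e
  push_cast at this ⊢
  simpa [mul_assoc] using this

theorem self_cent_three {C A Ω W L : Subgroup G} (hA : IsPGroup 3 A) (hΩ : IsPGroup 2 Ω)
    (hS : Sig A C Ω) (hLC : L ≤ C) (hAL : A ≤ normalizer (L : Set G)) (hWL : W ≤ L)
    (hLW : L ≤ normalizer (W : Set G))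
    (hW3 : ¬ 3 ∣ Nat.card W) {y : G} (hyL : y ∈ L) (hy : orderOf y = 3) (h9 : ¬ 9 ∣ Nat.card L)
    (hc : ∀ g ∈ L, g * y = y * g → ∃ i : ℕ, g * y ^ i ∈ W) :
    ∃ O : Subgroup G, O ≤ L ∧ O ≤ Ω ∧ W ≤ O ∧
      (∀ g ∈ normalizer (L : Set G), g ∈ normalizer (O : Set G)) ∧
      ∀ z ∈ L, z ^ 3 = 1 → ∃ i : ℕ, z * y ^ i ∈ O := by
  classical
  have h3p : Fact (Nat.Prime 3) := ⟨Nat.prime_three⟩
  set O₀ := Cfsg.pPrimeCore 3 L
  haveI : O₀.Characteristic := inferInstance
  set O : Subgroup G := O₀.map L.subtype with hO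
  have hOL : O ≤ L := map_subtype_le _
  have hcop : (Nat.card O).Coprime 3 := by
    rw [hO, Cores.card_map_subtype]; exact Cores.coprime_card_pPrimeCore 3
  have hnormO : ∀ g ∈ normalizer (L : Set G), g ∈ normalizer (O : Set G) := fun g hg =>
    Cores.normalizer_le_normalizer_map (H := L) O₀ hg
  have hLn : L ≤ normalizer (L : Set G) := le_normalizer
  have hOΩ : O ≤ Ω := hS O (hOL.trans hLC) (fun a ha => hnormO a (hAL ha)) hcop
  have hWO : W ≤ O := by
    intro w hw
    have hn : (W.subgroupOf L).Normal := normal_subgroupOf_of_le_normalizer hLW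
    have : W.subgroupOf L ≤ O₀ := le_sSup ⟨hn, by
      rw [Cores.card_subgroupOf hWL]
      exact ((Nat.Prime.coprime_iff_not_dvd Nat.prime_three).2 hW3).symm⟩
    exact ⟨⟨w, hWL hw⟩, this (mem_subgroupOf.2 hw), rfl⟩
  refine ⟨O, hOL, hOΩ, hWO, hnormO, ?_⟩
  have hy3 : y ^ 3 = 1 := hy ▸ pow_orderOf_eq_one y
  haveI hn0 : (O.subgroupOf L).Normal := normal_subgroupOf_of_le_normalizer (fun g hg => hnormO g (hLn hg))
  set π : L →* L ⧸ O.subgroupOf L := QuotientGroup.mk' _
  set yb := π ⟨y, hyL⟩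
  have hyO : y ∉ O := fun h => by
    have := (hy ▸ Subgroup.orderOf_dvd_natCard O h : 3 ∣ Nat.card O)
    exact (Nat.Prime.coprime_iff_not_dvd Nat.prime_three).1 hcop.symm this
  -- self-centralization in the quotient
  have hsc : SelfCentThree.SC yb := by
    refine ⟨orderOf_eq_prime ?_ fun h => hyO ?_, fun q hq => ?_⟩
    · rw [← map_pow, show (⟨y, hyL⟩ : L) ^ 3 = 1 from Subtype.ext hy3, map_one]
    · exact mem_subgroupOf.1 ((QuotientGroup.eq_one_iff (N := O.subgroupOf L) (⟨y, hyL⟩ : L)).1 h)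
    obtain ⟨g, rfl⟩ := QuotientGroup.mk'_surjective _ q
    have hgO : (g : G) * y * (g : G)⁻¹ * y⁻¹ ∈ O := by
      have e : π (g * ⟨y, hyL⟩ * g⁻¹ * ⟨y, hyL⟩⁻¹) = 1 := by
        rw [map_mul, map_mul, map_mul, map_inv, map_inv]
        show π g * yb * (π g)⁻¹ * yb⁻¹ = 1
        rw [show π g * yb = yb * π g from hq, mul_inv_cancel_right, mul_inv_cancel]
      rwa [QuotientGroup.mk'_apply, QuotientGroup.eq_one_iff, mem_subgroupOf] at e
    have hyOn : zpowers y ≤ normalizer (O : Set G) := zpowers_le.2 (hnormO y (hLn hyL))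
    set M := O ⊔ zpowers y
    have hML : M ≤ L := sup_le hOL (zpowers_le.2 hyL)
    set y' := (g : G) * y * (g : G)⁻¹
    have hy'M : y' ∈ M := by
      have := mul_mem (mem_sup_left hgO) (mem_sup_right (mem_zpowers y) : y ∈ M)
      simpa [y', mul_assoc] using this
    have hcard3 : ∀ z : G, orderOf z = 3 → ∀ hz : z ∈ M, ∃ S : Sylow 3 M,
        (S : Subgroup M) = zpowers (⟨z, hz⟩ : M) := by
      intro z hz hzM
      refine ⟨Sylow.ofCard (zpowers (⟨z, hzM⟩ : M)) ?_, rfl⟩
      rw [Nat.card_zpowers, Subgroup.orderOf_mk, hz]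
      have hd : 3 ∣ Nat.card M := hz ▸ Subgroup.orderOf_dvd_natCard M hzM
      have h9' : ¬ 3 ^ 2 ∣ Nat.card M := fun h => h9 (h.trans (card_dvd_of_le hML))
      have h1 := (Nat.Prime.dvd_iff_one_le_factorization Nat.prime_three Nat.card_pos.ne').1 hd
      have h2 : ¬ 2 ≤ (Nat.card M).factorization 3 := fun h => h9'
        ((Nat.Prime.pow_dvd_iff_le_factorization Nat.prime_three Nat.card_pos.ne').2 h)
      rw [show (Nat.card M).factorization 3 = 1 by omega, pow_one]
    have hy'o : orderOf y' = 3 := by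
      show orderOf (MulAut.conj (g : G) y) = 3
      rw [MulEquiv.orderOf_eq, hy]
    obtain ⟨S1, hS1⟩ := hcard3 y hy (mem_sup_right (mem_zpowers y))
    obtain ⟨S2, hS2⟩ := hcard3 y' hy'o hy'M
    obtain ⟨m, hm⟩ := MulAction.exists_smul_eq M S1 S2
    obtain ⟨o, ho, k, hk, hmk⟩ := (Coprime.mem_sup_iff hyOn).1 m.2
    obtain ⟨u, hu, hue⟩ : ∃ u ∈ zpowers y, y' = o * u * o⁻¹ := by
      have hy'S : (⟨y', hy'M⟩ : M) ∈ (S2 : Subgroup M) := hS2 ▸ mem_zpowers _
      rw [← hm] at hy'S
      obtain ⟨v, hv, hve⟩ := hy'S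
      rw [hS1] at hv
      obtain ⟨i, rfl⟩ := mem_zpowers_iff.1 hv
      refine ⟨y ^ i, zpow_mem (mem_zpowers y) i, ?_⟩
      have e : y' = (m : G) * y ^ i * (m : G)⁻¹ := by
        have := congrArg Subtype.val hve
        simpa using this.symm
      rw [e, ← hmk]
      obtain ⟨j, rfl⟩ := mem_zpowers_iff.1 hk
      group
    -- the exponent is one
    have hu1 : u = y := by
      obtain ⟨i, rfl⟩ := mem_zpowers_iff.1 hu
      have h1 : y' * y⁻¹ = o * (y ^ i * o⁻¹ * (y ^ i)⁻¹) * (y ^ i * y⁻¹) := by rw [hue]; group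
      have h2 : y ^ i * o⁻¹ * (y ^ i)⁻¹ ∈ O :=
        (mem_normalizer_iff.1 (hyOn (zpow_mem (mem_zpowers y) i)) _).1 (inv_mem ho)
      have h3 : y ^ i * y⁻¹ ∈ O := by
        have h4 := mul_mem (inv_mem (mul_mem ho h2)) (hgO : y' * y⁻¹ ∈ O)
        rwa [h1, inv_mul_cancel_left] at h4
      by_contra hne
      have hne' : y ^ i * y⁻¹ ≠ 1 := fun e => hne (mul_inv_eq_one.1 e)
      have hord : orderOf (y ^ i * y⁻¹) = 3 := by
        refine orderOf_eq_prime ?_ hne'
        rw [← zpow_sub_one, ← zpow_natCast, ← zpow_mul, mul_comm, zpow_mul, zpow_natCast, hy3, one_zpow]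
      have := (hord ▸ Subgroup.orderOf_dvd_natCard O h3 : 3 ∣ Nat.card O)
      exact (Nat.Prime.coprime_iff_not_dvd Nat.prime_three).1 hcop.symm this
    rw [hu1] at hue
    have hog : o⁻¹ * g * y = y * (o⁻¹ * g) := by
      calc o⁻¹ * g * y = o⁻¹ * y' * g := by simp [y', mul_assoc]
        _ = _ := by rw [hue]; group
    obtain ⟨i, hi⟩ := hc _ (L.mul_mem (L.inv_mem (hOL ho)) g.2) hog
    refine mem_zpowers_iff.2 ⟨-(i : ℤ), ?_⟩
    have e : (g * ⟨y, hyL⟩ ^ i : L) ∈ O.subgroupOf L := by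
      rw [mem_subgroupOf]
      have := mul_mem ho (hWO hi)
      simpa [mul_assoc] using this
    rw [← QuotientGroup.eq_one_iff, ← QuotientGroup.mk'_apply] at e
    change π (g * ⟨y, hyL⟩ ^ i) = 1 at e
    rw [map_mul, map_pow] at e
    rw [zpow_neg, zpow_natCast]
    exact inv_eq_of_mul_eq_one_left e
  -- a normal subgroup of order prime to three is trivial
  have hcore : ∀ N : Subgroup (L ⧸ O.subgroupOf L), N.Normal → (Nat.card N).Coprime 3 → N = ⊥ := by
    intro N hN hN3
    have hM : (N.comap π).Normal := hN.comap π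
    have hMc : (Nat.card (N.comap π)).Coprime 3 := by
      have h1 := QuotientGroup.card_preimage_mk (O.subgroupOf L) (N : Set (L ⧸ O.subgroupOf L))
      rw [show Nat.card (N.comap π) = Nat.card ((O.subgroupOf L)) * Nat.card N from h1,
        Cores.card_subgroupOf hOL]
      exact Nat.Coprime.mul_left hcop hN3
    have hle : N.comap π ≤ O₀ := le_sSup ⟨hM, hMc⟩
    refine le_bot_iff.1 fun q hq => ?_
    obtain ⟨g, rfl⟩ := QuotientGroup.mk'_surjective _ q
    rw [mem_bot, QuotientGroup.mk'_apply, QuotientGroup.eq_one_iff, mem_subgroupOf]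
    exact ⟨g, hle hq, rfl⟩
  -- the action of `A` on the quotient
  have hconj : ∀ a ∈ A, ∀ g : L, a * g * a⁻¹ ∈ L := fun a ha g =>
    (mem_normalizer_iff.1 (hAL ha) g).1 g.2
  have hAO : ∀ a ∈ A, ∀ x, x ∈ O → a * x * a⁻¹ ∈ O := fun a ha x =>
    (mem_normalizer_iff.1 (hnormO a (hAL ha)) x).1
  have fixed : ∀ q : ℕ, q.Prime → q ≠ 3 → ¬ 3 ∣ Nat.card (Sylow q (L ⧸ O.subgroupOf L)) →
      ∃ s : Finset (Sylow q (L ⧸ O.subgroupOf L)),
        s.card % 3 = Nat.card (Sylow q (L ⧸ O.subgroupOf L)) % 3 ∧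
        ∀ T ∈ s, ∀ g : L, π g ∈ (T : Subgroup _) → (g : G) ∈ Ω := by
    intro q hq hq3 hn
    have := Fact.mk hq
    have := Fintype.ofFinite (Sylow q (L ⧸ O.subgroupOf L))
    let ψ : A → L ⧸ O.subgroupOf L → L ⧸ O.subgroupOf L := fun a =>
      Quotient.map' (fun g : L => ⟨a * g * a⁻¹, hconj a a.2 g⟩) (by
        intro g h e
        have e' : π g = π h := Quotient.sound' e
        exact Quotient.exact' (mk_conj_eq (hAO a a.2) e' (hconj a a.2 g) (hconj a a.2 h)))
    have hψ : ∀ (a : A) (g : L), ψ a (π g) = π ⟨a * g * a⁻¹, hconj a a.2 g⟩ := fun a g => rfl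
    letI act : MulDistribMulAction A (L ⧸ O.subgroupOf L) :=
      { smul := ψ
        one_smul := fun x => by
          obtain ⟨g, rfl⟩ := QuotientGroup.mk'_surjective _ x
          show ψ 1 (π g) = π g
          rw [hψ]; exact congrArg π (Subtype.ext (by simp))
        mul_smul := fun a b x => by
          obtain ⟨g, rfl⟩ := QuotientGroup.mk'_surjective _ x
          show ψ (a * b) (π g) = ψ a (ψ b (π g))
          rw [hψ, hψ, hψ]; exact congrArg π (Subtype.ext (by simp [mul_assoc]))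
        smul_mul := fun a x z => by
          obtain ⟨g, rfl⟩ := QuotientGroup.mk'_surjective _ x
          obtain ⟨h, rfl⟩ := QuotientGroup.mk'_surjective _ z
          show ψ a (π g * π h) = ψ a (π g) * ψ a (π h)
          rw [← map_mul, hψ, hψ, hψ, ← map_mul]; exact congrArg π (Subtype.ext (by simp))
        smul_one := fun a => by
          show ψ a (π 1) = π 1
          rw [hψ]; exact congrArg π (Subtype.ext (by simp)) }
    refine ⟨Finset.univ.filter (· ∈ MulAction.fixedPoints A (Sylow q (L ⧸ O.subgroupOf L))), ?_, ?_⟩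
    · have h := hA.card_modEq_card_fixedPoints (Sylow q (L ⧸ O.subgroupOf L))
      rw [Nat.subtype_card (Finset.univ.filter
        (· ∈ MulAction.fixedPoints A (Sylow q (L ⧸ O.subgroupOf L)))) (by simp)] at h
      exact h.symm
    · intro T hT g hg
      have hfix : ∀ a : A, a • T = T := (Finset.mem_filter.1 hT).2
      set U : Subgroup G := ((T : Subgroup _).comap π).map L.subtype
      have hUc : (Nat.card U).Coprime 3 := by
        rw [Cores.card_map_subtype]
        have h1 := QuotientGroup.card_preimage_mk (O.subgroupOf L)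
          ((T : Subgroup (L ⧸ O.subgroupOf L)) : Set (L ⧸ O.subgroupOf L))
        rw [show Nat.card ((T : Subgroup _).comap π) =
          Nat.card ((O.subgroupOf L)) * Nat.card (T : Subgroup (L ⧸ O.subgroupOf L)) from h1,
          Cores.card_subgroupOf hOL, T.card_eq_multiplicity]
        exact Nat.Coprime.mul_left hcop (Nat.Coprime.pow_left _
          ((Nat.coprime_primes hq Nat.prime_three).2 hq3))
      have hUA : A ≤ normalizer (U : Set G) := by
        have hfwd : ∀ a : A, ∀ u ∈ U, (a : G) * u * (a : G)⁻¹ ∈ U := by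
          rintro a _ ⟨u, hu, rfl⟩
          refine ⟨⟨_, hconj a a.2 u⟩, ?_, rfl⟩
          have h1 : a • π u ∈ ((a • T : Sylow q (L ⧸ O.subgroupOf L)) : Subgroup (L ⧸ O.subgroupOf L)) :=
            Subgroup.smul_mem_pointwise_smul _ a _ (show π u ∈ (T : Subgroup _) from hu)
          rw [hfix a] at h1
          exact h1
        intro a ha
        refine mem_normalizer_iff.2 fun u => ⟨fun hu => hfwd ⟨a, ha⟩ u hu, fun hu => ?_⟩
        have := hfwd (⟨a, ha⟩⁻¹ : A) _ hu
        simpa [mul_assoc] using this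
      exact hS U ((map_subtype_le _).trans hLC) hUA hUc ⟨g, hg, rfl⟩
  intro z hz hz3
  have hzq : π ⟨z, hz⟩ ∈ zpowers yb := by
    rcases S3331.main hsc with ⟨N, hN, -, hN3, hq⟩ | ⟨N, hN, hNc, hN2, ⟨e⟩⟩ | ⟨⟨e⟩⟩
    · have hNb := hcore N hN hN3
      subst hNb
      have hcard : Nat.card (L ⧸ O.subgroupOf L) = 3 ∨ Nat.card (L ⧸ O.subgroupOf L) = 6 := by
        have e2 := Nat.card_congr (QuotientGroup.quotientBot (G := L ⧸ O.subgroupOf L)).toEquiv
        refine hq.imp (fun h => e2 ▸ h) fun ⟨e⟩ => ?_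
        rw [← e2, Nat.card_congr e.toEquiv, Nat.card_perm, Nat.card_fin]
        rfl
      have hidx : (zpowers yb).index = 1 ∨ (zpowers yb).index = 2 := by
        have := (zpowers yb).card_mul_index
        rw [Nat.card_zpowers, hsc.ord] at this
        omega
      rcases hidx with h | h
      · rw [index_eq_one] at h; exact h ▸ mem_top _
      · have h2 := Subgroup.mul_self_mem_of_index_two h (π ⟨z, hz⟩)
        have h3 : π ⟨z, hz⟩ * π ⟨z, hz⟩ * π ⟨z, hz⟩ = 1 := by
          rw [← map_mul, ← map_mul, ← map_one π]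
          congr 1
          exact Subtype.ext (by simpa [pow_succ] using hz3)
        rw [show π ⟨z, hz⟩ = (π ⟨z, hz⟩ * π ⟨z, hz⟩)⁻¹ from eq_inv_of_mul_eq_one_right h3]
        exact inv_mem h2
    · exfalso
      have h2 : IsPGroup 2 N := fun n => ⟨1, by rw [pow_one]; exact Subtype.ext (hN2 n n.2)⟩
      have := Fact.mk Nat.prime_two
      obtain ⟨k, hk⟩ := h2.exists_card_eq
      have hNb := hcore N hN (by rw [hk]; exact Nat.Coprime.pow_left k (by norm_num))
      subst hNb
      have h5 := card_sylow_two_of_alt_five ((QuotientGroup.quotientBot (G := L ⧸ O.subgroupOf L)).symm.trans e)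
      obtain ⟨s, hs, hsΩ⟩ := fixed 2 Nat.prime_two (by norm_num) (by rw [h5]; norm_num)
      rw [h5] at hs
      obtain ⟨T1, hT1, T2, hT2, hne⟩ := Finset.one_lt_card.1 (show 1 < s.card by omega)
      set W2 := (Ω.subgroupOf L).map π
      have hW2 : IsPGroup 2 W2 :=
        (hΩ.comap_of_injective L.subtype L.subtype_injective).map π
      have hle : ∀ T ∈ s, (T : Subgroup (L ⧸ O.subgroupOf L)) ≤ W2 := fun T hT q hq => by
        obtain ⟨g, rfl⟩ := QuotientGroup.mk'_surjective _ q
        exact ⟨g, mem_subgroupOf.2 (hsΩ T hT g hq), rfl⟩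
      exact hne (Sylow.ext ((T1.is_maximal' hW2 (hle T1 hT1)).symm.trans
        (T2.is_maximal' hW2 (hle T2 hT2))))
    · exfalso
      obtain ⟨h7, hn⟩ := card_sylow_seven e
      have := Fact.mk (show Nat.Prime 7 by norm_num)
      obtain ⟨s, hs, hsΩ⟩ := fixed 7 (by norm_num) (by norm_num) hn
      obtain ⟨T, hT⟩ : s.Nonempty := Finset.card_pos.1 (by omega)
      obtain ⟨q, hq⟩ := exists_prime_orderOf_dvd_card' (G := (T : Subgroup (L ⧸ O.subgroupOf L))) 7
        (by
          have h1 := (Nat.Prime.dvd_iff_one_le_factorization (by norm_num) Nat.card_pos.ne').1 h7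
          rw [T.card_eq_multiplicity]
          exact dvd_pow_self 7 (by omega))
      obtain ⟨g, hg⟩ := QuotientGroup.mk'_surjective _ (q : L ⧸ O.subgroupOf L)
      obtain ⟨k, hk⟩ := hΩ ⟨g, hsΩ T hT g (hg ▸ q.2)⟩
      have hd : orderOf q ∣ 2 ^ k := by
        refine orderOf_dvd_of_pow_eq_one (Subtype.ext ?_)
        rw [Subgroup.coe_pow, ← hg, ← map_pow]
        have : g ^ 2 ^ k = 1 := Subtype.ext (by simpa using congrArg Subtype.val hk)
        rw [this, map_one]; rfl
      rw [hq] at hd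
      exact absurd (Nat.Prime.dvd_of_dvd_pow (by norm_num) hd) (by norm_num)
  obtain ⟨i, hi⟩ := mem_zpowers_iff.1 hzq
  refine ⟨(-i % 3).toNat, ?_⟩
  have hk : ((((-i) % 3).toNat : ℕ) : ℤ) = (-i) % 3 := Int.toNat_of_nonneg (Int.emod_nonneg _ (by norm_num))
  have e : π (⟨z, hz⟩ * ⟨y, hyL⟩ ^ ((-i) % 3).toNat) = 1 := by
    rw [map_mul, map_pow, ← hi, ← zpow_natCast, hk, ← zpow_add]
    refine orderOf_dvd_iff_zpow_eq_one.1 ?_
    rw [hsc.ord]
    push_cast
    omega
  rw [QuotientGroup.mk'_apply, QuotientGroup.eq_one_iff, mem_subgroupOf] at e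
  exact e

end Cfsg.Agent.SymNineThree
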