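import Cfsg.Agent.Lib.SymNineThree.Frame
import Cfsg.Agent.Lib.SymNineThree.Signalizer
import Cfsg.Agent.Lib.ThreeCubed.Model
import Cfsg.Agent.Lib.Coprime.Invariant
import Cfsg.Agent.S3376

/-!
# The setting of the characterisation of `S9` by a 3-centralizer

* `Setting W j s`: coordinates on `J`, the monomial automizer `W` and a complement `s`
* `exists_setting`: the setting from the hypotheses
-/

set_option autoImplicit false
set_option synthInstance.maxSize 8000
set_option synthInstance.maxHeartbeats 200000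

namespace Cfsg.Agent.SymNineThree

open Cfsg Subgroup
open ThreeCubedSymFour (V3)
open Multiplicative (ofAdd toAdd)

variable {G : Type*} [Group G]

/-- Coordinates on `J`, its monomial automizer and a complement. -/
structure Setting (W : Subgroup Mon) (j : Multiplicative V3 →* G) (s : W →* G) : Prop where
  inj : Function.Injective j
  conj : ∀ (w : W) (v : V3), s w * j (ofAdd v) * (s w)⁻¹ = j (ofAdd (act (w : Mon) v))
  norm : ∀ g : G, g ∈ normalizer (j.range : Set G) → ∃ (v : V3) (w : W), g = j (ofAdd v) * s w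
  perm : ∀ r b, Mon.perm r b ∈ W
  stab : ∀ w ∈ W, act w ones = ones → ∃ r b, w = Mon.perm r b
  cent : ∀ g : G, g * j (ofAdd ones) = j (ofAdd ones) * g →
    ∃ (v : V3) (w : W), act (w : Mon) ones = ones ∧ g = j (ofAdd v) * s w
  sig : Sig j.range ⊤ ⊥

/-- The permutation of nine points permuting blocks. -/
def blockPerm (m : Mon) : Equiv.Perm (Fin 9) where
  toFun i :=
    let b : ZMod 3 := ((i : ℕ) / 3 : ℕ)
    let b' : ZMod 3 := if m.w then m.r - b else m.r + b
    ⟨3 * b'.val + (i : ℕ) % 3, by have := ZMod.val_lt b'; omega⟩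
  invFun i :=
    let b : ZMod 3 := ((i : ℕ) / 3 : ℕ)
    let b' : ZMod 3 := if m.w then m.r - b else b - m.r
    ⟨3 * b'.val + (i : ℕ) % 3, by have := ZMod.val_lt b'; omega⟩
  left_inv := by revert m; unfold Function.LeftInverse; decide +kernel
  right_inv := by revert m; unfold Function.RightInverse Function.LeftInverse; decide +kernel

/-- The three block cycles with exponents. -/
def blockVec (v : V3) : Equiv.Perm (Fin 9) :=
  ThreeCubed.blockHom ![ThreeCubed.rot ^ v.1.val, ThreeCubed.rot ^ v.2.1.val, ThreeCubed.rot ^ v.2.2.val]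

/-- The forgetful element. -/
def permPart (m : Mon) : Mon := Mon.perm m.r m.w

theorem blockVec_add : ∀ v w, blockVec (v + w) = blockVec v * blockVec w := by decide +kernel

theorem blockVec_zero : blockVec 0 = 1 := by decide +kernel

theorem blockPerm_conj : ∀ r b v,
    blockPerm (Mon.perm r b) * blockVec v = blockVec (act (Mon.perm r b) v) * blockPerm (Mon.perm r b) := by
  decide +kernel

theorem blockPerm_mul : ∀ r b r' b',
    blockPerm (Mon.perm r b) * blockPerm (Mon.perm r' b') = blockPerm (Mon.perm r b * Mon.perm r' b') := by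
  decide +kernel

theorem perm_mul : ∀ r b r' b', ∃ r'' b'', Mon.perm r b * Mon.perm r' b' = Mon.perm r'' b'' := by
  decide +kernel

theorem perm_inv : ∀ r b, ∃ r' b', (Mon.perm r b)⁻¹ = Mon.perm r' b' := by decide +kernel

theorem blockVec_ones : blockVec ones = S3376.threeCycles := by decide +kernel

theorem block_injective : ∀ v r b, blockVec v * blockPerm (Mon.perm r b) = 1 → v = 0 ∧ r = 0 ∧ b = false := by
  decide +kernel

theorem block_commutes : ∀ v r b, blockVec v * blockPerm (Mon.perm r b) * blockVec ones =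
    blockVec ones * (blockVec v * blockPerm (Mon.perm r b)) := by decide +kernel

/-- The centralizer in degree nine. -/
theorem exists_block (g : Equiv.Perm (Fin 9))
    (hg : g ∈ centralizer ({S3376.threeCycles} : Set (Equiv.Perm (Fin 9)))) :
    ∃ v r b, g = blockVec v * blockPerm (Mon.perm r b) := by
  classical
  let C := centralizer ({S3376.threeCycles} : Set (Equiv.Perm (Fin 9)))
  let f : V3 × ZMod 3 × Bool → C := fun p =>
    ⟨blockVec p.1 * blockPerm (Mon.perm p.2.1 p.2.2), mem_centralizer_singleton_iff.2 (by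
      rw [← blockVec_ones]; exact block_commutes _ _ _)⟩
  have hinj : Function.Injective f := by
    rintro ⟨v, r, b⟩ ⟨v', r', b'⟩ e
    have e' : blockVec v * blockPerm (Mon.perm r b) = blockVec v' * blockPerm (Mon.perm r' b') :=
      congrArg Subtype.val e
    have h1 : blockVec (v - v') * blockVec v' = blockVec v := by rw [← blockVec_add, sub_add_cancel]
    have h2 : blockVec (v - v') * blockVec v' * blockPerm (Mon.perm r b) =
        blockVec v' * blockPerm (Mon.perm r' b') := by rw [h1]; exact e'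
    have key : ∀ r b r' b', ∃ r'' b'', blockPerm (Mon.perm r b) =
        blockPerm (Mon.perm r'' b'') * blockPerm (Mon.perm r' b') ∧
        (r'' = 0 → b'' = false → r = r' ∧ b = b') := by decide +kernel
    obtain ⟨r'', b'', h3, h4⟩ := key r b r' b'
    rw [h3, ← mul_assoc] at h2
    have h5 : blockVec (v - v') * (blockPerm (Mon.perm r'' b'')) = 1 := by
      have hc : blockVec v' * blockPerm (Mon.perm r'' b'') =
          blockPerm (Mon.perm r'' b'') * blockVec (act (Mon.perm r'' b'')⁻¹ v') := by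
        rw [blockPerm_conj, ← act_mul, mul_inv_cancel, act_one]
      rw [mul_assoc (blockVec (v - v')), hc] at h2
      have h6 := mul_right_cancel h2
      have h7 : blockVec (act (Mon.perm r'' b'')⁻¹ v') = blockVec (0 + act (Mon.perm r'' b'')⁻¹ v') := by
        rw [zero_add]
      have h8 : blockVec (v - v') * blockPerm (Mon.perm r'' b'') =
          blockVec v' * blockVec (-act (Mon.perm r'' b'')⁻¹ v') := by
        have h9 : blockVec (act (Mon.perm r'' b'')⁻¹ v') * blockVec (-act (Mon.perm r'' b'')⁻¹ v') = 1 := by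
          rw [← blockVec_add, add_neg_cancel, blockVec_zero]
        rw [← h6, mul_assoc, mul_assoc, h9, mul_one]
      have perm_eq : ∀ r b (u v : V3), blockVec u * blockPerm (Mon.perm r b) = blockVec v →
          blockVec (u - v) * blockPerm (Mon.perm r b) = 1 := fun r b u v e => by
        rw [sub_eq_add_neg, add_comm, blockVec_add, mul_assoc, e, ← blockVec_add, neg_add_cancel, blockVec_zero]
      rw [← blockVec_add] at h8
      have h10 := perm_eq _ _ _ _ h8
      obtain ⟨-, rfl, rfl⟩ := block_injective _ _ _ h10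
      have e0 : ∀ v : V3, act (Mon.perm 0 false)⁻¹ v = v := by decide +kernel
      rw [e0, add_neg_cancel, sub_zero] at h10
      exact h10
    obtain ⟨h6, h7, h8⟩ := block_injective _ _ _ h5
    obtain ⟨rfl, rfl⟩ := h4 h7 h8
    rw [sub_eq_zero] at h6
    subst h6
    rfl
  have hcard : Nat.card (V3 × ZMod 3 × Bool) = Nat.card C := by
    rw [show Nat.card C = 162 from S3376.card_centralizer_threeCycles, Nat.card_eq_fintype_card]
    decide +kernel
  obtain ⟨⟨v, r, b⟩, hp⟩ :=
    ((Nat.bijective_iff_injective_and_card f).2 ⟨hinj, hcard⟩).2 ⟨g, hg⟩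
  exact ⟨v, r, b, (congrArg Subtype.val hp).symm⟩

theorem cube_perm : ∀ r b, Mon.perm r b * Mon.perm r b * Mon.perm r b = 1 → b = false := by
  decide +kernel

theorem rot_fixed : ∀ r : ZMod 3, r ≠ 0 → ∀ u : V3, act (Mon.perm r false) u = u →
    u = 0 ∨ u = ones ∨ u = -ones := by decide +kernel

/-- The centralizer of `x` as the model. -/
theorem exists_local [Finite G] (x : G)
    (eC : centralizer ({x} : Set G) ≃* centralizer ({S3376.threeCycles} : Set (Equiv.Perm (Fin 9))))
    (hx : orderOf x = 3)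
    (J : Subgroup G) (hJC : J ≤ centralizer ({x} : Set G)) (hJcomm : IsMulCommutative J)
    (hJexp : ∀ g ∈ J, g ^ 3 = 1) (hJcard : Nat.card J = 27) :
    ∃ (j : Multiplicative V3 →* G) (t : Mon → G), Function.Injective j ∧ j.range = J ∧
      (j (ofAdd ones) = x ∨ j (ofAdd ones) = x⁻¹) ∧
      (∀ r b, ∀ v, t (Mon.perm r b) * j (ofAdd v) = j (ofAdd (act (Mon.perm r b) v)) * t (Mon.perm r b)) ∧
      (∀ r b r' b', t (Mon.perm r b) * t (Mon.perm r' b') = t (Mon.perm r b * Mon.perm r' b')) ∧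
      ∀ g : G, g * x = x * g → ∃ v r b, g = j (ofAdd v) * t (Mon.perm r b) := by
  classical
  set C := centralizer ({S3376.threeCycles} : Set (Equiv.Perm (Fin 9)))
  have hv : ∀ v, blockVec v ∈ C := fun v => mem_centralizer_singleton_iff.2 (by
    rw [← blockVec_ones, ← blockVec_add, ← blockVec_add, add_comm])
  have hp : ∀ r b, blockPerm (Mon.perm r b) ∈ C := fun r b => mem_centralizer_singleton_iff.2 (by
    have := block_commutes 0 r b
    rwa [blockVec_zero, one_mul, blockVec_ones] at this)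
  let j : Multiplicative V3 →* G :=
    { toFun := fun v => (eC.symm ⟨blockVec v.toAdd, hv _⟩ : G)
      map_one' := by
        rw [show (⟨blockVec (toAdd (1 : Multiplicative V3)), hv _⟩ : C) = 1 from Subtype.ext blockVec_zero,
          map_one]
        rfl
      map_mul' := fun a b => by
        rw [show (⟨blockVec (toAdd (a * b)), hv _⟩ : C) = ⟨_, hv (toAdd a)⟩ * ⟨_, hv (toAdd b)⟩ from
          Subtype.ext (blockVec_add _ _), map_mul]
        rfl }
  let t : Mon → G := fun m => (eC.symm ⟨blockPerm (Mon.perm m.r m.w), hp _ _⟩ : G)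
  have hjv : ∀ v, j (ofAdd v) = (eC.symm ⟨blockVec v, hv v⟩ : G) := fun v => rfl
  have ht : ∀ r b, t (Mon.perm r b) = (eC.symm ⟨blockPerm (Mon.perm r b), hp r b⟩ : G) := fun r b => rfl
  have hinj : Function.Injective j := (injective_iff_map_eq_one _).2 fun v hv1 => by
    have h1 : eC.symm ⟨blockVec v.toAdd, hv _⟩ = 1 := Subtype.ext hv1
    rw [MulEquiv.map_eq_one_iff] at h1
    have h2 : blockVec v.toAdd * blockPerm (Mon.perm 0 false) = 1 := by
      rw [show blockVec v.toAdd = 1 from congrArg Subtype.val h1, one_mul]; decide +kernel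
    exact congrArg ofAdd (block_injective _ _ _ h2).1
  have hfull : ∀ g : G, g * x = x * g → ∃ v r b, g = j (ofAdd v) * t (Mon.perm r b) := by
    intro g hg
    obtain ⟨v, r, b, e⟩ := exists_block _ (eC ⟨g, mem_centralizer_singleton_iff.2 hg⟩).2
    refine ⟨v, r, b, ?_⟩
    have e' : eC ⟨g, mem_centralizer_singleton_iff.2 hg⟩ = ⟨_, hv v⟩ * ⟨_, hp r b⟩ := Subtype.ext e
    have := congrArg eC.symm e'
    rw [MulEquiv.symm_apply_apply, map_mul] at this
    exact congrArg Subtype.val this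
  have hconj : ∀ r b v, t (Mon.perm r b) * j (ofAdd v) = j (ofAdd (act (Mon.perm r b) v)) * t (Mon.perm r b) := by
    intro r b v
    rw [hjv, hjv, ht, ← Subgroup.coe_mul, ← Subgroup.coe_mul, ← map_mul, ← map_mul]
    exact congrArg (fun c : C => (eC.symm c : G)) (Subtype.ext (blockPerm_conj r b v))
  have hmul : ∀ r b r' b', t (Mon.perm r b) * t (Mon.perm r' b') = t (Mon.perm r b * Mon.perm r' b') := by
    intro r b r' b'
    obtain ⟨r'', b'', e⟩ := perm_mul r b r' b'
    rw [e, ht, ht, ht, ← Subgroup.coe_mul, ← map_mul]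
    refine congrArg (fun c : C => (eC.symm c : G)) (Subtype.ext ?_)
    show blockPerm (Mon.perm r b) * blockPerm (Mon.perm r' b') = blockPerm (Mon.perm r'' b'')
    rw [blockPerm_mul, e]
  -- the elements of `J`
  have hJx : ∀ g ∈ J, g * x = x * g := fun g hg => mem_centralizer_singleton_iff.1 (hJC hg)
  have hnow : ∀ g ∈ J, ∃ v r, g = j (ofAdd v) * t (Mon.perm r false) := by
    intro g hg
    obtain ⟨v, r, b, rfl⟩ := hfull g (hJx g hg)
    set P := t (Mon.perm r b)
    have h3 := hJexp _ hg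
    obtain ⟨u, hu⟩ : ∃ u, (j (ofAdd v) * P) ^ 3 = j (ofAdd u) * (P * P * P) := by
      refine ⟨v + act (Mon.perm r b) v + act (Mon.perm r b) (act (Mon.perm r b) v), ?_⟩
      rw [ofAdd_add, ofAdd_add, map_mul, map_mul]
      calc (j (ofAdd v) * P) ^ 3 = j (ofAdd v) * (P * j (ofAdd v)) * (P * j (ofAdd v)) * P := by
            simp [pow_succ, mul_assoc]
        _ = j (ofAdd v) * (j (ofAdd (act (Mon.perm r b) v)) * P) *
            (j (ofAdd (act (Mon.perm r b) v)) * P) * P := by rw [hconj]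
        _ = j (ofAdd v) * j (ofAdd (act (Mon.perm r b) v)) * (P * j (ofAdd (act (Mon.perm r b) v))) *
            (P * P) := by simp [mul_assoc]
        _ = _ := by rw [hconj]; simp [mul_assoc]; rfl
    rw [h3, hmul] at hu
    obtain ⟨r', b', e⟩ := perm_mul r b r b
    rw [e, hmul] at hu
    obtain ⟨r'', b'', e2⟩ := perm_mul r' b' r b
    rw [e2] at hu
    have h4 : eC.symm (⟨blockVec u, hv u⟩ * ⟨blockPerm (Mon.perm r'' b''), hp _ _⟩) = 1 := by
      rw [map_mul]; exact Subtype.ext hu.symm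
    rw [MulEquiv.map_eq_one_iff] at h4
    obtain ⟨-, h5, h6⟩ := block_injective _ _ _ (congrArg Subtype.val h4)
    have : b = false := cube_perm r b (by rw [e, e2, h5, h6]; rfl)
    exact ⟨v, r, by rw [show P = t (Mon.perm r false) by rw [← this]]⟩
  have hJle : J ≤ j.range := by
    intro g hg
    obtain ⟨v, r, rfl⟩ := hnow g hg
    by_cases hr : r = 0
    · subst hr
      have : t (Mon.perm 0 false) = 1 := by
        rw [ht, show (⟨blockPerm (Mon.perm 0 false), hp 0 false⟩ : C) = 1 from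
          Subtype.ext (show blockPerm (Mon.perm 0 false) = 1 by decide +kernel), map_one]
        rfl
      rw [this, mul_one]; exact ⟨_, rfl⟩
    exfalso
    have hsmall : ∀ u, j (ofAdd u) ∈ J → u = 0 ∨ u = ones ∨ u = -ones := by
      intro u hu
      have hc : (j (ofAdd v) * t (Mon.perm r false)) * j (ofAdd u) =
          j (ofAdd u) * (j (ofAdd v) * t (Mon.perm r false)) :=
        congrArg Subtype.val (hJcomm.is_comm.comm ⟨_, hg⟩ ⟨_, hu⟩)
      rw [mul_assoc, hconj, ← mul_assoc, ← mul_assoc, ← map_mul j, ← map_mul j, mul_left_inj] at hc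
      have h7 : v + act (Mon.perm r false) u = u + v := by
        simpa only [toAdd_mul, toAdd_ofAdd] using congrArg toAdd (hinj hc)
      rw [add_comm u, add_right_inj] at h7
      exact rot_fixed r hr u h7
    have hbound : Nat.card J ≤ 9 := by
      choose fv fr hf using fun g : J => hnow g g.2
      have key : ∀ g h : J, fr g = fr h →
          fv g - fv h = 0 ∨ fv g - fv h = ones ∨ fv g - fv h = -ones := fun g h e => by
        refine hsmall _ ?_
        have : j (ofAdd (fv g - fv h)) = (g : G) * (h : G)⁻¹ := by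
          rw [ofAdd_sub, map_div, hf g, hf h, e, div_eq_mul_inv]; group
        rw [this]; exact mul_mem g.2 (inv_mem h.2)
      let c : V3 → ZMod 3 := fun u => u.1
      have hc : ∀ u : V3, (u = 0 ∨ u = ones ∨ u = -ones) → u.1 = 0 → u = 0 := by decide +kernel
      refine le_trans (Nat.card_le_card_of_injective (fun g : J => (fr g, (fv g).1)) ?_)
        (by rw [Nat.card_prod, Nat.card_zmod])
      intro g h e
      simp only [Prod.mk.injEq] at e
      have h0 := hc _ (key g h e.1) (by rw [Prod.fst_sub, e.2, sub_self])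
      rw [sub_eq_zero] at h0
      exact Subtype.ext (by rw [hf g, hf h, h0, e.1])
    omega
  have hrange : j.range = J := (eq_of_le_of_card_ge hJle (by
    rw [← Nat.card_congr (MonoidHom.ofInjective hinj).toEquiv, hJcard,
      Nat.card_congr Multiplicative.toAdd]
    simp [Nat.card_prod, Nat.card_zmod])).symm
  -- the distinguished point
  have hxJ : x ∈ j.range ∧ ∀ g, g * x = x * g → g * j (ofAdd ones) = j (ofAdd ones) * g := by
    constructor
    · obtain ⟨v, r, b, e⟩ := hfull x rfl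
      have h1 : ∀ u, x * j (ofAdd u) = j (ofAdd u) * x := fun u =>
        (hJx _ (hrange ▸ ⟨_, rfl⟩)).symm
      have h2 : ∀ u, act (Mon.perm r b) u = u := by
        intro u
        have h3 := h1 u
        rw [e, mul_assoc, hconj, ← mul_assoc, ← mul_assoc, ← map_mul j, ← map_mul j, mul_left_inj] at h3
        have h4 : v + act (Mon.perm r b) u = u + v := by
          simpa only [toAdd_mul, toAdd_ofAdd] using congrArg toAdd (hinj h3)
        rwa [add_comm u, add_right_inj] at h4
      have key : ∀ r b, (∀ u, act (Mon.perm r b) u = u) → blockPerm (Mon.perm r b) = 1 := by decide +kernel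
      refine ⟨ofAdd v, ?_⟩
      rw [e, ht, show (⟨blockPerm (Mon.perm r b), hp r b⟩ : C) = 1 from Subtype.ext (key r b h2), map_one,
        Subgroup.coe_one, mul_one]
    · intro g hg
      obtain ⟨v, r, b, rfl⟩ := hfull g hg
      rw [mul_assoc, hconj, show act (Mon.perm r b) ones = ones by
        clear * - r b; revert r b; decide +kernel, ← mul_assoc, ← mul_assoc, ← map_mul j, ← map_mul j, mul_comm]
  obtain ⟨⟨u0, hu⟩, hcen⟩ := hxJ
  have hu2 : ∀ r b, act (Mon.perm r b) u0.toAdd = u0.toAdd := by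
    intro r b
    have h1' : j (ofAdd (act (Mon.perm r b) u0.toAdd)) = j (ofAdd u0.toAdd) := by
      have := mem_centralizer_singleton_iff.1 (SetLike.coe_mem (eC.symm ⟨blockPerm (Mon.perm r b), hp r b⟩))
      rw [← ht, ← hu, show u0 = ofAdd u0.toAdd from rfl, hconj] at this
      exact mul_right_cancel this
    exact congrArg toAdd (hinj h1')
  refine ⟨j, t, hinj, hrange, ?_, hconj, hmul, hfull⟩
  rcases perm_fixed u0.toAdd (fun r => hu2 r true) with h | h | h
  · exfalso
    rw [show u0 = 1 from Multiplicative.toAdd.injective h, map_one] at hu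
    rw [← hu, orderOf_one] at hx
    omega
  · left; rw [← hu, ← h]; rfl
  · right
    rw [← hu, ← map_inv, show ofAdd ones = u0⁻¹ from Multiplicative.toAdd.injective (by simp [h])]

theorem diag_moves : ∀ d : Mon, d.r = 0 → d.w = false → d ≠ 1 → ∀ v : V3, v ≠ 0 →
    ∃ r, act (Mon.perm r false * d * (Mon.perm r false)⁻¹) v ≠ v := by decide +kernel

theorem diag_two : ∀ d : Mon, d.r = 0 → d.w = false → d * d = 1 := by decide +kernel

theorem diag_part : ∀ m : Mon, ∀ r b, m = ⟨r, b, m.s, m.t, m.u⟩ →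
    (m * (Mon.perm r b)⁻¹).r = 0 ∧ (m * (Mon.perm r b)⁻¹).w = false := by decide +kernel

theorem diag_conj : ∀ m d : Mon, d.r = 0 → d.w = false →
    (m * d * m⁻¹).r = 0 ∧ (m * d * m⁻¹).w = false := by decide +kernel

universe u

/-- The setting of the characterisation. -/
theorem exists_setting {G : Type u} [Group G] [Finite G] (x : G)
    (eC : centralizer ({x} : Set G) ≃* centralizer ({S3376.threeCycles} : Set (Equiv.Perm (Fin 9))))
    (hx : orderOf x = 3)
    (J : Subgroup G) (hJC : J ≤ centralizer ({x} : Set G)) (hJcomm : IsMulCommutative J)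
    (hJexp : ∀ g ∈ J, g ^ 3 = 1) (hJcard : Nat.card J = 27)
    (hJsig : ∀ K : Subgroup G, (Nat.card K).Coprime 3 →
      (∀ a ∈ J, K.map (MulAut.conj a).toMonoidHom = K) → K = ⊥) :
    ∃ (W : Subgroup Mon) (j : Multiplicative V3 →* G) (s : W →* G), Setting W j s ∧ j.range = J := by
  classical
  obtain ⟨j₀, t, hinj₀, hrange, hx₀, hconj₀, hmul₀, hfull⟩ := exists_local x eC hx J hJC hJcomm hJexp hJcard
  set N := normalizer (J : Set G)
  have hcx : ∀ g : G, g * j₀ (ofAdd ones) = j₀ (ofAdd ones) * g ↔ g * x = x * g := fun g => by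
    rcases hx₀ with h | h <;> rw [h]
    exact ⟨fun e => by simpa using (show Commute g x⁻¹ from e).inv_right.eq,
      fun e => (show Commute g x from e).inv_right.eq⟩
  -- the linear maps
  let WF : Set (V3 →+ V3) := {f | ∃ g ∈ N, ∀ v, g * j₀ (ofAdd v) = j₀ (ofAdd (f v)) * g}
  have hfun : ∀ g ∈ N, ∃ f : V3 →+ V3, ∀ v, g * j₀ (ofAdd v) = j₀ (ofAdd (f v)) * g := by
    intro g hg
    have h1 : ∀ v, ∃ v' : V3, g * j₀ (ofAdd v) * g⁻¹ = j₀ (ofAdd v') := fun v => by
      obtain ⟨u, hu⟩ := hrange.symm ▸ ((mem_normalizer_iff.1 hg _).1 (hrange ▸ ⟨_, rfl⟩ : j₀ (ofAdd v) ∈ J))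
      exact ⟨u.toAdd, hu.symm⟩
    choose f hf using h1
    refine ⟨AddMonoidHom.mk' f fun a b => congrArg toAdd (hinj₀ ?_), fun v => ?_⟩
    · show j₀ (ofAdd (f (a + b))) = j₀ (ofAdd (f a + f b))
      rw [← hf, ofAdd_add, map_mul, ofAdd_add, map_mul, ← hf, ← hf]
      group
    · show g * j₀ (ofAdd v) = j₀ (ofAdd (f v)) * g
      rw [← hf, inv_mul_cancel_right]
  have huniq : ∀ (f f' : V3 → V3) (g : G), (∀ v, g * j₀ (ofAdd v) = j₀ (ofAdd (f v)) * g) →
      (∀ v, g * j₀ (ofAdd v) = j₀ (ofAdd (f' v)) * g) → ∀ v, f v = f' v := fun f f' g h h' v =>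
    congrArg toAdd (hinj₀ (mul_right_cancel ((h v).symm.trans (h' v))))
  have htN : ∀ r b, t (Mon.perm r b) ∈ N := fun r b => by
    refine mem_normalizer_iff_map_conj_eq.2 (eq_of_le_of_card_ge ?_
      (by rw [card_map_of_injective (MulAut.conj _).injective]))
    rintro _ ⟨z, hz, rfl⟩
    obtain ⟨v, rfl⟩ := hrange.symm ▸ hz
    refine hrange ▸ ⟨ofAdd (act (Mon.perm r b) v.toAdd), ?_⟩
    show _ = t (Mon.perm r b) * j₀ (ofAdd v.toAdd) * (t (Mon.perm r b))⁻¹
    rw [hconj₀, mul_inv_cancel_right]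
  have hW : Act WF := by
    refine ⟨?_, ?_, fun r b => ⟨_, htN r b, fun v => hconj₀ r b v⟩, ?_⟩
    · rintro f ⟨g, hg, hf⟩ f' ⟨g', hg', hf'⟩
      refine ⟨g * g', mul_mem hg hg', fun v => ?_⟩
      show g * g' * j₀ (ofAdd v) = j₀ (ofAdd (f (f' v))) * (g * g')
      rw [mul_assoc, hf', ← mul_assoc, hf, mul_assoc]
    · rintro f ⟨g, hg, hf⟩
      obtain ⟨f', hf'⟩ := hfun g⁻¹ (inv_mem hg)
      refine ⟨f', ⟨g⁻¹, inv_mem hg, hf'⟩, AddMonoidHom.ext fun v => ?_, AddMonoidHom.ext fun v => ?_⟩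
      · refine huniq (fun v => f' (f v)) id (g⁻¹ * g) (fun v => ?_) (fun v => by simp) v
        rw [mul_assoc, hf, ← mul_assoc, hf', mul_assoc]
      · refine huniq (fun v => f (f' v)) id (g * g⁻¹) (fun v => ?_) (fun v => by simp) v
        rw [mul_assoc, hf', ← mul_assoc, hf, mul_assoc]
    · rintro f ⟨g, hg, hf⟩ h1
      have h2 := hf ones
      rw [h1] at h2
      obtain ⟨v, r, b, rfl⟩ := hfull g ((hcx g).1 h2)
      refine ⟨r, b, AddMonoidHom.ext fun u => ?_⟩
      refine huniq f (act (Mon.perm r b)) _ hf (fun u => ?_) u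
      rw [mul_assoc, hconj₀, ← mul_assoc, ← mul_assoc, ← map_mul j₀, ← map_mul j₀, mul_comm (ofAdd v)]
  obtain ⟨β, hβ⟩ := hW.exists_frame
  let j : Multiplicative V3 →* G := j₀.comp (AddMonoidHom.toMultiplicative (shearAdd β))
  have hjv : ∀ v, j (ofAdd v) = j₀ (ofAdd (shear β v)) := fun v => rfl
  have hinj : Function.Injective j := fun a b h => by
    have h1 := congrArg toAdd (hinj₀ h)
    have h2 : shear (-β) (shear β a.toAdd) = shear (-β) (shear β b.toAdd) := congrArg (shear (-β)) h1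
    rw [shear_shear, shear_shear] at h2
    exact Multiplicative.toAdd.injective h2
  have hjr : j.range = J := by
    rw [← hrange]
    refine le_antisymm ?_ ?_
    · rintro _ ⟨v, rfl⟩; exact ⟨_, rfl⟩
    · rintro _ ⟨v, rfl⟩
      exact ⟨ofAdd (shear (-β) v.toAdd), by rw [hjv, shear_shear']; rfl⟩
  have hmu : ∀ g ∈ N, ∃ m : Mon, ∀ v, g * j (ofAdd v) = j (ofAdd (act m v)) * g := by
    intro g hg
    obtain ⟨f, hf⟩ := hfun g hg
    obtain ⟨m, hm⟩ := hβ f ⟨g, hg, hf⟩
    exact ⟨m, fun v => by rw [hjv, hjv, hf, hm]⟩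
  have mu_uniq : ∀ (m m' : Mon) (g : G), (∀ v, g * j (ofAdd v) = j (ofAdd (act m v)) * g) →
      (∀ v, g * j (ofAdd v) = j (ofAdd (act m' v)) * g) → m = m' := fun m m' g h h' =>
    have e : ∀ v, act m v = act m' v := fun v =>
      congrArg toAdd (hinj (mul_right_cancel ((h v).symm.trans (h' v))))
    act_ext _ _ (e _) (e _) (e _)
  choose mu hmu using hmu
  have hone : ∀ v, act 1 v = v := act_one
  let μ : N →* Mon :=
    { toFun := fun g => mu g g.2
      map_one' := mu_uniq _ _ (1 : G) (fun v => hmu _ _ v) (fun v => by rw [one_mul, hone, mul_one])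
      map_mul' := fun a b => mu_uniq _ _ ((a : G) * b) (fun v => hmu _ _ v) (fun v => by
        rw [mul_assoc, hmu _ b.2, ← mul_assoc, hmu _ a.2, act_mul, mul_assoc]) }
  have hμ : ∀ (g : N) (v : V3), (g : G) * j (ofAdd v) = j (ofAdd (act (μ g) v)) * g := fun g v => hmu _ _ v
  set W := μ.range
  have hperm : ∀ r b, μ ⟨t (Mon.perm r b), htN r b⟩ = Mon.perm r b := fun r b =>
    mu_uniq _ _ (t (Mon.perm r b)) (hμ ⟨_, htN r b⟩) fun v => by rw [hjv, hconj₀, hjv, shear_perm]
  have hWp : ∀ r b, Mon.perm r b ∈ W := fun r b => ⟨_, hperm r b⟩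
  have hjones : j (ofAdd ones) = j₀ (ofAdd ones) := by rw [hjv, shear_ones]
  have hcent : ∀ g : G, g * j (ofAdd ones) = j (ofAdd ones) * g → ∃ hg : g ∈ N,
      (∃ v r b, g = j (ofAdd v) * t (Mon.perm r b) ∧ μ ⟨g, hg⟩ = Mon.perm r b) := by
    intro g hg
    rw [hjones, hcx] at hg
    obtain ⟨v, r, b, rfl⟩ := hfull g hg
    obtain ⟨v', hv'⟩ : j₀ (ofAdd v) ∈ j.range := by rw [hjr, ← hrange]; exact ⟨_, rfl⟩
    have hgN : j₀ (ofAdd v) * t (Mon.perm r b) ∈ N :=
      mul_mem (le_normalizer (hrange ▸ ⟨_, rfl⟩)) (htN r b)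
    refine ⟨hgN, v'.toAdd, r, b, by rw [← hv']; rfl, ?_⟩
    refine mu_uniq _ _ _ (hμ ⟨_, hgN⟩) fun u => ?_
    show j₀ (ofAdd v) * t (Mon.perm r b) * j (ofAdd u) = j (ofAdd (act (Mon.perm r b) u)) * (j₀ (ofAdd v) * t (Mon.perm r b))
    rw [← hv', mul_assoc, show t (Mon.perm r b) * j (ofAdd u) = j (ofAdd (act (Mon.perm r b) u)) * t (Mon.perm r b) by
      rw [hjv, hconj₀, hjv, shear_perm], ← mul_assoc, ← mul_assoc, ← map_mul j, ← map_mul j, mul_comm v']
  have hstab : ∀ w ∈ W, act w ones = ones → ∃ r b, w = Mon.perm r b := by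
    rintro _ ⟨g, rfl⟩ h
    obtain ⟨_, v, r, b, -, e⟩ := hcent (g : G) (by rw [hμ g, h])
    exact ⟨r, b, e⟩
  have hker : ∀ g : N, μ g = 1 → ∃ v, (g : G) = j (ofAdd v) := by
    intro g h
    obtain ⟨_, v, r, b, e, e'⟩ := hcent (g : G) (by rw [hμ g, h, hone])
    have h1 : Mon.perm r b = 1 := e'.symm.trans h
    obtain ⟨rfl, rfl⟩ : r = 0 ∧ b = false := by clear * - h1; revert r b; decide +kernel
    have : t (Mon.perm 0 false) = 1 := by
      have h2 := hmul₀ 0 false 0 false
      rwa [show Mon.perm 0 false * Mon.perm 0 false = Mon.perm 0 false by decide +kernel, mul_eq_left] at h2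
    exact ⟨v, by rw [e, this, mul_one]⟩
  -- a complement
  obtain ⟨M, hMN, hMJ, hMW⟩ : ∃ M : Subgroup G, M ≤ N ∧ (∀ v, j (ofAdd v) ∈ M → v = 0) ∧
      ∀ w ∈ W, ∃ g : N, (g : G) ∈ M ∧ μ g = w := by
    by_cases hall : ∀ w ∈ W, act w ones = ones
    · let M : Subgroup G :=
        { carrier := {g | ∃ r b, g = t (Mon.perm r b)}
          one_mem' := ⟨0, false, by
            have h2 := hmul₀ 0 false 0 false
            rw [show Mon.perm 0 false * Mon.perm 0 false = Mon.perm 0 false by decide +kernel, mul_eq_left] at h2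
            exact h2.symm⟩
          mul_mem' := by
            rintro _ _ ⟨r, b, rfl⟩ ⟨r', b', rfl⟩
            obtain ⟨r'', b'', e⟩ := perm_mul r b r' b'
            exact ⟨r'', b'', by rw [hmul₀, e]⟩
          inv_mem' := by
            rintro _ ⟨r, b, rfl⟩
            obtain ⟨r', b', e⟩ := perm_inv r b
            refine ⟨r', b', inv_eq_of_mul_eq_one_right ?_⟩
            rw [← e, show (Mon.perm r b)⁻¹ = Mon.perm r' b' from e, hmul₀, ← e, mul_inv_cancel]
            have h2 := hmul₀ 0 false 0 false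
            rw [show Mon.perm 0 false * Mon.perm 0 false = Mon.perm 0 false by decide +kernel, mul_eq_left] at h2
            exact h2 }
      refine ⟨M, ?_, ?_, fun w hw => ?_⟩
      · rintro _ ⟨r, b, rfl⟩; exact htN r b
      · rintro v ⟨r, b, e⟩
        have hjN : j (ofAdd v) ∈ N := le_normalizer (hjr ▸ ⟨_, rfl⟩)
        have h1 : μ ⟨_, hjN⟩ = 1 := mu_uniq _ _ _ (hμ ⟨_, hjN⟩) fun u => by
          rw [hone]
          show j (ofAdd v) * j (ofAdd u) = j (ofAdd u) * j (ofAdd v)
          rw [← map_mul j, ← map_mul j, mul_comm]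
        have h2 := hperm r b
        rw [show (⟨t (Mon.perm r b), htN r b⟩ : N) = ⟨_, hjN⟩ from Subtype.ext e.symm, h1] at h2
        obtain ⟨rfl, rfl⟩ : r = 0 ∧ b = false := by clear * - h2; revert r b; decide +kernel
        have h3 := hmul₀ 0 false 0 false
        rw [show Mon.perm 0 false * Mon.perm 0 false = Mon.perm 0 false by decide +kernel, mul_eq_left] at h3
        rw [h3, ← map_one j] at e
        exact congrArg toAdd (hinj e)
      · obtain ⟨r, b, rfl⟩ := hstab w hw (hall w hw)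
        exact ⟨⟨_, htN r b⟩, ⟨r, b, rfl⟩, hperm r b⟩
    · push Not at hall
      obtain ⟨w0, hw0, hw0x⟩ := hall
      let D : Subgroup Mon :=
        { carrier := {m | m ∈ W ∧ m.r = 0 ∧ m.w = false}
          one_mem' := ⟨one_mem W, rfl, rfl⟩
          mul_mem' := fun {a b} ha hb => ⟨mul_mem ha.1 hb.1, by
            have key : ∀ a b : Mon, a.r = 0 → a.w = false → b.r = 0 → b.w = false →
                (a * b).r = 0 ∧ (a * b).w = false := by decide +kernel
            exact key a b ha.2.1 ha.2.2 hb.2.1 hb.2.2⟩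
          inv_mem' := fun {a} ha => by
            rw [inv_eq_of_mul_eq_one_right (diag_two a ha.2.1 ha.2.2)]; exact ha }
      obtain ⟨d, hd, hd1⟩ : ∃ d ∈ D, d ≠ 1 := by
        refine ⟨w0 * (Mon.perm w0.r w0.w)⁻¹,
          ⟨mul_mem hw0 (inv_mem (hWp _ _)), diag_part w0 _ _ rfl⟩, fun h => hw0x ?_⟩
        rw [mul_inv_eq_one] at h
        rw [h]
        generalize w0.r = r, w0.w = b
        revert r b; decide +kernel
      let T₀ : Subgroup N := D.comap μ
      haveI : T₀.Normal := ⟨fun a ha g => by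
        show μ (g * a * g⁻¹) ∈ D
        rw [map_mul, map_mul, map_inv]
        exact ⟨mul_mem (mul_mem ⟨g, rfl⟩ ha.1) (inv_mem ⟨g, rfl⟩),
          diag_conj _ _ ha.2.1 ha.2.2⟩⟩
      haveI : Fact (Nat.Prime 2) := ⟨Nat.prime_two⟩
      obtain ⟨Q⟩ := (inferInstance : Nonempty (Sylow 2 T₀))
      let μ₀ : T₀ →* D := (μ.comp T₀.subtype).codRestrict D fun a => a.2
      have hμ₀ : Function.Surjective μ₀ := by
        rintro ⟨m, hm⟩
        obtain ⟨g, rfl⟩ := hm.1
        exact ⟨⟨g, hm⟩, rfl⟩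
      have hD2 : IsPGroup 2 D := fun a => ⟨1, Subtype.ext (by
        rw [pow_one, SubgroupClass.coe_pow, pow_two]; exact diag_two _ a.2.2.1 a.2.2.2)⟩
      have hQtop : (Q : Subgroup T₀).map μ₀ = ⊤ := by
        have h1 : ((Q.mapSurjective hμ₀ : Sylow 2 D) : Subgroup D) = ⊤ :=
          ((Q.mapSurjective hμ₀).is_maximal' (hD2.to_subgroup ⊤) le_top).symm
        exact h1
      set Q' : Subgroup N := (Q : Subgroup T₀).map T₀.subtype
      let M : Subgroup G := (normalizer (Q' : Set N)).map N.subtype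
      refine ⟨M, map_subtype_le _, ?_, ?_⟩
      · rintro v ⟨g, hg, e⟩
        by_contra hv
        obtain ⟨r, hr⟩ := diag_moves d hd.2.1 hd.2.2 hd1 v hv
        have hmem : Mon.perm r false * d * (Mon.perm r false)⁻¹ ∈ D :=
          ⟨mul_mem (mul_mem (hWp _ _) hd.1) (inv_mem (hWp _ _)), diag_conj _ _ hd.2.1 hd.2.2⟩
        obtain ⟨q, hq, hqe⟩ := (hQtop.symm ▸ mem_top (⟨_, hmem⟩ : D) : (⟨_, hmem⟩ : D) ∈ (Q : Subgroup T₀).map μ₀)
        have hqμ : μ (q : N) = Mon.perm r false * d * (Mon.perm r false)⁻¹ := congrArg Subtype.val hqe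
        have hqQ : (q : N) ∈ Q' := ⟨q, hq, rfl⟩
        have h1 : (q : N) * g * (q : N)⁻¹ * g⁻¹ ∈ Q' := by
          have := mul_mem hqQ ((mem_normalizer_iff.1 hg _).1 (inv_mem hqQ))
          simpa [mul_assoc] using this
        obtain ⟨p, hp, hpe⟩ := h1
        have hval : ((p : N) : G) = j (ofAdd (act (μ (q : N)) v - v)) := by
          rw [show (p : N) = (q : N) * g * (q : N)⁻¹ * g⁻¹ from hpe]
          show ((q : N) : G) * (g : G) * ((q : N) : G)⁻¹ * (g : G)⁻¹ = _
          rw [show (g : G) = j (ofAdd v) from e, hμ, mul_inv_cancel_right, ofAdd_sub, map_div, div_eq_mul_inv]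
        have h2 : p = 1 := by
          obtain ⟨k, hk⟩ := Q.isPGroup' ⟨p, hp⟩
          have hk' : p ^ 2 ^ k = 1 := congrArg Subtype.val hk
          have h3 : p ^ 3 = 1 := by
            refine Subtype.ext (Subtype.ext ?_)
            rw [SubgroupClass.coe_pow, SubgroupClass.coe_pow, hval, ← map_pow]
            show j _ = 1
            rw [show (ofAdd (act (μ (q : N)) v - v)) ^ 3 = 1 from ?_, map_one]
            generalize act (μ (q : N)) v - v = u
            revert u; decide +kernel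
          have := pow_gcd_eq_one.2 ⟨hk', h3⟩
          rwa [show Nat.gcd (2 ^ k) 3 = 1 from Nat.Coprime.pow_left k (by norm_num), pow_one] at this
        rw [h2] at hval
        have h4 : ofAdd (act (μ (q : N)) v - v) = 1 := hinj (by rw [map_one, ← hval]; rfl)
        rw [hqμ] at h4
        exact hr (sub_eq_zero.1 (congrArg toAdd h4))
      · rintro _ ⟨g, rfl⟩
        have hg : g ∈ normalizer (Q' : Set N) ⊔ T₀ := by
          rw [sup_comm, show T₀ ⊔ normalizer (Q' : Set N) = ⊤ from ?_]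
          · exact mem_top g
          · rw [sup_comm]; exact Sylow.normalizer_sup_eq_top Q
        obtain ⟨n, hn, u, hu, rfl⟩ : ∃ n ∈ normalizer (Q' : Set N), ∃ u ∈ T₀, n * u = g :=
          mem_sup_of_normal_right.1 hg
        obtain ⟨q, hq, hqe⟩ := (hQtop.symm ▸ mem_top (⟨μ u, hu⟩ : D) : (⟨μ u, hu⟩ : D) ∈ (Q : Subgroup T₀).map μ₀)
        refine ⟨n * (q : N), ⟨_, mul_mem hn (le_normalizer ⟨q, hq, rfl⟩), rfl⟩, ?_⟩
        rw [map_mul, map_mul, show μ (q : N) = μ u from congrArg Subtype.val hqe]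
  have hsec : ∀ w : W, ∃! g : G, g ∈ M ∧ ∃ hg : g ∈ N, μ ⟨g, hg⟩ = (w : Mon) := by
    intro w
    obtain ⟨g, hgM, hge⟩ := hMW w w.2
    refine ⟨g, ⟨hgM, g.2, hge⟩, fun g' ⟨hM', hN', he'⟩ => ?_⟩
    obtain ⟨v, hv⟩ := hker (⟨g', hN'⟩ * g⁻¹) (by rw [map_mul, map_inv, he', hge, mul_inv_cancel])
    have h1 := hMJ v (hv ▸ mul_mem hM' (inv_mem hgM))
    rw [h1, ofAdd_zero, map_one] at hv
    exact mul_inv_eq_one.1 hv
  choose sf hsf hsu using hsec
  have hsN : ∀ w : W, sf w ∈ N := fun w => (hsf w).2.1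
  have hsμ : ∀ w : W, μ ⟨sf w, hsN w⟩ = (w : Mon) := fun w => (hsf w).2.2
  let s : W →* G :=
    { toFun := sf
      map_one' := (hsu 1 1 ⟨one_mem M, one_mem N, map_one μ⟩).symm
      map_mul' := fun a b => (hsu (a * b) _ ⟨mul_mem (hsf a).1 (hsf b).1, mul_mem (hsN a) (hsN b), by
        rw [show (⟨sf a * sf b, mul_mem (hsN a) (hsN b)⟩ : N) = ⟨_, hsN a⟩ * ⟨_, hsN b⟩ from rfl,
          map_mul, hsμ, hsμ]
        rfl⟩).symm }
  have hnorm : ∀ g (hg : g ∈ N), ∃ v, g = j (ofAdd v) * s ⟨μ ⟨g, hg⟩, ⟨_, rfl⟩⟩ := by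
    intro g hg
    set w : W := ⟨μ ⟨g, hg⟩, ⟨_, rfl⟩⟩
    obtain ⟨v, hv⟩ := hker (⟨g, hg⟩ * ⟨_, hsN w⟩⁻¹) (by rw [map_mul, map_inv, hsμ, mul_inv_cancel])
    refine ⟨v, ?_⟩
    rw [← hv]
    show g = g * (sf w)⁻¹ * sf w
    rw [inv_mul_cancel_right]
  refine ⟨W, j, s, ⟨hinj, fun w v => ?_, fun g hg => ?_, hWp, hstab, fun g hg => ?_, ?_⟩, hjr⟩
  · show sf w * _ * (sf w)⁻¹ = _
    rw [hμ ⟨_, hsN w⟩ v, mul_inv_cancel_right, hsμ]
  · rw [hjr] at hg
    obtain ⟨v, hv⟩ := hnorm g hg
    exact ⟨v, _, hv⟩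
  · obtain ⟨hgN, _, r, b, -, e⟩ := hcent g hg
    obtain ⟨v, hv⟩ := hnorm g hgN
    refine ⟨v, _, ?_, hv⟩
    show act (μ ⟨g, hgN⟩) ones = ones
    rw [e]
    clear * - r b; revert r b; decide +kernel
  · intro K _ hK h3
    refine (hJsig K h3 fun a ha => ?_).le
    exact mem_normalizer_iff_map_conj_eq.1 (hK (hjr ▸ ha))

end Cfsg.Agent.SymNineThree
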