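import Cfsg.Agent.Lib.SymNineThree.Centralizers

/-!
# A subgroup of index three when nothing inverts the rotation

* `exists_sylow_kernel` : the kernel of an invariant character of a Sylow subgroup
* `NoInverter K` : `K` contains the 3-elements and no odd automizer of the rotation
* `NoInverter.exists_index_three` : then `K` has a normal subgroup missing the rotation
-/

set_option autoImplicit false
set_option synthInstance.maxSize 8000
set_option synthInstance.maxHeartbeats 200000

namespace Cfsg.Agent.SymNineThree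

open Cfsg Subgroup
open ThreeCubedSymFour (V3)
open Multiplicative (ofAdd toAdd)
open scoped commutatorElement

universe u

variable {G : Type u} [Group G]

/-- The kernel of an invariant character of a Sylow subgroup, abelian or not. -/
theorem exists_sylow_kernel [Finite G] {C P : Subgroup G} (hPC : P ≤ C) (hP : IsPGroup 3 P)
    (hidx : ¬ 3 ∣ (P.subgroupOf C).index) {A : Type*} [CommGroup A] (χ : P →* A)
    (key : ∀ (q g : G) (hq : q ∈ P), g ∈ C → ∀ h : g * q * g⁻¹ ∈ P, χ ⟨_, h⟩ = χ ⟨q, hq⟩) :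
    ∃ L : Subgroup G, L ≤ C ∧ C ≤ normalizer (L : Set G) ∧ (∀ p : P, (p : G) ∈ L ↔ χ p = 1) ∧
      ∀ c ∈ C, ∃ p ∈ P, ∃ l ∈ L, c = p * l := by
  have : Fact (Nat.Prime 3) := ⟨Nat.prime_three⟩
  let PC : Sylow 3 C := (hP.comap_subtype (K := C)).toSylow hidx
  have hPC' : (PC : Subgroup C) = P.subgroupOf C := IsPGroup.toSylow_coe _ _
  have hmemPC : ∀ {u : C}, u ∈ (PC : Subgroup C) ↔ (u : G) ∈ P := fun {u} => by rw [hPC', mem_subgroupOf]
  let χ' : (PC : Subgroup C) →* A :=
    χ.comp ((C.subtype.comp (PC : Subgroup C).subtype).codRestrict P fun u => hmemPC.1 u.2)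
  have hker := Transfer.commutator_le_ker_of_invariant PC χ' fun q g hq hgq =>
    key q g (hmemPC.1 hq) g.2 (hmemPC.1 hgq)
  obtain ⟨N, hN, hNi, hNs⟩ := Transfer.exists_normal_focal_complement (PC : Subgroup C)
    (Transfer.coprime_index_relIndex_sylow PC)
  haveI := hN
  have hdecomp : ∀ c : C, ∃ n ∈ N, ∃ p ∈ (PC : Subgroup C), n * p = c := fun c =>
    (Coprime.mem_sup_iff (fun g _ => by rw [normalizer_eq_top_iff.2 hN]; exact mem_top g)).1
      (hNs ▸ mem_top c)
  have hNk : ∀ p : P, (⟨p, hPC p.2⟩ : C) ∈ N → χ p = 1 := by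
    intro p hp
    have h1 : (⟨p, hPC p.2⟩ : C) ∈ commutator C ⊓ (PC : Subgroup C) := hNi ▸ ⟨hp, hmemPC.2 p.2⟩
    exact MonoidHom.mem_ker.1 (hker (x := ⟨_, h1.2⟩) (mem_subgroupOf.2 h1.1))
  have hcN : commutator C ≤ N := by
    rw [commutator_def, Subgroup.commutator_le]
    intro a _ b _
    refine (QuotientGroup.eq_one_iff (N := N) _).1 ?_
    have hq : ∀ c : C, ∃ p ∈ (PC : Subgroup C), QuotientGroup.mk' N c = QuotientGroup.mk' N p := fun c => by
      obtain ⟨n, hn, p, hp, rfl⟩ := hdecomp c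
      refine ⟨p, hp, ?_⟩
      rw [map_mul, show QuotientGroup.mk' N n = 1 from (QuotientGroup.eq_one_iff n).2 hn, one_mul]
    obtain ⟨p, hp, ep⟩ := hq a
    obtain ⟨q, hq', eq'⟩ := hq b
    show QuotientGroup.mk' N ⁅a, b⁆ = 1
    rw [map_commutatorElement, ep, eq', ← map_commutatorElement]
    refine (QuotientGroup.eq_one_iff _).2 ?_
    have h1 : ⁅p, q⁆ ∈ N ⊓ (PC : Subgroup C) := by
      rw [hNi]
      exact ⟨commutator_mem_commutator (mem_top p) (mem_top q),
        (PC : Subgroup C).mul_mem ((PC : Subgroup C).mul_mem ((PC : Subgroup C).mul_mem hp hq') ((PC : Subgroup C).inv_mem hp))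
          ((PC : Subgroup C).inv_mem hq')⟩
    exact h1.1
  set Y : Subgroup C := N ⊔ (χ.ker.map P.subtype).subgroupOf C
  have hY : Y.Normal := Normal.of_commutator_le (G := C) (h := hcN.trans le_sup_left)
  refine ⟨Y.map C.subtype, map_subtype_le _, fun c hc => ?_, fun p => ⟨?_, fun h => ?_⟩, fun c hc => ?_⟩
  · refine mem_normalizer_iff.2 fun x => ⟨?_, ?_⟩
    · rintro ⟨d, hd, rfl⟩
      exact ⟨⟨c, hc⟩ * d * ⟨c, hc⟩⁻¹, hY.conj_mem d hd _, rfl⟩
    · rintro ⟨d, hd, e⟩
      exact ⟨(⟨c, hc⟩ : C)⁻¹ * d * ⟨c, hc⟩, by simpa using hY.conj_mem d hd (⟨c, hc⟩ : C)⁻¹,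
        by simp at e; simp [e, mul_assoc]⟩
  · rintro ⟨d, hd, e⟩
    obtain ⟨n, hn, k, hk, rfl⟩ :=
      (Coprime.mem_sup_iff (fun g _ => by rw [normalizer_eq_top_iff.2 hN]; exact mem_top g)).1 hd
    obtain ⟨u, hu, hue⟩ := hk
    have e' : (n : G) * (k : G) = p := e
    have hn' : (n : G) = (p : G) * (u : G)⁻¹ := by
      rw [← e', show (u : G) = k from hue, mul_inv_cancel_right]
    have := hNk (p * u⁻¹) (by convert hn using 1; exact Subtype.ext hn'.symm)
    rwa [map_mul, map_inv, show χ u = 1 from hu, inv_one, mul_one] at this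
  · exact ⟨⟨p, hPC p.2⟩, mem_sup_right (mem_subgroupOf.2 ⟨p, h, rfl⟩), rfl⟩
  · obtain ⟨n, hn, p, hp, e⟩ := hdecomp ⟨c, hc⟩
    refine ⟨(p : G), hmemPC.1 hp, (p : G)⁻¹ * n * p, ?_, ?_⟩
    · exact ⟨p⁻¹ * n * p, mem_sup_left (by simpa using hN.conj_mem _ hn p⁻¹), rfl⟩
    · rw [show c = (n : G) * p from (congrArg Subtype.val e).symm]
      group

/-- An element of order a power of three acting on a line fixes it. -/
theorem not_inverts {g p : G} (hp : p ^ 3 = 1) (hp1 : p ≠ 1) {n : ℕ} (hn : g ^ 3 ^ n = 1) :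
    g * p * g⁻¹ ≠ p⁻¹ := by
  intro h
  have hodd : ∀ l : ℕ, g ^ (2 * l + 1) * p * (g ^ (2 * l + 1))⁻¹ = p⁻¹ := by
    intro l
    induction l with
    | zero => simpa using h
    | succ l ih =>
      rw [show 2 * (l + 1) + 1 = 1 + (1 + (2 * l + 1)) by ring, pow_add, pow_add, pow_one]
      calc g * (g * g ^ (2 * l + 1)) * p * (g * (g * g ^ (2 * l + 1)))⁻¹
          = g * (g * (g ^ (2 * l + 1) * p * (g ^ (2 * l + 1))⁻¹) * g⁻¹) * g⁻¹ := by group
        _ = g * (g * p⁻¹ * g⁻¹) * g⁻¹ := by rw [ih]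
        _ = g * (g * p * g⁻¹)⁻¹ * g⁻¹ := by rw [conj_inv]
        _ = _ := by rw [h, inv_inv, h]
  obtain ⟨l, hl⟩ : Odd (3 ^ n) := Odd.pow (by decide)
  have := hodd l
  rw [← hl, hn, one_mul, inv_one, mul_one, eq_inv_iff_mul_eq_one] at this
  rw [pow_succ, pow_two, this, one_mul] at hp
  exact hp1 hp

theorem rot_facts : (∀ i : ZMod 3, i ≠ 0 → ∀ m, act m ones = ones → m * Mon.perm i false = Mon.perm i false * m →
      ∃ l, m = Mon.perm l false) ∧
    (∀ i : ZMod 3, i ≠ 0 → ∀ v : V3, act (Mon.perm i false) v = v → v = 0 ∨ v = ones ∨ v = -ones) ∧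
    (∀ i : ZMod 3, i ≠ 0 → ∀ v : V3,
      (v + act (Mon.perm i false) v + act (Mon.perm i false * Mon.perm i false) v = 0 ∧
        ∃ u, v = u - act (Mon.perm i false) u) ∨
      v + act (Mon.perm i false) v + act (Mon.perm i false * Mon.perm i false) v = ones ∨
      v + act (Mon.perm i false) v + act (Mon.perm i false * Mon.perm i false) v = -ones) ∧
    (∀ i : ZMod 3, i ≠ 0 → ∀ m : Mon, m.w = false → m * Mon.perm i false * m⁻¹ ≠ (Mon.perm i false)⁻¹) ∧
    (∀ i : ZMod 3, i ≠ 0 → ∃ u : V3, u - act (Mon.perm i false) u = ones) ∧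
    (∀ i : ZMod 3, Mon.perm i false * Mon.perm i false * Mon.perm i false = 1) ∧
    (∀ l l' : ZMod 3, Mon.perm l false * Mon.perm l' false = Mon.perm (l + l') false) ∧
    (∀ l : ZMod 3, (Mon.perm l false)⁻¹ = Mon.perm (-l) false) ∧
    (∀ i l : ZMod 3, i ≠ 0 → l ≠ 0 → l = i ∨ l = -i) := by decide +kernel

theorem perm_zero : Mon.perm 0 false = 1 := by decide +kernel

theorem ones_ne_zero' : ones ≠ 0 := by decide +kernel

theorem ones_ne_neg : ones ≠ -ones := by decide +kernel

theorem line_card : (({0, ones, -ones} : Finset V3)).card = 3 := by decide +kernel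

theorem diag_rot : ∀ m : Mon, m.w = false → m = diagOf m * Mon.perm m.r false ∧
    diagOf m * diagOf m = 1 := by decide +kernel

variable {W : Subgroup Mon} {j : Multiplicative V3 →* G} {s : W →* G}

/-- `K` contains the elements of order a power of three and no odd automizer of the rotation. -/
structure NoInverter (E : Setting W j s) (K : Subgroup G) : Prop where
  three : ∀ (g : G) (n : ℕ), g ^ 3 ^ n = 1 → g ∈ K
  even : ∀ v m, m ∈ W → el j s v m ∈ K → act m ones = ones ∨ act m ones = -ones → m.w = false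

/-- `C(x) ∩ C(r)`. -/
def eSub (j : Multiplicative V3 →* G) (s : W →* G) (i : ZMod 3) : Subgroup G :=
  centralizer ({el j s ones 1} : Set G) ⊓ centralizer ({el j s 0 (Mon.perm i false)} : Set G)

variable {E : Setting W j s} {K : Subgroup G} {i : ZMod 3}

theorem Setting.perm_mem (E : Setting W j s) (i : ZMod 3) : Mon.perm i false ∈ W := E.perm i false

theorem Setting.rot_el_cube (E : Setting W j s) (v : V3) (i : ZMod 3) :
    el j s v (Mon.perm i false) ^ 3 =
      el j s (v + act (Mon.perm i false) v + act (Mon.perm i false * Mon.perm i false) v) 1 := by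
  have hi := E.perm_mem i
  rw [pow_succ, pow_two, E.el_mul hi hi, E.el_mul (mul_mem hi hi) hi, rot_facts.2.2.2.2.2.1 i]

variable [Finite G]

theorem Setting.exists_eSub (E : Setting W j s) (hi : i ≠ 0) {g : G} (hg : g ∈ eSub j s i) :
    ∃ v l, (v = 0 ∨ v = ones ∨ v = -ones) ∧ g = el j s v (Mon.perm l false) := by
  obtain ⟨h1, h2, -⟩ := rot_facts
  obtain ⟨v, m, hm, rfl⟩ := E.exists_normal_form (E.cent_ones hg.1)
  have hx := (E.el_comm_space hm).1 (mem_centralizer_singleton_iff.1 hg.1)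
  obtain ⟨hv, hc⟩ := (E.el_comm_iff hm (E.perm_mem i)).1 (mem_centralizer_singleton_iff.1 hg.2)
  rw [show act m (0 : V3) = 0 from (actAdd m).map_zero, add_zero, zero_add] at hv
  obtain ⟨l, rfl⟩ := h1 i hi m hx hc
  exact ⟨v, l, h2 i hi v hv.symm, rfl⟩

omit [Finite G] in
theorem Setting.rot_mem_eSub (E : Setting W j s) (i : ZMod 3) :
    el j s 0 (Mon.perm i false) ∈ eSub j s i ∧ el j s ones 1 ∈ eSub j s i := by
  have hc : Commute (el j s 0 (Mon.perm i false)) (el j s ones 1) :=
    (E.el_comm_space (E.perm_mem i)).2 (by revert i; decide +kernel)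
  exact ⟨⟨mem_centralizer_singleton_iff.2 hc.eq, mem_centralizer_singleton_iff.2 rfl⟩,
    ⟨mem_centralizer_singleton_iff.2 rfl, mem_centralizer_singleton_iff.2 hc.symm.eq⟩⟩

theorem Setting.eSub_cube (E : Setting W j s) (hi : i ≠ 0) {g : G} (hg : g ∈ eSub j s i) : g ^ 3 = 1 := by
  obtain ⟨v, l, hv, rfl⟩ := E.exists_eSub hi hg
  have key : ∀ (l : ZMod 3) (v : V3), (v = 0 ∨ v = ones ∨ v = -ones) →
      v + act (Mon.perm l false) v + act (Mon.perm l false * Mon.perm l false) v = 0 := by decide +kernel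
  rw [E.rot_el_cube, key l v hv, el_zero_one]

theorem Setting.conj_to_rot (E : Setting W j s) {v : V3} {i : ZMod 3} (hi : i ≠ 0)
    (h : el j s v (Mon.perm i false) ^ 3 = 1) :
    ∃ u, el j s u 1 * el j s 0 (Mon.perm i false) * (el j s u 1)⁻¹ = el j s v (Mon.perm i false) := by
  rw [E.rot_el_cube, E.el_eq_one_iff (one_mem W)] at h
  rcases rot_facts.2.2.1 i hi v with ⟨-, u, hu⟩ | e | e
  · refine ⟨u, ?_⟩
    rw [mul_inv_eq_iff_eq_mul, E.el_mul (one_mem W) (E.perm_mem i), E.el_mul (E.perm_mem i) (one_mem W),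
      act_one, one_mul, mul_one, add_zero, hu, sub_add_cancel]
  · exact absurd (e.symm.trans h.1) (by decide +kernel)
  · exact absurd (e.symm.trans h.1) (by decide +kernel)

/-- An element inverting the point and the rotation contradicts the hypothesis. -/
theorem NoInverter.no_double (N : NoInverter E K) (hi : i ≠ 0) {g : G} (hg : g ∈ K)
    (hx : g * el j s ones 1 * g⁻¹ = el j s ones 1 ∨ g * el j s ones 1 * g⁻¹ = (el j s ones 1)⁻¹)
    (hr : g * el j s 0 (Mon.perm i false) * g⁻¹ = (el j s 0 (Mon.perm i false))⁻¹) : False := by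
  have hgN : g ∈ normalizer (j.range : Set G) := E.map_conj_space fun p hp => by
    refine E.cent_ones (mem_centralizer_singleton_iff.2 ?_)
    have hc : Commute (g * p * g⁻¹) (g * el j s ones 1 * g⁻¹) :=
      (show Commute p (el j s ones 1) from
        (congrArg Subtype.val (E.space_comm.is_comm.comm ⟨p, hp⟩ ⟨_, el_mem_range ones⟩) :)).map
        (MulAut.conj g).toMonoidHom
    rcases hx with e | e <;> rw [e] at hc
    · exact hc.eq
    · exact (Commute.inv_right_iff.1 hc).eq
  obtain ⟨v, m, hm, rfl⟩ := E.exists_normal_form hgN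
  have hones : act m ones = ones ∨ act m ones = -ones := by
    rw [E.el_conj hm, E.el_inv (one_mem W), inv_one, act_one] at hx
    exact hx.imp (fun e => (E.el_injective (one_mem W) (one_mem W) e).1)
      fun e => (E.el_injective (one_mem W) (one_mem W) e).1
  have hw := N.even v m hm hg hones
  have hp := E.perm_mem i
  rw [E.el_inv hp, E.el_inv hm, E.el_mul hm hp, E.el_mul (mul_mem hm hp) (inv_mem hm)] at hr
  exact rot_facts.2.2.2.1 i hi m hw
    (E.el_injective (mul_mem (mul_mem hm hp) (inv_mem hm)) (inv_mem hp) hr).2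

/-- The rotation is self-centralizing in Sylow subgroups. -/
theorem NoInverter.eSub_maximal (N : NoInverter E K) (hi : i ≠ 0) {Q : Subgroup G} (hQ : IsPGroup 3 Q)
    (hQr : Q ≤ centralizer ({el j s 0 (Mon.perm i false)} : Set G)) (hEQ : eSub j s i ≤ Q) :
    Q = eSub j s i := by
  have : Fact (Nat.Prime 3) := ⟨Nat.prime_three⟩
  obtain ⟨-, -, -, -, h5, -, h7, h8, h9⟩ := rot_facts
  refine le_antisymm ?_ hEQ
  intro q hq
  by_contra hqE
  haveI := hQ.isNilpotent
  have hlt : (eSub j s i).subgroupOf Q < ⊤ :=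
    lt_top_iff_ne_top.2 fun e => hqE (subgroupOf_eq_top.1 e hq)
  obtain ⟨n, hnN, hnn⟩ := SetLike.exists_of_lt (normalizerCondition_of_isNilpotent _ hlt)
  obtain ⟨hrE, hxE⟩ := E.rot_mem_eSub i
  set r := el j s 0 (Mon.perm i false) with hrdef
  set x := el j s ones 1 with hxdef
  have hnr : Commute (n : G) r := mem_centralizer_singleton_iff.1 (hQr n.2)
  have hxn : (n : G) * x * (n : G)⁻¹ ∈ eSub j s i :=
    mem_subgroupOf.1 ((mem_normalizer_iff.1 hnN ⟨x, hEQ hxE⟩).1 (mem_subgroupOf.2 hxE))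
  obtain ⟨v, l, hv, e⟩ := E.exists_eSub hi hxn
  obtain ⟨k, hk⟩ := hQ n
  have hk' : (n : G) ^ 3 ^ k = 1 := by simpa using congrArg Subtype.val hk
  have hri : r⁻¹ = el j s 0 (Mon.perm (-i) false) := by
    rw [hrdef, E.el_inv (E.perm_mem i), h8,
      show act (Mon.perm (-i) false) (0 : V3) = 0 from (actAdd _).map_zero, neg_zero]
  have hrl : ∀ l, l ≠ 0 → el j s 0 (Mon.perm l false) = r ∨ el j s 0 (Mon.perm l false) = r⁻¹ := by
    intro l hl
    rcases h9 i l hi hl with rfl | rfl
    · exact Or.inl rfl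
    · exact Or.inr hri.symm
  have hfix0 : ∀ l, act (Mon.perm l false) ones = ones := by decide +kernel
  have hsplit : el j s v (Mon.perm l false) = el j s v 1 * el j s 0 (Mon.perm l false) := by
    rw [E.el_mul (one_mem W) (E.perm_mem l), show act 1 (0 : V3) = 0 from (actAdd 1).map_zero, add_zero,
      one_mul]
  -- the action on the point
  have hvones : v = ones := by
    have hzero : v ≠ 0 := by
      rintro rfl
      have hx1 : x = el j s 0 (Mon.perm l false) := by
        have hcomm : Commute (n : G) (el j s 0 (Mon.perm l false)) := by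
          by_cases hl : l = 0
          · rw [hl, perm_zero, el_zero_one]; exact Commute.one_right _
          · rcases hrl l hl with h | h <;> rw [h]
            exacts [hnr, hnr.inv_right]
        calc x = (n : G)⁻¹ * ((n : G) * x * (n : G)⁻¹) * n := by group
          _ = (n : G)⁻¹ * (el j s 0 (Mon.perm l false) * n) := by rw [e]; group
          _ = _ := by rw [← hcomm.eq, inv_mul_cancel_left]
      exact ones_ne_zero' (E.el_injective (one_mem W) (E.perm_mem l) hx1).1
    rcases hv.resolve_left hzero with h | h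
    · exact h
    exfalso
    subst h
    -- compare with the square
    have hx' : el j s (-ones) 1 = x⁻¹ := by rw [hxdef, E.el_inv (one_mem W), inv_one, act_one]
    rw [hsplit, hx'] at e
    have hodd : ∀ t : ℕ, ∃ z, Commute (n : G) z ∧ Commute x z ∧
        (n : G) ^ (2 * t + 1) * x * ((n : G) ^ (2 * t + 1))⁻¹ = x⁻¹ * z := by
      have hlx : Commute x (el j s 0 (Mon.perm l false)) :=
        ((E.el_comm_space (E.perm_mem l)).2 (hfix0 l)).symm
      have hln : Commute (n : G) (el j s 0 (Mon.perm l false)) := by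
        by_cases hl : l = 0
        · rw [hl, perm_zero, el_zero_one]; exact Commute.one_right _
        · rcases hrl l hl with h | h <;> rw [h]
          exacts [hnr, hnr.inv_right]
      intro t
      induction t with
      | zero => exact ⟨_, hln, hlx, by simpa using e⟩
      | succ t ih =>
        obtain ⟨z, hzn, hzx, hz⟩ := ih
        refine ⟨z, hzn, hzx, ?_⟩
        set c := el j s 0 (Mon.perm l false)
        have e1 : (n : G) * (x⁻¹ * z) * (n : G)⁻¹ = x * c⁻¹ * z := by
          calc (n : G) * (x⁻¹ * z) * (n : G)⁻¹ = ((n : G) * x * (n : G)⁻¹)⁻¹ * ((n : G) * z * (n : G)⁻¹) := by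
                group
            _ = (x⁻¹ * c)⁻¹ * z := by rw [e, hzn.eq, mul_inv_cancel_right]
            _ = _ := by rw [mul_inv_rev, inv_inv, hlx.inv_right.eq]
        have e2 : (n : G) * (x * c⁻¹ * z) * (n : G)⁻¹ = x⁻¹ * z := by
          calc (n : G) * (x * c⁻¹ * z) * (n : G)⁻¹ =
              ((n : G) * x * (n : G)⁻¹) * ((n : G) * (c⁻¹ * z) * (n : G)⁻¹) := by group
            _ = x⁻¹ * c * (c⁻¹ * z) := by rw [e, (hln.inv_right.mul_right hzn).eq, mul_inv_cancel_right]
            _ = _ := by group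
        rw [show 2 * (t + 1) + 1 = 1 + (1 + (2 * t + 1)) by ring, pow_add, pow_add, pow_one]
        calc (n : G) * ((n : G) * (n : G) ^ (2 * t + 1)) * x *
              ((n : G) * ((n : G) * (n : G) ^ (2 * t + 1)))⁻¹
            = (n : G) * ((n : G) * ((n : G) ^ (2 * t + 1) * x * ((n : G) ^ (2 * t + 1))⁻¹) * (n : G)⁻¹) *
                (n : G)⁻¹ := by group
          _ = _ := by rw [hz, e1, e2]
    obtain ⟨t, ht⟩ : Odd (3 ^ k) := Odd.pow (by decide)
    obtain ⟨z, hzn, hzx, hz⟩ := hodd t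
    rw [← ht, hk', one_mul, inv_one, mul_one] at hz
    have hzz : z = x ^ 2 := by rw [eq_inv_mul_iff_mul_eq] at hz; rw [pow_two, hz]
    have hnx : Commute (n : G) x := by
      have h4 : Commute (n : G) (x ^ 4) := by
        rw [show x ^ 4 = z * z by rw [hzz, ← pow_add]]
        exact hzn.mul_right hzn
      rwa [pow_succ, E.space_cube (el_mem_range _), one_mul] at h4
    rw [hnx.eq, mul_inv_cancel_right, ← hx', ← hsplit] at e
    exact ones_ne_neg (E.el_injective (one_mem W) (E.perm_mem l) e).1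
  subst hvones
  rw [hsplit] at e
  have hl0 : l ≠ 0 := by
    rintro rfl
    rw [perm_zero, el_zero_one, mul_one] at e
    refine hnn (mem_subgroupOf.2 ⟨mem_centralizer_singleton_iff.2 ?_, mem_centralizer_singleton_iff.2 hnr.eq⟩)
    exact mul_inv_eq_iff_eq_mul.1 e
  -- `B` maps `x` to `x r` and fixes `r`
  obtain ⟨B, hB3, hBx, hBr⟩ : ∃ B : G, B ^ 3 ^ k = 1 ∧ B * x * B⁻¹ = x * r ∧ Commute B r := by
    have hxr : Commute x r := mem_centralizer_singleton_iff.1 hxE.2
    rcases hrl l hl0 with h | h <;> rw [h] at e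
    · exact ⟨n, hk', e, hnr⟩
    · refine ⟨(n : G) ^ 2, ?_, ?_, hnr.pow_left 2⟩
      · rw [← pow_mul, mul_comm, pow_mul, hk', one_pow]
      · have hr3 : r⁻¹ * r⁻¹ = r := by
          have h3 : r ^ 3 = 1 := E.eSub_cube hi hrE
          rw [← mul_inv_rev, inv_eq_iff_mul_eq_one]
          rwa [pow_succ, pow_two] at h3
        rw [pow_two]
        calc (n : G) * n * x * ((n : G) * n)⁻¹ = (n : G) * ((n : G) * x * (n : G)⁻¹) * (n : G)⁻¹ := by group
          _ = (n : G) * (x * r⁻¹) * (n : G)⁻¹ := by rw [e]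
          _ = ((n : G) * x * (n : G)⁻¹) * ((n : G) * r⁻¹ * (n : G)⁻¹) := by group
          _ = x * r⁻¹ * r⁻¹ := by rw [e, hnr.inv_right.eq, mul_inv_cancel_right]
          _ = x * r := by rw [mul_assoc, hr3]
  obtain ⟨u, hu⟩ := h5 i hi
  set A := el j s u 1 with hAdef
  have hxr : Commute x r := mem_centralizer_singleton_iff.1 hxE.2
  have hAx : A * x * A⁻¹ = x := by rw [E.el_conj (one_mem W), act_one]
  have hAr : A * r * A⁻¹ = x * r := by
    rw [mul_inv_eq_iff_eq_mul, E.el_mul (one_mem W) (E.perm_mem i), E.el_mul (one_mem W) (E.perm_mem i),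
      show act 1 (0 : V3) = 0 from (actAdd 1).map_zero, add_zero, add_zero, one_mul,
      E.el_mul (E.perm_mem i) (one_mem W), mul_one, ← hu, sub_add_cancel]
  have hBr' : B⁻¹ * r * B⁻¹⁻¹ = r := by rw [hBr.inv_left.eq, mul_inv_cancel_right]
  have hBx' : B⁻¹ * x * B⁻¹⁻¹ = x * r⁻¹ := by
    calc B⁻¹ * x * B⁻¹⁻¹ = B⁻¹ * ((B * x * B⁻¹) * r⁻¹) * B⁻¹⁻¹ := by rw [hBx, mul_inv_cancel_right]
      _ = x * (B⁻¹ * r * B⁻¹⁻¹)⁻¹ := by group
      _ = x * r⁻¹ := by rw [hBr']
  set w := A * B⁻¹ * A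
  have hw1 : w * x * w⁻¹ = r⁻¹ := by
    calc w * x * w⁻¹ = A * (B⁻¹ * (A * x * A⁻¹) * B⁻¹⁻¹) * A⁻¹ := by simp only [w]; group
      _ = A * (x * r⁻¹) * A⁻¹ := by rw [hAx, hBx']
      _ = (A * x * A⁻¹) * (A * r * A⁻¹)⁻¹ := by group
      _ = _ := by rw [hAx, hAr, mul_inv_rev, hxr.inv_inv.symm.eq, mul_inv_cancel_left]
  have hw2 : w * r * w⁻¹ = x := by
    calc w * r * w⁻¹ = A * (B⁻¹ * (A * r * A⁻¹) * B⁻¹⁻¹) * A⁻¹ := by simp only [w]; group
      _ = A * (B⁻¹ * (x * r) * B⁻¹⁻¹) * A⁻¹ := by rw [hAr]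
      _ = A * ((B⁻¹ * x * B⁻¹⁻¹) * (B⁻¹ * r * B⁻¹⁻¹)) * A⁻¹ := by group
      _ = x := by rw [hBx', hBr', inv_mul_cancel_right, hAx]
  have hBK : B ∈ K := N.three _ k hB3
  have hAK : A ∈ K := N.three _ 1 (by rw [pow_one]; exact E.space_cube (el_mem_range u))
  refine N.no_double hi (g := w * w) (mul_mem (mul_mem (mul_mem hAK (inv_mem hBK)) hAK)
    (mul_mem (mul_mem hAK (inv_mem hBK)) hAK)) (Or.inr ?_) ?_
  · calc w * w * x * (w * w)⁻¹ = w * (w * x * w⁻¹) * w⁻¹ := by group
      _ = (w * r * w⁻¹)⁻¹ := by rw [hw1, conj_inv]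
      _ = x⁻¹ := by rw [hw2]
  · calc w * w * r * (w * w)⁻¹ = w * (w * r * w⁻¹) * w⁻¹ := by group
      _ = r⁻¹ := by rw [hw2, hw1]

theorem NoInverter.rot_not_point (N : NoInverter E K) (hi : i ≠ 0) {v : V3} {g : G}
    (h : g * el j s 0 (Mon.perm i false) * g⁻¹ = el j s v 1) : False := by
  set r := el j s 0 (Mon.perm i false)
  set C := centralizer ({r} : Set G)
  have hle : j.range.map (MulAut.conj g⁻¹).toMonoidHom ≤ C := by
    rintro _ ⟨p, hp, rfl⟩
    refine mem_centralizer_singleton_iff.2 ?_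
    have hc : Commute p (g * r * g⁻¹) := by
      rw [h]; exact (congrArg Subtype.val (E.space_comm.is_comm.comm ⟨p, hp⟩ ⟨_, el_mem_range v⟩) :)
    have := (hc.map (MulAut.conj g⁻¹).toMonoidHom).eq
    simpa [mul_assoc] using this
  have : Fact (Nat.Prime 3) := ⟨Nat.prime_three⟩
  have hEC : eSub j s i ≤ C := inf_le_right
  have hE3 : IsPGroup 3 (eSub j s i) := fun q =>
    ⟨1, Subtype.ext (by rw [pow_one, SubgroupClass.coe_pow, E.eSub_cube hi q.2]; rfl)⟩
  obtain ⟨Q, hQ⟩ := (hE3.comap_subtype (K := C)).exists_le_sylow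
  obtain ⟨R, hR⟩ := ((E.space_isPGroup.map (MulAut.conj g⁻¹).toMonoidHom).comap_subtype
    (K := C)).exists_le_sylow
  have h27 : 27 ≤ Nat.card (Q : Subgroup C) := by
    have h1 : Nat.card ((j.range.map (MulAut.conj g⁻¹).toMonoidHom).subgroupOf C) ≤ Nat.card (R : Subgroup C) :=
      Subgroup.card_le_of_le hR
    rw [Nat.card_congr (subgroupOfEquivOfLe hle).toEquiv,
      card_map_of_injective (MulAut.conj g⁻¹).injective, E.card_space] at h1
    rwa [Nat.card_congr (Sylow.equiv Q R).toEquiv]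
  have e := N.eSub_maximal hi (Q.isPGroup'.map C.subtype) (map_subtype_le _) fun q hq =>
    ⟨⟨q, hEC hq⟩, hQ (mem_subgroupOf.2 hq), rfl⟩
  have h9 : Nat.card (eSub j s i) ≤ 9 := by
    choose fv fl hfv hf using fun q : eSub j s i => E.exists_eSub hi q.2
    have hc := line_card
    refine le_trans (Nat.card_le_card_of_injective (fun q : eSub j s i =>
      ((⟨fv q, by simpa using hfv q⟩ : ({0, ones, -ones} : Finset V3)), fl q)) fun a b e' => ?_) ?_
    · simp only [Prod.mk.injEq, Subtype.mk.injEq] at e'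
      exact Subtype.ext (by rw [hf a, hf b, e'.1, e'.2])
    · rw [Nat.card_prod, Nat.card_eq_fintype_card, Fintype.card_coe, hc, Nat.card_zmod]
  rw [← e, Cores.card_map_subtype] at h9
  omega

theorem NoInverter.rot_not_inverted (N : NoInverter E K) (hi : i ≠ 0) {g : G} (hg : g ∈ K)
    (h : g * el j s 0 (Mon.perm i false) * g⁻¹ = (el j s 0 (Mon.perm i false))⁻¹) : False := by
  have : Fact (Nat.Prime 3) := ⟨Nat.prime_three⟩
  set r := el j s 0 (Mon.perm i false)
  set C := centralizer ({r} : Set G) ⊓ K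
  have hE3 : IsPGroup 3 (eSub j s i) := fun q =>
    ⟨1, Subtype.ext (by rw [pow_one, SubgroupClass.coe_pow, E.eSub_cube hi q.2]; rfl)⟩
  have hEK : eSub j s i ≤ K := fun q hq => N.three q 1 (by rw [pow_one]; exact E.eSub_cube hi hq)
  have hEC : eSub j s i ≤ C := le_inf inf_le_right hEK
  have hgE : (eSub j s i).map (MulAut.conj g).toMonoidHom ≤ C := by
    rintro _ ⟨q, hq, rfl⟩
    refine ⟨mem_centralizer_singleton_iff.2 ?_, K.mul_mem (K.mul_mem hg (hEK hq)) (K.inv_mem hg)⟩
    have hc : Commute (g * q * g⁻¹) (g * r * g⁻¹) :=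
      (show Commute q r from mem_centralizer_singleton_iff.1 hq.2).map (MulAut.conj g).toMonoidHom
    rw [h] at hc
    exact (Commute.inv_right_iff.1 hc).eq
  obtain ⟨Q, hQ⟩ := (hE3.comap_subtype (K := C)).exists_le_sylow
  obtain ⟨R, hR⟩ := ((hE3.map (MulAut.conj g).toMonoidHom).comap_subtype (K := C)).exists_le_sylow
  obtain ⟨c, hc⟩ := MulAction.exists_smul_eq C R Q
  have e := N.eSub_maximal hi (Q.isPGroup'.map C.subtype) ((map_subtype_le _).trans inf_le_left) fun q hq =>
    ⟨⟨q, hEC hq⟩, hQ (mem_subgroupOf.2 hq), rfl⟩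
  set g' := (c : G) * g with hg'
  have hxE := (E.rot_mem_eSub i).2
  have hx' : g' * el j s ones 1 * g'⁻¹ ∈ eSub j s i := by
    rw [← e]
    refine ⟨c * ⟨g * el j s ones 1 * g⁻¹, hgE ⟨_, hxE, rfl⟩⟩ * c⁻¹, ?_, ?_⟩
    · rw [← hc]
      exact ⟨_, hR (mem_subgroupOf.2 ⟨_, hxE, rfl⟩), rfl⟩
    · simp [hg', mul_assoc]
  have hr' : g' * r * g'⁻¹ = r⁻¹ := by
    rw [hg', mul_inv_rev, show (c : G) * g * r * (g⁻¹ * (c : G)⁻¹) = c * (g * r * g⁻¹) * (c : G)⁻¹ by group, h,
      ((show Commute (c : G) r from mem_centralizer_singleton_iff.1 c.2.1).inv_right).eq, mul_inv_cancel_right]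
  obtain ⟨v, l, hv, e'⟩ := E.exists_eSub hi hx'
  by_cases hl : l = 0
  · subst hl
    rw [perm_zero] at e'
    refine N.no_double hi (mul_mem c.2.2 hg) ?_ hr'
    rcases hv with rfl | rfl | rfl
    · rw [el_zero_one] at e'
      exact absurd ((E.el_eq_one_iff (one_mem W)).1 (conj_eq_one_iff.1 e')).1 (by decide +kernel)
    · exact Or.inl e'
    · exact Or.inr (by rw [e', E.el_inv (one_mem W), inv_one, act_one])
  · have h3 : el j s v (Mon.perm l false) ^ 3 = 1 := by
      rw [← e', conj_pow, E.space_cube (el_mem_range _), mul_one, mul_inv_cancel]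
    obtain ⟨u, hu⟩ := E.conj_to_rot hl h3
    refine N.rot_not_point hl (v := ones) (g := g'⁻¹ * el j s u 1) ?_
    calc g'⁻¹ * el j s u 1 * el j s 0 (Mon.perm l false) * (g'⁻¹ * el j s u 1)⁻¹
        = g'⁻¹ * (el j s u 1 * el j s 0 (Mon.perm l false) * (el j s u 1)⁻¹) * g' := by group
      _ = g'⁻¹ * (g' * el j s ones 1 * g'⁻¹) * g' := by rw [hu, e']
      _ = el j s ones 1 := by group

/-- The kernel of index three. -/
theorem NoInverter.exists_index_three (N : NoInverter E K) :
    ∃ K2 : Subgroup G, K2 ≤ K ∧ K ≤ normalizer (K2 : Set G) ∧ j.range ≤ K2 ∧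
      (∀ v m, m ∈ W → m.w = false → el j s v m ∈ K2 → m.r = 0) ∧
      ∀ g ∈ K, g * g = 1 → g ∈ K2 := by
  have : Fact (Nat.Prime 3) := ⟨Nat.prime_three⟩
  obtain ⟨S, hJS, hS⟩ := E.exists_syl
  have hSK : (S : Subgroup G) ≤ K := fun g hg => by
    obtain ⟨n, hn⟩ := S.isPGroup' ⟨g, hg⟩
    exact N.three g n (by simpa using congrArg Subtype.val hn)
  choose fv fl hf using fun p : (S : Subgroup G) => (hS p).1 p.2
  have huniq : ∀ (p : (S : Subgroup G)) v l, (p : G) = el j s v (Mon.perm l false) → fl p = l := by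
    intro p v l e
    have key : ∀ a b : ZMod 3, Mon.perm a false = Mon.perm b false → a = b := by decide +kernel
    exact key _ _ (E.el_injective (E.perm_mem _) (E.perm_mem _) ((hf p).symm.trans e)).2
  let χ : (S : Subgroup G) →* Multiplicative (ZMod 3) := MonoidHom.mk' (fun p => ofAdd (fl p)) fun a b => by
    rw [← ofAdd_add]
    congr 1
    refine huniq _ (fv a + act (Mon.perm (fl a) false) (fv b)) _ ?_
    rw [Subgroup.coe_mul, hf a, hf b, E.el_mul (E.perm_mem _) (E.perm_mem _), rot_facts.2.2.2.2.2.2.1]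
  have hidx : ¬ 3 ∣ ((S : Subgroup G).subgroupOf K).index := fun h => by
    exact S.not_dvd_index (h.trans ⟨_, (Subgroup.relIndex_mul_index hSK).symm⟩)
  have key : ∀ (q g : G) (hq : q ∈ (S : Subgroup G)), g ∈ K → ∀ h : g * q * g⁻¹ ∈ (S : Subgroup G),
      χ ⟨_, h⟩ = χ ⟨q, hq⟩ := by
    intro q g hq hg h
    obtain ⟨v, i, rfl⟩ := (hS q).1 hq
    obtain ⟨v', i', hvi⟩ := (hS _).1 h
    show ofAdd (fl _) = ofAdd (fl _)
    rw [huniq ⟨_, h⟩ v' i' hvi, huniq ⟨_, hq⟩ v i rfl]
    congr 1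
    -- reduce to the rotations
    have hcube : el j s v' (Mon.perm i' false) ^ 3 =
        g * el j s v (Mon.perm i false) ^ 3 * g⁻¹ := by rw [← hvi, conj_pow]
    have horder9 : ∀ w l, l ≠ 0 → el j s w (Mon.perm l false) ^ 3 ≠ 1 →
        el j s w (Mon.perm l false) ^ 3 = el j s ones 1 ∨ el j s w (Mon.perm l false) ^ 3 = (el j s ones 1)⁻¹ := by
      intro w l hl h1
      rw [E.rot_el_cube] at h1 ⊢
      rw [E.el_inv (one_mem W), inv_one, act_one]
      rcases rot_facts.2.2.1 l hl w with ⟨e, -⟩ | e | e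
      · exact absurd (by rw [e, el_zero_one]) h1
      · exact Or.inl (by rw [e])
      · exact Or.inr (by rw [e])
    by_contra hne
    by_cases h3 : el j s v (Mon.perm i false) ^ 3 = 1
    · have h3' : el j s v' (Mon.perm i' false) ^ 3 = 1 := by rw [hcube, h3, mul_one, mul_inv_cancel]
      by_cases hi : i = 0
      · subst hi
        have hi' : i' ≠ 0 := hne
        obtain ⟨u, hu⟩ := E.conj_to_rot hi' h3'
        rw [perm_zero] at hvi
        refine N.rot_not_point hi' (v := v) (g := g⁻¹ * el j s u 1) ?_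
        rw [mul_inv_rev, inv_inv, show g⁻¹ * el j s u 1 * el j s 0 (Mon.perm i' false) * ((el j s u 1)⁻¹ * g) =
          g⁻¹ * (el j s u 1 * el j s 0 (Mon.perm i' false) * (el j s u 1)⁻¹) * g by group, hu, ← hvi]
        group
      obtain ⟨u, hu⟩ := E.conj_to_rot hi h3
      by_cases hi' : i' = 0
      · subst hi'
        rw [perm_zero] at hvi
        refine N.rot_not_point hi (v := v') (g := g * el j s u 1) ?_
        rw [mul_inv_rev, show g * el j s u 1 * el j s 0 (Mon.perm i false) * ((el j s u 1)⁻¹ * g⁻¹) =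
          g * (el j s u 1 * el j s 0 (Mon.perm i false) * (el j s u 1)⁻¹) * g⁻¹ by group, hu, hvi]
      · obtain ⟨u', hu'⟩ := E.conj_to_rot hi' h3'
        have hJK : ∀ w, el j s w 1 ∈ K := fun w => hSK (hJS (el_mem_range w))
        refine N.rot_not_inverted hi (g := (el j s u' 1)⁻¹ * g * el j s u 1)
          (mul_mem (mul_mem (inv_mem (hJK u')) hg) (hJK u)) ?_
        have hinv : (el j s 0 (Mon.perm i false))⁻¹ = el j s 0 (Mon.perm i' false) := by
          rw [E.el_inv (E.perm_mem i), rot_facts.2.2.2.2.2.2.2.1,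
            show act (Mon.perm (-i) false) (0 : V3) = 0 from (actAdd _).map_zero, neg_zero]
          rcases rot_facts.2.2.2.2.2.2.2.2 i i' hi hi' with e | e
          · exact absurd e hne
          · rw [e]
        rw [hinv]
        calc (el j s u' 1)⁻¹ * g * el j s u 1 * el j s 0 (Mon.perm i false) *
              ((el j s u' 1)⁻¹ * g * el j s u 1)⁻¹
            = (el j s u' 1)⁻¹ * (g * (el j s u 1 * el j s 0 (Mon.perm i false) * (el j s u 1)⁻¹) * g⁻¹) *
                el j s u' 1 := by group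
          _ = (el j s u' 1)⁻¹ * (el j s u' 1 * el j s 0 (Mon.perm i' false) * (el j s u' 1)⁻¹) *
                el j s u' 1 := by rw [hu, hvi, hu']
          _ = _ := by group
    · have hi : i ≠ 0 := by
        rintro rfl
        exact h3 (E.space_cube (show el j s v (Mon.perm 0 false) ∈ j.range by
          rw [perm_zero]; exact el_mem_range v))
      have h3' : el j s v' (Mon.perm i' false) ^ 3 ≠ 1 := fun e => h3 (conj_eq_one_iff.1 (hcube.symm.trans e))
      have hi' : i' ≠ 0 := by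
        rintro rfl
        exact h3' (E.space_cube (show el j s v' (Mon.perm 0 false) ∈ j.range by
          rw [perm_zero]; exact el_mem_range v'))
      have hgx : g * el j s ones 1 * g⁻¹ = el j s ones 1 ∨ g * el j s ones 1 * g⁻¹ = (el j s ones 1)⁻¹ := by
        rcases horder9 v i hi h3 with a | a <;> rcases horder9 v' i' hi' h3' with b | b <;>
          rw [hcube, a] at b
        · exact Or.inl b
        · exact Or.inr b
        · refine Or.inr (inv_injective ?_)
          rwa [inv_inv, conj_inv]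
        · refine Or.inl (inv_injective ?_)
          rwa [conj_inv]
      have hgN : g ∈ normalizer (j.range : Set G) := E.map_conj_space fun p hp => by
        refine E.cent_ones (mem_centralizer_singleton_iff.2 ?_)
        have hc : Commute (g * p * g⁻¹) (g * el j s ones 1 * g⁻¹) :=
          (show Commute p (el j s ones 1) from
            (congrArg Subtype.val (E.space_comm.is_comm.comm ⟨p, hp⟩ ⟨_, el_mem_range ones⟩) :)).map
            (MulAut.conj g).toMonoidHom
        rcases hgx with e | e <;> rw [e] at hc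
        · exact hc.eq
        · exact (Commute.inv_right_iff.1 hc).eq
      obtain ⟨w, m, hm, rfl⟩ := E.exists_normal_form hgN
      have hones : act m ones = ones ∨ act m ones = -ones := by
        rw [E.el_conj hm, E.el_inv (one_mem W), inv_one, act_one] at hgx
        exact hgx.imp (fun e => (E.el_injective (one_mem W) (one_mem W) e).1)
          fun e => (E.el_injective (one_mem W) (one_mem W) e).1
      have hw := N.even w m hm hg hones
      have hp := E.perm_mem i
      rw [E.el_inv hm, E.el_mul hm hp, E.el_mul (mul_mem hm hp) (inv_mem hm)] at hvi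
      have e2 := (E.el_injective (mul_mem (mul_mem hm hp) (inv_mem hm)) (E.perm_mem i') hvi).2
      have key2 : ∀ m : Mon, m.w = false → ∀ a b, m * Mon.perm a false * m⁻¹ = Mon.perm b false → b = a := by
        decide +kernel
      exact hne (key2 m hw i i' e2)
  obtain ⟨L, hLK, hn, hLS, hdec⟩ := exists_sylow_kernel hSK S.isPGroup' hidx χ key
  have hinv : ∀ g ∈ K, g * g = 1 → g ∈ L := fun g hg hg2 =>
    mem_kernel hSK hn S.isPGroup' hdec hg (k := 2) (by rw [pow_two, hg2]) (by norm_num)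
  have hJL : j.range ≤ L := fun g hg => by
    obtain ⟨v, rfl⟩ := exists_el (s := s) hg
    refine (hLS ⟨_, hJS hg⟩).2 ?_
    show ofAdd (fl _) = 1
    rw [huniq ⟨_, hJS hg⟩ v 0 (by rw [perm_zero])]
    rfl
  refine ⟨L, hLK, hn, hJL, fun v m hm hw hmem => ?_, hinv⟩
  obtain ⟨hsplit, hd2⟩ := diag_rot m hw
  have hdW : diagOf m ∈ W := by
    have := mul_mem hm (inv_mem (E.perm_mem m.r))
    rwa [show m * (Mon.perm m.r false)⁻¹ = diagOf m from mul_inv_eq_iff_eq_mul.2 hsplit] at this
  have hrS : el j s 0 (Mon.perm m.r false) ∈ (S : Subgroup G) := (hS _).2 ⟨0, m.r, rfl⟩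
  have he : el j s v m = el j s v 1 * (el j s 0 (diagOf m) * el j s 0 (Mon.perm m.r false)) := by
    rw [E.el_mul hdW (E.perm_mem _), ← hsplit,
      show act (diagOf m) (0 : V3) = 0 from (actAdd _).map_zero, add_zero,
      E.el_mul (one_mem W) hm, show act 1 (0 : V3) = 0 from (actAdd 1).map_zero, add_zero, one_mul]
  have hdr : el j s 0 (diagOf m) * el j s 0 (Mon.perm m.r false) ∈ L := by
    have := mul_mem (inv_mem (hJL (el_mem_range (s := s) v))) hmem
    rwa [he, inv_mul_cancel_left] at this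
  have hdK : el j s 0 (diagOf m) ∈ K := by
    have := mul_mem (hLK hdr) (inv_mem (hSK hrS))
    rwa [mul_inv_cancel_right] at this
  have hrL : el j s 0 (Mon.perm m.r false) ∈ L := by
    have := mul_mem (inv_mem (hinv _ hdK (E.sm_sq hdW hd2))) hdr
    rwa [inv_mul_cancel_left] at this
  have := (hLS ⟨_, hrS⟩).1 hrL
  change ofAdd (fl _) = 1 at this
  rw [huniq ⟨_, hrS⟩ 0 m.r rfl] at this
  exact congrArg toAdd this

end Cfsg.Agent.SymNineThree
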