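import Cfsg.Agent.Lib.TwoTransfer.CenterInvolution

/-!
# The transfer of an involution

* `transferHom` : the transfer from `M` to a subgroup `Y` containing it
* `transferHom_apply` : its value at an involution with controlled fusion
-/

set_option autoImplicit false

namespace Cfsg.Agent.SymNineThree

open Subgroup

variable {G : Type*} [Group G] [Finite G] {A : Type*} [CommGroup A] {M Y : Subgroup G}

/-- The transfer from `M` to `Y`. -/
noncomputable def transferHom (hMY : M ≤ Y) (θ : M →* A) : Y →* A :=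
  MonoidHom.transfer (θ.comp (subgroupOfEquivOfLe hMY).toMonoidHom)

/-- The value at an involution whose conjugates off the kernel are conjugate inside `M`. -/
theorem transferHom_apply (hMY : M ≤ Y) (θ : M →* A) {t : G} (htM : t ∈ M) (ht : t * t = 1)
    (hfus : ∀ g ∈ Y, ∀ h : g⁻¹ * t * g ∈ M, θ ⟨_, h⟩ ≠ 1 → ∃ m ∈ M, g⁻¹ * t * g = m⁻¹ * t * m) :
    transferHom hMY θ ⟨t, hMY htM⟩ = θ ⟨t, htM⟩ ^ M.relIndex (centralizer ({t} : Set G) ⊓ Y) := by
  classical
  set ψ : M.subgroupOf Y →* A := θ.comp (subgroupOfEquivOfLe hMY).toMonoidHom with hψdef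
  set z : Y := ⟨t, hMY htM⟩ with hzdef
  haveI : Fintype (Y ⧸ M.subgroupOf Y) := Fintype.ofFinite _
  let val : Y → A := fun y => if h : (y : G) ∈ M then θ ⟨y, h⟩ else 1
  have hval : ∀ (y : Y) (u : M.subgroupOf Y), val ((u : Y)⁻¹ * y * u) = val y := by
    intro y u
    have hu : ((u : Y) : G) ∈ M := mem_subgroupOf.1 u.2
    by_cases h : (y : G) ∈ M
    · have h' : (((u : Y)⁻¹ * y * u : Y) : G) ∈ M := by
        push_cast; exact mul_mem (mul_mem (inv_mem hu) h) hu
      simp only [val, dif_pos h, dif_pos h']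
      rw [show (⟨_, h'⟩ : M) = ⟨_, hu⟩⁻¹ * ⟨y, h⟩ * ⟨_, hu⟩ from Subtype.ext (by push_cast; rfl),
        map_mul, map_mul, map_inv, mul_comm _ (θ ⟨y, h⟩), inv_mul_cancel_right]
    · have h' : ¬ (((u : Y)⁻¹ * y * u : Y) : G) ∈ M := fun h' => h (by
        have := mul_mem (mul_mem hu h') (inv_mem hu)
        push_cast at this
        simpa [mul_assoc] using this)
      simp only [val, dif_neg h, dif_neg h']
  let f : Y ⧸ M.subgroupOf Y → A := fun x => val (x.out⁻¹ * z * x.out)
  have hf : ∀ g : Y, f (g : Y ⧸ M.subgroupOf Y) = val (g⁻¹ * z * g) := by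
    intro g
    obtain ⟨u, hu⟩ := QuotientGroup.mk_out_eq_mul (M.subgroupOf Y) g
    show val _ = _
    rw [hu, show (g * (u : Y))⁻¹ * z * (g * u) = (u : Y)⁻¹ * (g⁻¹ * z * g) * u by group, hval]
  rw [transferHom, TwoTransfer.prod_fixed_eq_transfer ψ z (Subtype.ext (by
      rw [pow_two]; exact ht)) f (fun x hx => ?_) (fun g h => ?_)]
  rotate_left
  · show val _ = 1
    refine dif_neg fun h => hx ?_
    have := (TwoTransfer.mk_fixed_iff z x.out).mpr (mem_subgroupOf.2 h)
    simpa [QuotientGroup.out_eq'] using this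
  · rw [hf g]
    exact dif_pos (mem_subgroupOf.1 h)
  set C := centralizer ({t} : Set G) ⊓ Y with hC
  have hCY : C ≤ Y := inf_le_right
  let T : Finset (Y ⧸ M.subgroupOf Y) :=
    Finset.univ.filter fun x => ∃ c : C, ((⟨c, hCY c.2⟩ : Y) : Y ⧸ M.subgroupOf Y) = x
  have hone : ∀ x ∈ Finset.univ, x ∉ T → f x = 1 := by
    intro x _ hx
    induction x using QuotientGroup.induction_on with
    | _ g =>
      rw [hf]
      by_contra hne
      by_cases h : (((g⁻¹ * z * g : Y)) : G) ∈ M
      · simp only [val, dif_pos h] at hne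
        have h' : (g : G)⁻¹ * t * g ∈ M := by push_cast at h; exact h
        obtain ⟨m, hm, e⟩ := hfus g g.2 h' (by
          convert hne using 2
          exact Subtype.ext (by push_cast; rfl))
        have hc : (g : G) * m⁻¹ ∈ C := by
          refine ⟨mem_centralizer_singleton_iff.2 ?_, Y.mul_mem g.2 (Y.inv_mem (hMY hm))⟩
          calc (g : G) * m⁻¹ * t = g * (m⁻¹ * t * m) * m⁻¹ := by group
            _ = g * ((g : G)⁻¹ * t * g) * m⁻¹ := by rw [e]
            _ = t * (g * m⁻¹) := by group
        refine hx (Finset.mem_filter.2 ⟨Finset.mem_univ _, ⟨_, hc⟩, (QuotientGroup.eq).2 ?_⟩)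
        rw [mem_subgroupOf]
        push_cast
        simpa [mul_assoc] using hm
      · exact hne (dif_neg h)
  rw [← Finset.prod_subset (Finset.subset_univ T) hone,
    Finset.prod_eq_pow_card (b := θ ⟨t, htM⟩) (fun x hx => ?_)]
  · congr 1
    let e : C ⧸ M.subgroupOf C → T := Quotient.lift
      (fun c : C => (⟨((⟨c, hCY c.2⟩ : Y) : Y ⧸ M.subgroupOf Y),
        Finset.mem_filter.2 ⟨Finset.mem_univ _, c, rfl⟩⟩ : T))
      (fun a b h => Subtype.ext ((QuotientGroup.eq).2 (by
        have h' := mem_subgroupOf.1 (QuotientGroup.leftRel_apply.1 h)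
        rw [mem_subgroupOf]
        exact h')))
    have he : Function.Bijective e := by
      refine ⟨?_, ?_⟩
      · intro a b
        induction a using QuotientGroup.induction_on with
        | _ a =>
          induction b using QuotientGroup.induction_on with
          | _ b =>
            intro h
            have h' := (QuotientGroup.eq).1 (congrArg Subtype.val h)
            rw [mem_subgroupOf] at h'
            exact (QuotientGroup.eq).2 (mem_subgroupOf.2 h')
      · rintro ⟨x, hx⟩
        obtain ⟨c, rfl⟩ := (Finset.mem_filter.1 hx).2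
        exact ⟨(c : C ⧸ M.subgroupOf C), rfl⟩
    rw [Subgroup.relIndex, Subgroup.index, Nat.card_eq_of_bijective e he, Nat.card_eq_fintype_card,
      Fintype.card_coe]
  · obtain ⟨c, rfl⟩ := (Finset.mem_filter.1 hx).2
    rw [hf]
    have hc : (((⟨c, hCY c.2⟩ : Y)⁻¹ * z * ⟨c, hCY c.2⟩ : Y) : G) = t := by
      push_cast
      rw [hzdef]
      show (c : G)⁻¹ * t * c = t
      rw [mul_assoc, ← mem_centralizer_singleton_iff.1 c.2.1, inv_mul_cancel_left]
    simp only [val, dif_pos (hc.symm ▸ htM : (((⟨c, hCY c.2⟩ : Y)⁻¹ * z * ⟨c, hCY c.2⟩ : Y) : G) ∈ M)]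
    exact congrArg θ (Subtype.ext hc)

end Cfsg.Agent.SymNineThree
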