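import Cfsg.Agent.Lib.SymNineThree.CentTau
import Cfsg.Agent.Lib.SymNineThree.NoInverter
import Cfsg.Agent.Lib.SymNineThree.TransferTwo

/-!
# A character nontrivial on the exchange

* `Ctx.not_nine_of_line`, `Ctx.nine_of_conj_tau` : invariants of involutions
* `Ctx.exists_parity` : a character of `G` nontrivial on `t` when the centralizers of points are small
* `Ctx.parity_values` : its values on the automizer
-/

set_option autoImplicit false
set_option synthInstance.maxSize 8000
set_option synthInstance.maxHeartbeats 200000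

namespace Cfsg.Agent.SymNineThree

open Cfsg Subgroup
open ThreeCubedSymFour (V3)
open Multiplicative (ofAdd toAdd)

/-- Odd or even as an element of the group of order two. -/
def bitVal (b : Bool) : Multiplicative (ZMod 2) := ofAdd (if b then 1 else 0)

theorem bitVal_xor : ∀ a b, bitVal (xor a b) = bitVal a * bitVal b := by decide +kernel

theorem bitVal_true_ne : bitVal true ≠ 1 := by decide +kernel

theorem bit_cases : ∀ x : Multiplicative (ZMod 2), x = 1 ∨ x = bitVal true := by decide +kernel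

theorem bit_sq : ∀ x : Multiplicative (ZMod 2), x * x = 1 := by decide +kernel

theorem mon_mul_w : ∀ a b : Mon, (a * b).w = xor a.w b.w := by decide +kernel

/-- The sign of the permutation. -/
def permSign : Mon →* Multiplicative (ZMod 2) :=
  MonoidHom.mk' (fun m => bitVal m.w) fun a b => by rw [mon_mul_w, bitVal_xor]

theorem odd_involutions : ∀ k m, inKind k m = true → m.w = true → m * m = 1 →
    ∃ c, inKind k c = true ∧ (c * m * c⁻¹ = tau ∨
      (inKind k negOne = true ∧ c * m * c⁻¹ = negOne * tau)) := by decide +kernel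

theorem negTau_facts : act (negOne * tau) (0, 1, -1) = (0, 1, -1) ∧ ((0, 1, -1) : V3) ≠ 0 ∧
    (∀ w, act (negOne * tau) w = w → w = 0 ∨ w = (0, 1, -1) ∨ w = -(0, 1, -1)) ∧
    (∀ x, x * x * x = 1 → x * (negOne * tau) = negOne * tau * x → x = 1) := by decide +kernel

theorem involution_shift : ∀ v : V3, ∀ m : Mon, v + act m v = 0 → -v + act m v = v := by decide +kernel

variable {G : Type*} [Group G] {W : Subgroup Mon} {j : Multiplicative V3 →* G} {s : W →* G} {k : Fin 4}

/-- An involution of `N(J)` is conjugate to one of the complement. -/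
theorem Setting.involution_form (E : Setting W j s) {m : Mon} (hm : m ∈ W) {v : V3}
    (h : el j s v m * el j s v m = 1) :
    m * m = 1 ∧ el j s v m = el j s (-v) 1 * el j s 0 m * (el j s (-v) 1)⁻¹ := by
  rw [E.el_mul hm hm, E.el_eq_one_iff (mul_mem hm hm)] at h
  refine ⟨h.2, ?_⟩
  rw [eq_mul_inv_iff_mul_eq, E.el_mul hm (one_mem W), E.el_mul (one_mem W) hm, mul_one, one_mul, act_one,
    add_zero]
  congr 1
  have : act m (-v) = -act m v := (actAdd m).map_neg v
  rw [this, eq_neg_of_add_eq_zero_right h.1, neg_neg]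
  clear * - v
  revert v
  decide +kernel

variable [Finite G]

/-- An involution fixing only a line of `J`. -/
theorem Setting.not_nine_of_line (E : Setting W j s) {m : Mon} (hm : m ∈ W) {u : V3} (hu : act m u = u)
    (hu0 : u ≠ 0) (hC : centralizer ({el j s u 1} : Set G) ≤ normalizer (j.range : Set G))
    (hfix : ∀ w, act m w = w → w = 0 ∨ w = u ∨ w = -u)
    (h3 : ∀ x, x ∈ W → x * x * x = 1 → x * m = m * x → act x u = u → x = 1) :
    ¬ 9 ∣ Nat.card (centralizer ({el j s 0 m} : Set G)) := by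
  have : Fact (Nat.Prime 3) := ⟨Nat.prime_three⟩
  set p := el j s u 1
  set C := centralizer ({el j s 0 m} : Set G)
  have hpC : p ∈ C := mem_centralizer_singleton_iff.2 ((E.el_comm_space hm).2 hu).symm
  have hp3 : p ^ 3 = 1 := E.space_cube (el_mem_range u)
  have hp1 : p ≠ 1 := fun e => hu0 ((E.el_eq_one_iff (one_mem W)).1 e).1
  have hidx : ¬ 3 ∣ ((zpowers p).subgroupOf C).index := by
    refine not_dvd_index_of_normalizer (zpowers_le.2 hpC) (E.space_isPGroup.to_le (zpowers_le.2 (el_mem_range u)))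
      fun g hg hgN n hn => ?_
    have hconj : g * p * g⁻¹ ∈ zpowers p := (mem_normalizer_iff.1 hgN p).1 (mem_zpowers p)
    obtain ⟨i, hi⟩ := mem_zpowers_iff.1 hconj
    have hmod : p ^ i = p ^ (i % 3) := by
      conv_lhs => rw [← Int.emod_add_mul_ediv i 3, zpow_add, zpow_mul,
        show p ^ (3 : ℤ) = 1 by rw [show (3 : ℤ) = (3 : ℕ) from rfl, zpow_natCast, hp3], one_zpow, mul_one]
    rw [hmod] at hi
    have hgp : g * p = p * g := by
      rcases (show i % 3 = 0 ∨ i % 3 = 1 ∨ i % 3 = 2 by omega) with h | h | h <;> rw [h] at hi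
      · rw [zpow_zero] at hi
        exact absurd (conj_eq_one_iff.1 hi.symm) hp1
      · rw [zpow_one] at hi
        exact mul_inv_eq_iff_eq_mul.1 hi.symm
      · refine absurd ?_ (not_inverts hp3 hp1 hn)
        rw [← hi, eq_inv_iff_mul_eq_one, show (2 : ℤ) = (2 : ℕ) from rfl, zpow_natCast, ← pow_succ, hp3]
    obtain ⟨w, x, hx, rfl⟩ := E.exists_normal_form (hC (mem_centralizer_singleton_iff.2 hgp))
    have hc := mem_centralizer_singleton_iff.1 hg
    rw [E.el_comm_iff hx hm, show act x (0 : V3) = 0 from (actAdd x).map_zero, add_zero, zero_add] at hc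
    have hx1 := h3 x hx (by rw [← E.cube_of_el hx hn, pow_succ, pow_two]) hc.2
      ((E.el_comm_space hx).1 hgp)
    subst hx1
    rcases hfix w hc.1.symm with rfl | rfl | rfl
    · rw [el_zero_one]; exact one_mem _
    · exact mem_zpowers _
    · rw [show el j s (-u) 1 = p⁻¹ by rw [E.el_inv (one_mem W), inv_one, act_one]]
      exact inv_mem (mem_zpowers _)
  rintro ⟨d, hd⟩
  have h1 := ((zpowers p).subgroupOf C).card_mul_index
  rw [Nat.card_congr (subgroupOfEquivOfLe (zpowers_le.2 hpC)).toEquiv, Nat.card_zpowers,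
    orderOf_eq_prime hp3 hp1, hd] at h1
  exact hidx ⟨d, by linarith⟩

/-- Conjugates of the exchange have centralizers of order divisible by nine. -/
theorem Setting.nine_of_conj_tau (E : Setting W j s) {g : G} {z : G} (h : g * el j s 0 tau * g⁻¹ = z) :
    9 ∣ Nat.card (centralizer ({z} : Set G)) := by
  rw [← E.card_fixT, ← card_map_of_injective (f := (MulAut.conj g).toMonoidHom) (MulAut.conj g).injective (K := fixT j)]
  refine card_dvd_of_le ?_
  rintro _ ⟨p, hp, rfl⟩
  rw [← h]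
  exact mem_centralizer_singleton_iff.2 ((show Commute p (el j s 0 tau) from
    mem_centralizer_singleton_iff.1 (E.fixT_le_cent hp)).map (MulAut.conj g).toMonoidHom).eq

/-- The odd involutions of `N(J)`. -/
theorem Ctx.odd_involution (E : Ctx W j s k) {m : Mon} (hm : m ∈ W) {v : V3} (hw : m.w = true)
    (h : el j s v m * el j s v m = 1) :
    ∃ c ∈ normalizer (j.range : Set G), c * el j s v m * c⁻¹ = el j s 0 tau ∨
      (inKind k negOne = true ∧ c * el j s v m * c⁻¹ = el j s 0 (negOne * tau)) := by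
  obtain ⟨hm2, hform⟩ := E.involution_form hm h
  obtain ⟨c, hc, hcm⟩ := odd_involutions k m ((E.kind m).1 hm) hw hm2
  have hcW := E.mem hc
  refine ⟨el j s 0 c * (el j s (-v) 1)⁻¹,
    mul_mem (E.el_mem_normalizer hcW 0) (inv_mem (E.el_mem_normalizer (one_mem W) _)), ?_⟩
  have e : el j s 0 c * (el j s (-v) 1)⁻¹ * el j s v m * (el j s 0 c * (el j s (-v) 1)⁻¹)⁻¹ =
      el j s 0 (c * m * c⁻¹) := by
    calc el j s 0 c * (el j s (-v) 1)⁻¹ * el j s v m * (el j s 0 c * (el j s (-v) 1)⁻¹)⁻¹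
        = el j s 0 c * ((el j s (-v) 1)⁻¹ * el j s v m * el j s (-v) 1) * (el j s 0 c)⁻¹ := by group
      _ = el j s 0 c * el j s 0 m * (el j s 0 c)⁻¹ := by rw [hform]; group
      _ = _ := by
        rw [E.el_inv hcW, show act c⁻¹ (0 : V3) = 0 from (actAdd _).map_zero, neg_zero, E.el_mul hcW hm,
          show act c (0 : V3) = 0 from (actAdd _).map_zero, add_zero, E.el_mul (mul_mem hcW hm) (inv_mem hcW),
          show act (c * m) (0 : V3) = 0 from (actAdd _).map_zero, add_zero]
  rw [e]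
  exact hcm.imp (fun h => by rw [h]) (fun h => ⟨h.1, by rw [h.2]⟩)

/-- A character of `G` that is odd on the exchange. -/
theorem Ctx.exists_parity (E : Ctx W j s k)
    (hsmall : ∀ v : V3, v ≠ 0 → centralizer ({el j s v 1} : Set G) ≤ normalizer (j.range : Set G)) :
    ∃ φ : G →* Multiplicative (ZMod 2), φ (el j s 0 tau) = bitVal true ∧
      ∀ m, m ∈ W → m.w = false → m * m = 1 → φ (el j s 0 m) ≠ 1 →
        ∃ g : G, g⁻¹ * el j s 0 m * g = el j s 0 tau ∨
          (inKind k negOne = true ∧ g⁻¹ * el j s 0 m * g = el j s 0 (negOne * tau)) := by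
  set H := normalizer (j.range : Set G)
  obtain ⟨μ, hμ⟩ := E.exists_mu
  set θ : H →* Multiplicative (ZMod 2) := permSign.comp μ with hθ
  have hθv : ∀ v m, m ∈ W → ∀ h : el j s v m ∈ H, θ ⟨_, h⟩ = bitVal m.w := fun v m hm h => by
    show bitVal (μ ⟨_, h⟩).w = _
    rw [hμ v m hm h]
  set φ : G →* Multiplicative (ZMod 2) :=
    (transferHom (le_top : H ≤ ⊤) θ).comp (Subgroup.topEquiv (G := G)).symm.toMonoidHom
  have hφ : ∀ g, φ g = transferHom (le_top : H ≤ ⊤) θ ⟨g, mem_top g⟩ := fun g => rfl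
  have hclass : ∀ (t : G), t * t = 1 → ∀ g : G, ∀ h : g⁻¹ * t * g ∈ H, θ ⟨_, h⟩ ≠ 1 →
      ∃ c ∈ H, c * (g⁻¹ * t * g) * c⁻¹ = el j s 0 tau ∨
        (inKind k negOne = true ∧ c * (g⁻¹ * t * g) * c⁻¹ = el j s 0 (negOne * tau)) := by
    intro t ht g h hne
    obtain ⟨v, m, hm, e⟩ := E.exists_normal_form h
    have hw : m.w = true := by
      by_contra hw
      refine hne ?_
      rw [show (⟨_, h⟩ : H) = ⟨el j s v m, e ▸ h⟩ from Subtype.ext e, hθv v m hm,
        Bool.eq_false_iff.2 hw]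
      rfl
    have h2 : el j s v m * el j s v m = 1 := by
      rw [← e]
      calc g⁻¹ * t * g * (g⁻¹ * t * g) = g⁻¹ * (t * t) * g := by group
        _ = 1 := by rw [ht]; group
    rw [e]
    exact E.odd_involution hm hw h2
  have htW := tau_mem E.toSetting
  have htH : el j s 0 tau ∈ H := E.el_mem_normalizer htW 0
  refine ⟨φ, ?_, fun m hm hw hm2 hne => ?_⟩
  · rw [hφ, transferHom_apply le_top θ htH (E.sm_sq htW tau_facts.1) fun g _ h hne => ?_]
    · have hle : centralizer ({el j s 0 tau} : Set G) ⊓ ⊤ ≤ H := inf_le_left.trans (E.cent_tau_le hsmall)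
      rw [relIndex_eq_one.2 hle, pow_one, hθv 0 tau htW]
      rfl
    · obtain ⟨c, hc, e | ⟨hneg, e⟩⟩ := hclass _ (E.sm_sq htW tau_facts.1) g h hne
      · exact ⟨c, hc, by
          rw [← mul_right_inj c, ← mul_left_inj c⁻¹, e]
          group⟩
      · exfalso
        obtain ⟨hu, hu0, hfix, h3⟩ := negTau_facts
        refine E.not_nine_of_line (mul_mem (E.mem hneg) htW) hu hu0 (hsmall _ hu0) hfix
          (fun x _ a b _ => h3 x a b) (E.nine_of_conj_tau (g := c * g⁻¹) ?_)
        rw [← e]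
        group
  · by_contra hex
    refine hne ?_
    have hmH : el j s 0 m ∈ H := E.el_mem_normalizer hm 0
    rw [hφ, transferHom_apply le_top θ hmH (E.sm_sq hm hm2) fun g _ h hne' => ?_, hθv 0 m hm, hw]
    · exact one_pow _
    · obtain ⟨c, hc, e⟩ := hclass _ (E.sm_sq hm hm2) g h hne'
      refine absurd ⟨g * c⁻¹, ?_⟩ hex
      have : (g * c⁻¹)⁻¹ * el j s 0 m * (g * c⁻¹) = c * (g⁻¹ * el j s 0 m * g) * c⁻¹ := by group
      rw [this]
      exact e

/-- Elements of order a power of three are even. -/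
theorem bit_of_three (φ : G →* Multiplicative (ZMod 2)) {g : G} {n : ℕ} (h : g ^ 3 ^ n = 1) : φ g = 1 := by
  obtain ⟨l, hl⟩ : Odd (3 ^ n) := Odd.pow (by decide)
  have := congrArg φ h
  rwa [map_pow, hl, pow_succ, pow_mul, pow_two, bit_sq, one_pow, one_mul, map_one] at this

theorem Setting.bit_space (E : Setting W j s) (φ : G →* Multiplicative (ZMod 2)) (v : V3) :
    φ (el j s v 1) = 1 :=
  bit_of_three φ (n := 1) (by rw [pow_one]; exact E.space_cube (el_mem_range v))

/-- The values on the automizer when the central sign is even. -/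
theorem Ctx.parity_values (E : Ctx W j s k) (φ : G →* Multiplicative (ZMod 2))
    (ht : φ (el j s 0 tau) = bitVal true)
    (hneg : inKind k negOne = true → φ (el j s 0 negOne) = 1) :
    ∀ v m, m ∈ W → φ (el j s v m) = bitVal m.w := by
  classical
  let ψ : W →* Multiplicative (ZMod 2) := φ.comp s
  have hψ : ∀ m (hm : m ∈ W), φ (el j s 0 m) = ψ ⟨m, hm⟩ := fun m hm => by
    rw [el_zero_left, sm_mem hm]
    rfl
  have hconj : ∀ (c d : W), ψ (c * d * c⁻¹) = ψ d := fun c d => by
    rw [map_mul, map_mul, map_inv, mul_comm (ψ c), mul_inv_cancel_right]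
  have hrot : ∀ r (h : Mon.perm r false ∈ W), ψ ⟨_, h⟩ = 1 := by
    intro r h
    rw [← hψ _ h]
    refine bit_of_three φ (n := 1) ?_
    rw [pow_one, E.rot_el_cube]
    have key : ∀ r : ZMod 3, (0 : V3) + act (Mon.perm r false) 0 +
        act (Mon.perm r false * Mon.perm r false) 0 = 0 := by decide +kernel
    rw [key, el_zero_one]
  have hdiag : ∀ d (hd : d ∈ W), d.r = 0 → d.w = false → ψ ⟨d, hd⟩ = 1 := by
    intro d hd hr hw
    obtain ⟨hne, hcl⟩ := kind_closure
    obtain ⟨h0, h1, h2, h3⟩ := hcl d hr hw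
    have hk := (E.kind d).1 hd
    obtain rfl | rfl | rfl | rfl : k = 0 ∨ k = 1 ∨ k = 2 ∨ k = 3 := by clear * - k; revert k; decide
    · have := h0 hk; subst this; exact map_one ψ
    · rcases h1 hk with rfl | rfl
      · exact map_one ψ
      · rw [← hψ _ hd]; exact hneg rfl
    · have hB : eBC ∈ W := E.mem rfl
      have key : eBC = (Mon.perm 1 false * eBC * (Mon.perm 1 false)⁻¹) *
          (Mon.perm 2 false * eBC * (Mon.perm 2 false)⁻¹) := by decide +kernel
      have hB1 : ψ ⟨eBC, hB⟩ = 1 := by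
        have e : (⟨eBC, hB⟩ : W) = (⟨_, E.perm 1 false⟩ * ⟨eBC, hB⟩ * ⟨_, E.perm 1 false⟩⁻¹) *
            (⟨_, E.perm 2 false⟩ * ⟨eBC, hB⟩ * ⟨_, E.perm 2 false⟩⁻¹) := Subtype.ext key
        rw [e, map_mul, hconj, hconj, bit_sq]
      rcases h2 hk with rfl | ⟨r, rfl⟩
      · exact map_one ψ
      · rw [show (⟨_, hd⟩ : W) = ⟨_, E.perm r false⟩ * ⟨eBC, hB⟩ * ⟨_, E.perm r false⟩⁻¹ from rfl,
          hconj, hB1]
    · have hA : eA ∈ W := E.mem rfl
      have hA1 : ψ ⟨eA, hA⟩ = 1 := by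
        have key : negOne = eA * (Mon.perm 1 false * eA * (Mon.perm 1 false)⁻¹) *
            (Mon.perm 2 false * eA * (Mon.perm 2 false)⁻¹) := by decide +kernel
        have e : (⟨negOne, E.mem rfl⟩ : W) =
            ⟨eA, hA⟩ * (⟨_, E.perm 1 false⟩ * ⟨eA, hA⟩ * ⟨_, E.perm 1 false⟩⁻¹) *
            (⟨_, E.perm 2 false⟩ * ⟨eA, hA⟩ * ⟨_, E.perm 2 false⟩⁻¹) := Subtype.ext key
        have h4 := hneg rfl
        rwa [hψ _ (E.mem rfl), e, map_mul, map_mul, hconj, hconj, bit_sq, one_mul] at h4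
      obtain ⟨r, r', r'', rfl | rfl | rfl | rfl⟩ := h3
      · exact map_one ψ
      · rw [show (⟨_, hd⟩ : W) = ⟨_, E.perm r false⟩ * ⟨eA, hA⟩ * ⟨_, E.perm r false⟩⁻¹ from rfl,
          hconj, hA1]
      · rw [show (⟨_, hd⟩ : W) = (⟨_, E.perm r false⟩ * ⟨eA, hA⟩ * ⟨_, E.perm r false⟩⁻¹) *
          (⟨_, E.perm r' false⟩ * ⟨eA, hA⟩ * ⟨_, E.perm r' false⟩⁻¹) from rfl,
          map_mul, hconj, hconj, hA1, one_mul]
      · rw [show (⟨_, hd⟩ : W) = (⟨_, E.perm r false⟩ * ⟨eA, hA⟩ * ⟨_, E.perm r false⟩⁻¹) *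
          (⟨_, E.perm r' false⟩ * ⟨eA, hA⟩ * ⟨_, E.perm r' false⟩⁻¹) *
          (⟨_, E.perm r'' false⟩ * ⟨eA, hA⟩ * ⟨_, E.perm r'' false⟩⁻¹) from rfl,
          map_mul, map_mul, hconj, hconj, hconj, hA1, one_mul, one_mul]
  intro v m hm
  have hsplit : el j s v m = el j s v 1 * el j s 0 m := by
    rw [E.el_mul (one_mem W) hm, show act 1 (0 : V3) = 0 from (actAdd 1).map_zero, add_zero, one_mul]
  rw [hsplit, map_mul, E.bit_space, one_mul, hψ m hm]
  have hd : diagOf m ∈ W := by
    have := mul_mem hm (inv_mem (E.perm m.r m.w))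
    rwa [mul_inv_eq_iff_eq_mul.2 (diag_split m).symm] at this
  rw [show (⟨m, hm⟩ : W) = ⟨diagOf m, hd⟩ * ⟨_, E.perm m.r m.w⟩ from Subtype.ext (diag_split m).symm,
    map_mul, hdiag _ hd rfl rfl, one_mul]
  cases hw : m.w
  · exact hrot _ _
  · have key : ∀ r, Mon.perm r true = Mon.perm r false * tau := by decide +kernel
    rw [show (⟨Mon.perm m.r true, E.perm m.r true⟩ : W) = ⟨_, E.perm m.r false⟩ * ⟨tau, tau_mem E.toSetting⟩ from
      Subtype.ext (key _), map_mul, hrot, one_mul, ← hψ _ (tau_mem E.toSetting), ht]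

end Cfsg.Agent.SymNineThree
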