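import Cfsg.Agent.Lib.SymNineThree.SixLocal
import Cfsg.Agent.Lib.SymNineThree.IndexTwo

/-!
# Five classes of involutions

* `conj_into`, `not_nine_of_three` : Sylow subgroups of centralizers
* `Ctx.sign_ne_exchange`, `Ctx.sign_ne_negOne`, `Six.sign_ne_double`, `Six.exchange_ne_double`,
  `Ctx.sign_ne_twist`, `Ctx.exchange_ne_twist` : the classes are different
-/

set_option autoImplicit false
set_option synthInstance.maxSize 8000
set_option synthInstance.maxHeartbeats 200000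

namespace Cfsg.Agent.SymNineThree

open Cfsg Subgroup
open ThreeCubedSymFour (V3)
open Multiplicative (ofAdd toAdd)
open Equiv (Perm swap)

theorem axis_class_facts :
    (Finset.univ.filter fun u : V3 => act eA u = u).card = 9 ∧
    (∀ u : V3, act eA u = u → u.1 = 0) ∧
    ¬ Axis ((0, 1, 1) : V3) ∧ act eA ((0, 1, 1) : V3) = (0, 1, 1) ∧
    (∀ m : Mon, m * m * m = 1 → m * eA = eA * m → m = 1) ∧
    (∀ m : Mon, ∀ u : V3, u.1 = 0 → act m u ≠ ones) ∧
    (∀ v : V3, v.1 = 0 → v ≠ 0 → ∀ m : Mon, m * m * m = 1 → act m v = v → m = 1) ∧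
    act rot ones = ones ∧ rot ≠ 1 ∧ negOne * rot = rot * negOne ∧
    act (eA * tau) ((0, 1, 1) : V3) = (0, 1, 1) ∧
    (∀ w : V3, act (eA * tau) w = w → w = 0 ∨ w = (0, 1, 1) ∨ w = -(0, 1, 1)) ∧
    (∀ x : Mon, x * x * x = 1 → x * (eA * tau) = eA * tau * x → x = 1) ∧
    sgnB * sgnC = eBC := by decide +kernel

variable {G : Type*} [Group G]

theorem conj_mem_centralizer {g x : G} {p : G} (hp : p ∈ centralizer ({x} : Set G)) :
    g * p * g⁻¹ ∈ centralizer ({g * x * g⁻¹} : Set G) :=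
  mem_centralizer_singleton_iff.2
    ((show Commute p x from mem_centralizer_singleton_iff.1 hp).map (MulAut.conj g).toMonoidHom).eq

variable [Finite G]

theorem nine_dvd_conj {g x y : G} (h : g * x * g⁻¹ = y)
    (h9 : 9 ∣ Nat.card (centralizer ({x} : Set G))) : 9 ∣ Nat.card (centralizer ({y} : Set G)) := by
  refine h9.trans ?_
  rw [← card_map_of_injective (f := (MulAut.conj g).toMonoidHom) (MulAut.conj g).injective
    (K := centralizer ({x} : Set G))]
  refine card_dvd_of_le ?_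
  rintro _ ⟨p, hp, rfl⟩
  exact h ▸ conj_mem_centralizer hp

/-- A subgroup of order a power of three of `C` is conjugate into a Sylow subgroup. -/
theorem conj_into {C P Q : Subgroup G} (hPC : P ≤ C) (hP : IsPGroup 3 P)
    (hidx : ¬ 3 ∣ (P.subgroupOf C).index) (hQ : IsPGroup 3 Q) (hQC : Q ≤ C) :
    ∃ c ∈ C, ∀ q ∈ Q, c * q * c⁻¹ ∈ P := by
  have : Fact (Nat.Prime 3) := ⟨Nat.prime_three⟩
  let S : Sylow 3 C := (hP.comap_subtype (K := C)).toSylow hidx
  obtain ⟨R, hR⟩ := (hQ.comap_subtype (K := C)).exists_le_sylow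
  obtain ⟨c, hc⟩ := MulAction.exists_smul_eq C R S
  refine ⟨c, c.2, fun q hq => ?_⟩
  have h1 : c * ⟨q, hQC hq⟩ * c⁻¹ ∈ (S : Subgroup C) := by
    rw [← hc]
    exact ⟨⟨q, hQC hq⟩, hR (mem_subgroupOf.2 hq), rfl⟩
  exact h1

/-- An element of order three that is self-centralizing among the 3-elements. -/
theorem not_nine_of_three {C : Subgroup G} {u : G} (hu : u ∈ C) (hu3 : u ^ 3 = 1) (hu1 : u ≠ 1)
    (h : ∀ g ∈ C, g * u = u * g → ∀ n : ℕ, g ^ 3 ^ n = 1 → g ∈ zpowers u) : ¬ 9 ∣ Nat.card C := by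
  have : Fact (Nat.Prime 3) := ⟨Nat.prime_three⟩
  have hZ : IsPGroup 3 (zpowers u) := IsPGroup.of_card (n := 1)
    (by rw [Nat.card_zpowers, orderOf_eq_prime hu3 hu1, pow_one])
  have hidx : ¬ 3 ∣ ((zpowers u).subgroupOf C).index := by
    refine not_dvd_index_of_normalizer (zpowers_le.2 hu) hZ fun g hg hgN n hn => h g hg ?_ n hn
    obtain ⟨i, hi⟩ := mem_zpowers_iff.1 ((mem_normalizer_iff.1 hgN u).1 (mem_zpowers u))
    have hmod : u ^ i = u ^ (i % 3) := by
      conv_lhs => rw [← Int.emod_add_mul_ediv i 3, zpow_add, zpow_mul,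
        show u ^ (3 : ℤ) = 1 by rw [show (3 : ℤ) = (3 : ℕ) from rfl, zpow_natCast, hu3], one_zpow, mul_one]
    rw [hmod] at hi
    rcases (show i % 3 = 0 ∨ i % 3 = 1 ∨ i % 3 = 2 by omega) with h | h | h <;> rw [h] at hi
    · rw [zpow_zero] at hi
      exact absurd (conj_eq_one_iff.1 hi.symm) hu1
    · rw [zpow_one] at hi
      exact mul_inv_eq_iff_eq_mul.1 hi.symm
    · refine absurd ?_ (not_inverts hu3 hu1 hn)
      rw [← hi, eq_inv_iff_mul_eq_one, show (2 : ℤ) = (2 : ℕ) from rfl, zpow_natCast, ← pow_succ, hu3]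
  rintro ⟨d, hd⟩
  have h1 := ((zpowers u).subgroupOf C).card_mul_index
  rw [Nat.card_congr (subgroupOfEquivOfLe (zpowers_le.2 hu)).toEquiv, Nat.card_zpowers,
    orderOf_eq_prime hu3 hu1, hd] at h1
  exact hidx ⟨d, by linarith⟩

variable {W : Subgroup Mon} {j : Multiplicative V3 →* G} {s : W →* G}

/-- The fixed plane of the first sign. -/
theorem Ctx.sign_plane (E : Ctx W j s 3) :
    planeSub j (fixMap eA) ≤ centralizer ({el j s 0 eA} : Set G) ∧
      ¬ 3 ∣ ((planeSub j (fixMap eA)).subgroupOf (centralizer ({el j s 0 eA} : Set G))).index ∧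
      Nat.card (planeSub j (fixMap eA)) = 9 := by
  obtain ⟨h9, -, hax, hfix, h3, -⟩ := axis_class_facts
  set P := planeSub j (fixMap eA)
  have hPmem : ∀ u, el j s u 1 ∈ P ↔ act eA u = u := fun u => E.mem_planeSub.trans fixMap_eq_zero
  have hPC : P ≤ centralizer ({el j s 0 eA} : Set G) := fun g hg => by
    obtain ⟨u, hu, rfl⟩ := E.exists_planeSub hg
    exact mem_centralizer_singleton_iff.2 ((E.el_comm_space (E.mem rfl)).2 (fixMap_eq_zero.1 hu)).symm
  have hcard : Nat.card P = 9 := by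
    rw [E.card_planeSub, ← h9]
    exact congrArg Finset.card (Finset.filter_congr fun u _ => fixMap_eq_zero)
  refine ⟨hPC, not_dvd_index_of_normalizer hPC (E.space_isPGroup.to_le (planeSub_le _))
    fun g hg hgP n hn => ?_, hcard⟩
  have hN : g ∈ normalizer (j.range : Set G) := E.map_conj_space fun p hp => by
    refine (E.cent_or_axis (by decide +kernel)).resolve_right (fun h => hax h.2)
      (mem_centralizer_singleton_iff.2 ?_)
    have hq : g⁻¹ * el j s (0, 1, 1) 1 * g ∈ P :=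
      (mem_normalizer_iff.1 hgP _).2 (by simpa [mul_assoc] using (hPmem _).2 hfix)
    have hc : Commute p (g⁻¹ * el j s (0, 1, 1) 1 * g) :=
      (congrArg Subtype.val (E.space_comm.is_comm.comm ⟨p, hp⟩ ⟨_, planeSub_le _ hq⟩) :)
    have := (hc.map (MulAut.conj g).toMonoidHom).eq
    simpa [mul_assoc] using this
  obtain ⟨w, m, hm, rfl⟩ := E.exists_normal_form hN
  have hc := mem_centralizer_singleton_iff.1 hg
  rw [E.el_comm_iff hm (E.mem rfl), show act m (0 : V3) = 0 from (actAdd m).map_zero, add_zero, zero_add] at hc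
  obtain rfl : m = 1 := h3 m (by rw [← E.cube_of_el hm hn, pow_succ, pow_two]) hc.2
  exact (hPmem w).2 hc.1.symm

theorem Ctx.sign_ne_exchange (E : Ctx W j s 3) (g : G) : g * el j s 0 eA * g⁻¹ ≠ el j s 0 tau := by
  intro h
  obtain ⟨-, haxis, -, -, -, hne, -⟩ := axis_class_facts
  obtain ⟨hPC, -, hcard⟩ := E.sign_plane
  set P := planeSub j (fixMap eA)
  have hle : P.map (MulAut.conj g).toMonoidHom ≤ centralizer ({el j s 0 tau} : Set G) := by
    rintro _ ⟨p, hp, rfl⟩
    exact h ▸ conj_mem_centralizer (hPC hp)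
  have hP3 : IsPGroup 3 P := E.space_isPGroup.to_le (planeSub_le _)
  obtain ⟨c, -, hc⟩ := conj_into E.fixT_le_cent (E.space_isPGroup.to_le (planeSub_le _)) E.fixT_index
    (hP3.map _) hle
  have heq : P.map (MulAut.conj (c * g)).toMonoidHom = fixT j := by
    refine eq_of_le_of_card_ge ?_ (by
      rw [card_map_of_injective (f := (MulAut.conj (c * g)).toMonoidHom) (MulAut.conj (c * g)).injective,
        hcard, E.card_fixT])
    rintro _ ⟨p, hp, rfl⟩
    have := hc _ ⟨p, hp, rfl⟩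
    simpa [mul_assoc] using this
  obtain ⟨p, hp, e⟩ : el j s ones 1 ∈ P.map (MulAut.conj (c * g)).toMonoidHom :=
    heq ▸ E.mem_fixT.2 tau_facts.2.1
  obtain ⟨u, hu, rfl⟩ := E.exists_planeSub hp
  obtain ⟨m, -, hm⟩ := E.fusion_top (g := c * g) e
  exact hne m u (haxis u (fixMap_eq_zero.1 hu)) hm

theorem Ctx.sign_ne_negOne (E : Ctx W j s 3) (g : G) : g * el j s 0 negOne * g⁻¹ ≠ el j s 0 eA := by
  intro h
  obtain ⟨-, haxis, -, -, -, -, hstab, hrot, hrot1, hcomm, -⟩ := axis_class_facts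
  obtain ⟨hPC, hidx, -⟩ := E.sign_plane
  have hW : ∀ m : Mon, m ∈ W := fun m => E.mem rfl
  set r := el j s 0 rot
  have hr3 : r ^ 3 = 1 := by
    have e : r = el j s 0 (Mon.perm 1 false) := rfl
    rw [e, E.rot_el_cube]
    have key : (0 : V3) + act (Mon.perm 1 false) 0 + act (Mon.perm 1 false * Mon.perm 1 false) 0 = 0 := by
      decide +kernel
    rw [key, el_zero_one]
  have hrC : r ∈ centralizer ({el j s 0 negOne} : Set G) := by
    refine mem_centralizer_singleton_iff.2 ?_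
    rw [E.el_comm_iff (hW _) (hW _)]
    exact ⟨by simp only [show ∀ m, act m (0 : V3) = 0 from fun m => (actAdd m).map_zero], hcomm.symm⟩
  have hR : IsPGroup 3 (zpowers (g * r * g⁻¹)) := fun x => ⟨1, Subtype.ext (by
    obtain ⟨i, hi⟩ := mem_zpowers_iff.1 x.2
    rw [pow_one, SubgroupClass.coe_pow, ← hi, ← zpow_natCast, ← zpow_mul, mul_comm, zpow_mul, zpow_natCast,
      conj_pow, hr3, mul_one, mul_inv_cancel, one_zpow]
    rfl)⟩
  obtain ⟨c, -, hc⟩ := conj_into hPC (E.space_isPGroup.to_le (planeSub_le _)) hidx hR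
    (zpowers_le.2 (h ▸ conj_mem_centralizer hrC))
  obtain ⟨v, hv, e⟩ := E.exists_planeSub (hc _ (mem_zpowers _))
  have e' : (c * g) * r * (c * g)⁻¹ = el j s v 1 := by rw [← e]; group
  have hv0 : v ≠ 0 := by
    rintro rfl
    rw [el_zero_one, conj_eq_one_iff] at e'
    exact hrot1 ((E.el_eq_one_iff (hW _)).1 e').2
  have hr : r ∉ j.range := fun hr => by
    obtain ⟨u, hu⟩ := exists_el (s := s) hr
    exact hrot1 (E.el_injective (hW _) (one_mem W) hu).2
  exact E.not_conj_space hr ((E.el_comm_space (hW _)).2 hrot)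
    (fun m _ h3 hfix => hstab v (haxis v (fixMap_eq_zero.1 hv)) hv0 m h3 hfix) (c * g) e'

theorem Ctx.not_nine_twist (E : Ctx W j s 3) :
    ¬ 9 ∣ Nat.card (centralizer ({el j s 0 (eA * tau)} : Set G)) := by
  obtain ⟨-, -, hax, -, -, -, -, -, -, -, hu, hfix, h3, -⟩ := axis_class_facts
  exact E.not_nine_of_line (E.mem rfl) hu (by decide +kernel)
    ((E.cent_or_axis (by decide +kernel)).resolve_right fun h => hax h.2) hfix fun x _ hx hc _ => h3 x hx hc

theorem Ctx.exchange_ne_twist (E : Ctx W j s 3) (g : G) :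
    g * el j s 0 tau * g⁻¹ ≠ el j s 0 (eA * tau) := fun h => E.not_nine_twist (E.nine_of_conj_tau h)

theorem Ctx.nine_sign (E : Ctx W j s 3) : 9 ∣ Nat.card (centralizer ({el j s 0 eA} : Set G)) := by
  obtain ⟨hPC, -, hcard⟩ := E.sign_plane
  exact hcard ▸ card_dvd_of_le hPC

theorem Ctx.sign_ne_twist (E : Ctx W j s 3) (g : G) :
    g * el j s 0 eA * g⁻¹ ≠ el j s 0 (eA * tau) := fun h => E.not_nine_twist (nine_dvd_conj h E.nine_sign)

variable {E : Ctx W j s 3} {ι : Perm (Fin 6) →* G} {c : Bool}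

theorem Six.val_double (X : Six E ι c) : ι (xP c * yP c) = el j s 0 eBC := by
  rw [map_mul, X.val_x, X.val_y, E.el_mul (E.mem rfl) (E.mem rfl),
    show act sgnB (0 : V3) = 0 from (actAdd sgnB).map_zero, add_zero, axis_class_facts.2.2.2.2.2.2.2.2.2.2.2.2.2]

theorem Six.comm_axis (X : Six E ι c) (σ : Perm (Fin 6)) : Commute (el j s axA 1) (ι σ) :=
  (mem_centralizer_singleton_iff.1 (X.cent σ)).symm

theorem Six.not_nine_double (X : Six E ι c) :
    ¬ 9 ∣ Nat.card (centralizer ({el j s 0 eBC} : Set G)) := by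
  set a := el j s axA 1
  have ha3 : a ^ 3 = 1 := E.space_cube (el_mem_range axA)
  have haf : Commute a (el j s 0 eBC) := X.val_double ▸ X.comm_axis _
  refine not_nine_of_three (mem_centralizer_singleton_iff.2 haf.eq) ha3
    (fun e => absurd ((E.el_eq_one_iff (one_mem W)).1 e).1 (by decide +kernel)) fun g hg hga n hn => ?_
  obtain ⟨i, σ, rfl⟩ := X.dec g (mem_centralizer_singleton_iff.2 hga)
  have hai : Commute (a ^ i) (el j s 0 eBC) := haf.pow_left i
  have h1 : Commute (ι σ) (el j s 0 eBC) := by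
    have h2 := (hai.inv_left).mul_left (show Commute (a ^ i * ι σ) _ from mem_centralizer_singleton_iff.1 hg)
    rwa [inv_mul_cancel_left] at h2
  have hσ : σ * (xP c * yP c) = xP c * yP c * σ := X.inj (by
    rw [map_mul ι σ, map_mul ι _ σ, X.val_double]; exact h1.eq)
  have h16 := cent_double c σ hσ
  have h3n : σ ^ 3 ^ (n + 1) = 1 := X.inj (by
    rw [((X.comm_axis σ).pow_left i).mul_pow] at hn
    rw [map_pow, map_one, pow_succ, pow_mul, eq_inv_of_mul_eq_one_right hn, inv_pow, ← pow_mul, ← pow_mul,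
      show i * (3 ^ n * 3) = 3 * (i * 3 ^ n) by ring, pow_mul, ha3, one_pow, inv_one])
  have hgcd := pow_gcd_eq_one.2 ⟨h16, h3n⟩
  rw [show Nat.gcd 16 (3 ^ (n + 1)) = 1 from Nat.Coprime.pow_right _ (by norm_num), pow_one] at hgcd
  rw [hgcd, map_one, mul_one]
  exact npow_mem_zpowers _ _

theorem Six.sign_ne_double (X : Six E ι c) (g : G) : g * el j s 0 eA * g⁻¹ ≠ el j s 0 eBC := fun h =>
  X.not_nine_double (nine_dvd_conj h E.nine_sign)

theorem Six.exchange_ne_double (X : Six E ι c) (g : G) : g * el j s 0 tau * g⁻¹ ≠ el j s 0 eBC := fun h =>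
  X.not_nine_double (E.nine_of_conj_tau h)

end Cfsg.Agent.SymNineThree
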