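import Cfsg.Agent.Lib.SymNineThree.Signalizer
import Cfsg.Agent.Lib.Transfer.Focal
import Cfsg.Agent.Lib.Transfer.FusionInvariant
import Cfsg.Agent.Lib.Transfer.Residual
import Cfsg.Agent.Lib.HallHigman.PLengthBasic
import Cfsg.Agent.Lib.NineSylow.Main
import Cfsg.Agent.S3347

/-!
# Subgroups with an abelian Sylow 3-subgroup

* `isSylow_of_normalizer`, `sig_of_points`, `le_of_commutator`: elementary lemmas
* `exists_kernel`: the transfer kernel of a character invariant under the normalizer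
* `Loc C P Z`: `P` is a Sylow subgroup of `C`, self-centralizing modulo `Z`
* `Loc.le_normalizer_inverted`, `Loc.le_normalizer_klein`: the criteria
-/

set_option autoImplicit false

namespace Cfsg.Agent.SymNineThree

open Cfsg Subgroup

universe u

variable {G : Type u} [Group G] [Finite G]

theorem not_dvd_index_of_normalizer {C P : Subgroup G} (hPC : P ≤ C) (hP : IsPGroup 3 P)
    (h : ∀ g ∈ C, g ∈ normalizer (P : Set G) → ∀ n : ℕ, g ^ 3 ^ n = 1 → g ∈ P) :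
    ¬ 3 ∣ (P.subgroupOf C).index := by
  have : Fact (Nat.Prime 3) := ⟨Nat.prime_three⟩
  obtain ⟨T, hT⟩ := (hP.comap_subtype (K := C)).exists_le_sylow
  suffices (T : Subgroup C) = P.subgroupOf C by
    rw [← this]; exact T.not_dvd_index
  refine le_antisymm ?_ hT
  by_contra hne
  haveI := T.isPGroup'.isNilpotent
  have hlt : (P.subgroupOf C).subgroupOf (T : Subgroup C) < ⊤ :=
    lt_top_iff_ne_top.2 fun e => hne (subgroupOf_eq_top.1 e)
  obtain ⟨g, hgN, hgn⟩ := SetLike.exists_of_lt (normalizerCondition_of_isNilpotent _ hlt)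
  refine hgn (mem_subgroupOf.2 (mem_subgroupOf.2 ?_))
  obtain ⟨n, hn⟩ := T.isPGroup' g
  refine h _ (SetLike.coe_mem (g : C)) (mem_normalizer_iff.2 fun p => ?_) n (by
    simpa using congrArg (fun u : (T : Subgroup C) => ((u : C) : G)) hn)
  constructor
  · intro hp
    have := (mem_normalizer_iff.1 hgN ⟨⟨p, hPC hp⟩, hT (mem_subgroupOf.2 hp)⟩).1
      (mem_subgroupOf.2 (mem_subgroupOf.2 hp))
    simpa [mem_subgroupOf] using this
  · intro hp
    have hpC : p ∈ C := by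
      have := C.mul_mem (C.mul_mem (C.inv_mem (g : C).2) (hPC hp)) (g : C).2
      simpa [mul_assoc] using this
    have hpT : (⟨p, hpC⟩ : C) ∈ (T : Subgroup C) := by
      have h1 : (⟨_, hPC hp⟩ : C) ∈ (T : Subgroup C) := hT (mem_subgroupOf.2 hp)
      have e : (⟨p, hpC⟩ : C) = (g : C)⁻¹ * ⟨_, hPC hp⟩ * (g : C) :=
        Subtype.ext (by simp [mul_assoc])
      rw [e]
      exact mul_mem (mul_mem (inv_mem g.2) h1) g.2
    have := (mem_normalizer_iff.1 hgN ⟨⟨p, hpC⟩, hpT⟩).2 (mem_subgroupOf.2 (mem_subgroupOf.2 (by simpa using hp)))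
    simpa [mem_subgroupOf] using this

/-- The points of a noncyclic group bound its invariant subgroups. -/
theorem sig_of_points {C P Ω : Subgroup G} (hP : IsPGroup 3 P) (hc : IsMulCommutative P)
    (hnc : ¬ IsCyclic P)
    (h : ∀ a ∈ P, a ≠ 1 → ∀ K : Subgroup G, K ≤ C → P ≤ normalizer (K : Set G) →
      (Nat.card K).Coprime 3 → K ⊓ centralizer ({a} : Set G) ≤ Ω) : Sig P C Ω := by
  have : Fact (Nat.Prime 3) := ⟨Nat.prime_three⟩
  intro K hK hPK hcop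
  obtain ⟨n, hn⟩ := hP.exists_card_eq
  exact Coprime.le_of_noncyclic hnc hPK (by rw [hn]; exact Nat.Coprime.pow_left n hcop.symm)
    fun a ha ha1 => h a ha ha1 K hK hPK hcop

theorem le_of_commutator {P K : Subgroup G} (hPK : P ≤ normalizer (K : Set G)) (hP : IsPGroup 3 P)
    (hK : (Nat.card K).Coprime 3) {k : G} (hk : k ∈ K) (hkP : k ∈ normalizer (P : Set G)) :
    k ∈ centralizer (P : Set G) := by
  have : Fact (Nat.Prime 3) := ⟨Nat.prime_three⟩
  intro p hp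
  have h1 : k * p * k⁻¹ * p⁻¹ ∈ P := mul_mem ((mem_normalizer_iff.1 hkP p).1 hp) (inv_mem hp)
  have h2 : k * p * k⁻¹ * p⁻¹ ∈ K := by
    have := mul_mem hk ((mem_normalizer_iff.1 (hPK hp) k⁻¹).1 (inv_mem hk))
    simpa [mul_assoc] using this
  obtain ⟨n, hn⟩ := hP ⟨_, h1⟩
  have hd1 : orderOf (k * p * k⁻¹ * p⁻¹) ∣ 3 ^ n :=
    orderOf_dvd_of_pow_eq_one (by simpa using congrArg Subtype.val hn)
  have hd2 := Subgroup.orderOf_dvd_natCard K h2
  have e : k * p * k⁻¹ * p⁻¹ = 1 := orderOf_eq_one_iff.1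
    (Nat.eq_one_of_dvd_coprimes (Nat.Coprime.pow_left n hK.symm) hd1 hd2)
  exact (mul_inv_eq_iff_eq_mul.1 (mul_inv_eq_one.1 e)).symm

theorem eq_of_cube {P Z : Subgroup G} (hexp : ∀ p ∈ P, p ^ 3 = 1)
    (hZ : ∀ z ∈ Z, ∀ p ∈ P, z * p = p * z) (hZ3 : (Nat.card Z).Coprime 3) {p z : G} (hp : p ∈ P)
    (hz : z ∈ Z) (h : (p * z) ^ 3 = 1) : z = 1 := by
  rw [((show Commute p z from (hZ z hz p hp).symm)).mul_pow, hexp p hp, one_mul] at h
  exact orderOf_eq_one_iff.1 (Nat.eq_one_of_dvd_coprimes hZ3.symm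
    (orderOf_dvd_of_pow_eq_one h) (Subgroup.orderOf_dvd_natCard Z hz))

/-- The kernel of the transfer of a character invariant under the normalizer. -/
theorem exists_kernel {C P : Subgroup G} (hPC : P ≤ C) (hP : IsPGroup 3 P)
    (hcomm : IsMulCommutative P) (hidx : ¬ 3 ∣ (P.subgroupOf C).index) {A : Type*} [CommGroup A]
    (χ : P →* A)
    (hinv : ∀ n ∈ C, n ∈ normalizer (P : Set G) → ∀ (p : P) (h : n * p * n⁻¹ ∈ P), χ ⟨_, h⟩ = χ p) :
    ∃ L : Subgroup G, L ≤ C ∧ C ≤ normalizer (L : Set G) ∧ (∀ p : P, (p : G) ∈ L ↔ χ p = 1) ∧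
      ∀ c ∈ C, ∃ p ∈ P, ∃ l ∈ L, c = p * l := by
  have : Fact (Nat.Prime 3) := ⟨Nat.prime_three⟩
  let PC : Sylow 3 C := (hP.comap_subtype (K := C)).toSylow hidx
  have hPC' : (PC : Subgroup C) = P.subgroupOf C := IsPGroup.toSylow_coe _ _
  haveI : IsMulCommutative (PC : Subgroup C) := ⟨⟨fun a b => by
    have ha : ((a : C) : G) ∈ P := mem_subgroupOf.1 (hPC' ▸ a.2)
    have hb : ((b : C) : G) ∈ P := mem_subgroupOf.1 (hPC' ▸ b.2)
    exact Subtype.ext (Subtype.ext (congrArg Subtype.val (hcomm.is_comm.comm ⟨_, ha⟩ ⟨_, hb⟩) :))⟩⟩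
  let χ' : (PC : Subgroup C) →* A :=
    χ.comp ((C.subtype.comp (PC : Subgroup C).subtype).codRestrict P fun u =>
      mem_subgroupOf.1 (hPC' ▸ u.2))
  have hχ' : ∀ (u : (PC : Subgroup C)) (h : ((u : C) : G) ∈ P), χ' u = χ ⟨_, h⟩ := fun u h => rfl
  have key : ∀ (q g : C) (hq : q ∈ (PC : Subgroup C)) (hgq : g * q * g⁻¹ ∈ (PC : Subgroup C)),
      χ' ⟨g * q * g⁻¹, hgq⟩ = χ' ⟨q, hq⟩ := by
    intro q g hq hgq
    obtain ⟨m, hm, e⟩ := Transfer.normalizer_control_of_comm PC q hq g hgq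
    have hq' : (q : G) ∈ P := mem_subgroupOf.1 (hPC' ▸ hq)
    have hgq' : ((g * q * g⁻¹ : C) : G) ∈ P := mem_subgroupOf.1 (hPC' ▸ hgq)
    have hmN : (m : G) ∈ normalizer (P : Set G) := by
      refine mem_normalizer_iff.2 fun u => ⟨fun hu => ?_, fun hu => ?_⟩
      · have := (mem_normalizer_iff.1 hm ⟨u, hPC hu⟩).1 (hPC' ▸ mem_subgroupOf.2 hu)
        rw [hPC', mem_subgroupOf] at this
        simpa using this
      · have huC : u ∈ C := by
          have := C.mul_mem (C.mul_mem (C.inv_mem m.2) (hPC hu)) m.2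
          simpa [mul_assoc] using this
        have := (mem_normalizer_iff.1 hm ⟨u, huC⟩).2 (hPC' ▸ mem_subgroupOf.2 (by simpa using hu))
        rw [hPC', mem_subgroupOf] at this
        exact this
    have h1 : (m : G) * q * (m : G)⁻¹ ∈ P := (mem_normalizer_iff.1 hmN _).1 hq'
    rw [hχ' _ hgq', hχ' _ hq', ← hinv m m.2 hmN ⟨q, hq'⟩ h1]
    congr 1
    exact Subtype.ext (congrArg Subtype.val e).symm
  obtain ⟨N, hN, hNi, hNs⟩ := Transfer.exists_normal_focal_complement (PC : Subgroup C)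
    (Transfer.coprime_index_relIndex_sylow PC)
  haveI := hN
  have hcomk := Transfer.commutator_le_ker_of_invariant PC χ' key
  have hNχ : ∀ p : P, (⟨p, hPC p.2⟩ : C) ∈ N → χ p = 1 := by
    intro p hp
    have hpPC : (⟨p, hPC p.2⟩ : C) ∈ (PC : Subgroup C) := hPC' ▸ mem_subgroupOf.2 p.2
    have h1 : (⟨p, hPC p.2⟩ : C) ∈ commutator C ⊓ (PC : Subgroup C) := hNi ▸ ⟨hp, hpPC⟩
    exact MonoidHom.mem_ker.1 (hcomk (x := ⟨_, hpPC⟩) (mem_subgroupOf.2 h1.1))
  set D : Subgroup C := N ⊔ (χ.ker.map P.subtype).subgroupOf C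
  have hdecomp : ∀ c : C, ∃ n ∈ N, ∃ p ∈ (PC : Subgroup C), n * p = c := fun c =>
    (Coprime.mem_sup_iff (fun g _ => by rw [normalizer_eq_top_iff.2 hN]; exact mem_top g)).1
      (hNs ▸ mem_top c)
  have hD : D.Normal := by
    refine ⟨fun d hd c => ?_⟩
    obtain ⟨n, hn, p, hp, rfl⟩ := hdecomp c
    obtain ⟨n', hn', k, hk, rfl⟩ :=
      (Coprime.mem_sup_iff (fun g _ => by rw [normalizer_eq_top_iff.2 hN]; exact mem_top g)).1 hd
    have hpk : p * k * p⁻¹ = k := by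
      have hkP : k ∈ (PC : Subgroup C) := by
        rw [hPC', mem_subgroupOf]
        obtain ⟨u, -, e⟩ := hk
        exact (show (u : G) = k from e) ▸ u.2
      have := congrArg Subtype.val ((inferInstance : IsMulCommutative (PC : Subgroup C)).is_comm.comm
        ⟨p, hp⟩ ⟨k, hkP⟩)
      exact mul_inv_eq_iff_eq_mul.2 this
    have hkN : k * n⁻¹ * k⁻¹ ∈ N := hN.conj_mem _ (inv_mem hn) k
    have hpn : p * n' * p⁻¹ ∈ N := hN.conj_mem _ hn' p
    refine (Coprime.mem_sup_iff (fun g _ => by rw [normalizer_eq_top_iff.2 hN]; exact mem_top g)).2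
      ⟨n * (p * n' * p⁻¹) * (k * n⁻¹ * k⁻¹), mul_mem (mul_mem hn hpn) hkN, k, hk, ?_⟩
    calc n * (p * n' * p⁻¹) * (k * n⁻¹ * k⁻¹) * k = n * (p * n' * p⁻¹) * k * n⁻¹ := by group
      _ = n * (p * n' * p⁻¹) * (p * k * p⁻¹) * n⁻¹ := by rw [hpk]
      _ = _ := by group
  refine ⟨D.map C.subtype, map_subtype_le _, fun c hc => ?_, fun p => ⟨?_, fun h => ?_⟩, fun c hc => ?_⟩
  · refine mem_normalizer_iff.2 fun x => ⟨?_, ?_⟩
    · rintro ⟨d, hd, rfl⟩
      exact ⟨⟨c, hc⟩ * d * ⟨c, hc⟩⁻¹, hD.conj_mem d hd _, rfl⟩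
    · rintro ⟨d, hd, e⟩
      exact ⟨(⟨c, hc⟩ : C)⁻¹ * d * ⟨c, hc⟩, by simpa using hD.conj_mem d hd (⟨c, hc⟩ : C)⁻¹,
        by simp at e; simp [e, mul_assoc]⟩
  · rintro ⟨d, hd, e⟩
    obtain ⟨n, hn, k, hk, rfl⟩ :=
      (Coprime.mem_sup_iff (fun g _ => by rw [normalizer_eq_top_iff.2 hN]; exact mem_top g)).1 hd
    obtain ⟨u, hu, hue⟩ := hk
    have hu' : χ u = 1 := hu
    have hn' : (n : G) = (p : G) * (u : G)⁻¹ := by
      have e' : (n : G) * (k : G) = p := e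
      rw [← e', show (u : G) = k from hue, mul_inv_cancel_right]
    have := hNχ (p * u⁻¹) (by convert hn using 1; exact Subtype.ext hn'.symm)
    rwa [map_mul, map_inv, hu', inv_one, mul_one] at this
  · exact ⟨⟨p, hPC p.2⟩, mem_sup_right (mem_subgroupOf.2 ⟨p, h, rfl⟩), rfl⟩
  · obtain ⟨n, hn, p, hp, e⟩ := hdecomp ⟨c, hc⟩
    refine ⟨(p : G), mem_subgroupOf.1 (hPC' ▸ hp), (p : G)⁻¹ * n * p, ?_, ?_⟩
    · exact ⟨p⁻¹ * n * p, mem_sup_left (by simpa using hN.conj_mem _ hn p⁻¹), rfl⟩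
    · rw [show c = (n : G) * p from (congrArg Subtype.val e).symm]
      group

/-- `P` is a Sylow subgroup of `C`, self-centralizing modulo `Z`. -/
structure Loc (C P Z : Subgroup G) : Prop where
  PC : P ≤ C
  comm : IsMulCommutative P
  exp : ∀ p ∈ P, p ^ 3 = 1
  noncyc : ¬ IsCyclic P
  idx : ¬ 3 ∣ (P.subgroupOf C).index
  ZC : Z ≤ C
  Znorm : C ≤ normalizer (Z : Set G)
  Zcent : ∀ z ∈ Z, ∀ p ∈ P, z * p = p * z
  Zcop : (Nat.card Z).Coprime 3
  self : ∀ g ∈ C, g ∈ centralizer (P : Set G) → ∃ p ∈ P, ∃ z ∈ Z, g = p * z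
  sig : Sig P C Z

variable {C P Z : Subgroup G}

theorem Loc.isPGroup (h : Loc C P Z) : IsPGroup 3 P := fun p =>
  ⟨1, Subtype.ext (by simpa using h.exp p p.2)⟩

/-- `P Z`. -/
theorem Loc.mem_normalizer_sup (h : Loc C P Z) {g : G} (hg : g ∈ C)
    (hgP : ∀ p ∈ P, ∃ p' ∈ P, ∃ z ∈ Z, g * p * g⁻¹ = p' * z) : g ∈ normalizer (P : Set G) := by
  have hf : ∀ p ∈ P, g * p * g⁻¹ ∈ P := by
    intro p hp
    obtain ⟨p', hp', z, hz, e⟩ := hgP p hp
    have h3 : (p' * z) ^ 3 = 1 := by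
      rw [← e, conj_pow, h.exp p hp, mul_one, mul_inv_cancel]
    rw [e, eq_of_cube h.exp h.Zcent h.Zcop hp' hz h3, mul_one]
    exact hp'
  refine mem_normalizer_iff_map_conj_eq.2 (Subgroup.eq_of_le_of_card_ge ?_ ?_)
  · rintro _ ⟨p, hp, rfl⟩; exact hf p hp
  · rw [Subgroup.card_map_of_injective (MulAut.conj g).injective]

theorem Loc.quotient (h : Loc C P Z) :
    ∃ (K : Type u) (_ : Group K) (_ : Finite K) (f : C →* K) (T : Sylow 3 K),
      Function.Surjective f ∧ (∀ c : C, f c = 1 ↔ (c : G) ∈ Z) ∧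
      (∀ c : C, f c ∈ (T : Subgroup K) ↔ ∃ p ∈ P, ∃ z ∈ Z, (c : G) = p * z) ∧
      IsMulCommutative (T : Subgroup K) ∧ (∀ x ∈ (T : Subgroup K), x ^ 3 = 1) ∧
      ¬ IsCyclic (T : Subgroup K) ∧
      Subgroup.centralizer ((T : Subgroup K) : Set K) = T ∧ Cfsg.pPrimeCore 3 K = ⊥ ∧
      (∀ c : C, f c ∈ normalizer ((T : Subgroup K) : Set K) ↔ (c : G) ∈ normalizer (P : Set G)) ∧
      Nat.card (T : Subgroup K) = Nat.card P := by
  have h3p : Fact (Nat.Prime 3) := ⟨Nat.prime_three⟩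
  haveI hn : (Z.subgroupOf C).Normal := normal_subgroupOf_of_le_normalizer h.Znorm
  let f := QuotientGroup.mk' (Z.subgroupOf C)
  have hker : ∀ c : C, f c = 1 ↔ (c : G) ∈ Z := fun c =>
    (QuotientGroup.eq_one_iff c).trans mem_subgroupOf
  let PC : Sylow 3 C := (h.isPGroup.comap_subtype (K := C)).toSylow h.idx
  let T : Sylow 3 (C ⧸ Z.subgroupOf C) := PC.mapSurjective (f := f) (QuotientGroup.mk'_surjective _)
  have hTcoe : (T : Set (C ⧸ Z.subgroupOf C)) = ((T : Subgroup (C ⧸ Z.subgroupOf C)) : Set _) := rfl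
  have hT : ∀ x, x ∈ (T : Subgroup _) ↔ ∃ p : C, (p : G) ∈ P ∧ f p = x := fun x => Iff.rfl
  have hTf : ∀ c : C, f c ∈ (T : Subgroup _) ↔ ∃ p ∈ P, ∃ z ∈ Z, (c : G) = p * z := by
    intro c
    rw [hT]
    constructor
    · rintro ⟨p, hp, e⟩
      refine ⟨p, hp, (p : G)⁻¹ * c, ?_, by group⟩
      have h1 : f (p⁻¹ * c) = 1 := by rw [map_mul, map_inv, e, inv_mul_cancel]
      exact (hker _).1 h1
    · rintro ⟨p, hp, z, hz, e⟩
      refine ⟨⟨p, h.PC hp⟩, hp, ?_⟩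
      rw [show c = ⟨p, h.PC hp⟩ * ⟨z, h.ZC hz⟩ from Subtype.ext e, map_mul, (hker ⟨z, h.ZC hz⟩).2 hz,
        mul_one]
  have hinj : ∀ p q : C, (p : G) ∈ P → (q : G) ∈ P → f p = f q → p = q := by
    intro p q hp hq e
    have h1 : (p : G)⁻¹ * q ∈ Z := (hker (p⁻¹ * q)).1 (by rw [map_mul, map_inv, e, inv_mul_cancel])
    have h2 := eq_of_cube h.exp h.Zcent h.Zcop (one_mem P) h1 (by
      rw [one_mul]; exact h.exp _ (mul_mem (inv_mem hp) hq))
    exact Subtype.ext (inv_mul_eq_one.1 h2)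
  have hcard : Nat.card (T : Subgroup (C ⧸ Z.subgroupOf C)) = Nat.card P := by
    refine (Nat.card_congr (Equiv.ofBijective
      (fun p : P => (⟨f ⟨p, h.PC p.2⟩, (hT _).2 ⟨_, p.2, rfl⟩⟩ : (T : Subgroup _))) ⟨?_, ?_⟩)).symm
    · intro p q e
      exact Subtype.ext (congrArg (fun u : C => (u : G))
        (hinj ⟨p, h.PC p.2⟩ ⟨q, h.PC q.2⟩ p.2 q.2 (congrArg Subtype.val e)))
    · rintro ⟨x, hx⟩
      obtain ⟨p, hp, e⟩ := (hT x).1 hx
      exact ⟨⟨p, hp⟩, Subtype.ext e⟩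
  have hnorm : ∀ c : C, f c ∈ normalizer ((T : Subgroup (C ⧸ Z.subgroupOf C)) : Set (C ⧸ Z.subgroupOf C)) ↔
      (c : G) ∈ normalizer (P : Set G) := by
    intro c
    constructor
    · intro hc
      refine h.mem_normalizer_sup c.2 fun p hp => ?_
      exact (hTf (c * ⟨p, h.PC hp⟩ * c⁻¹)).1 (by
        rw [map_mul, map_mul, map_inv]
        exact (mem_normalizer_iff.1 hc _).1 ((hT _).2 ⟨_, hp, rfl⟩))
    · intro hc
      refine mem_normalizer_iff_map_conj_eq.2 (Subgroup.eq_of_le_of_card_ge ?_ ?_)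
      · rintro _ ⟨x, hx, rfl⟩
        obtain ⟨p, hp, rfl⟩ := (hT x).1 hx
        refine (hT _).2 ⟨c * p * c⁻¹, (mem_normalizer_iff.1 hc _).1 hp, ?_⟩
        simp
      · rw [Subgroup.card_map_of_injective (MulAut.conj (f c)).injective]
  refine ⟨C ⧸ Z.subgroupOf C, inferInstance, inferInstance, f, T, QuotientGroup.mk'_surjective _,
    hker, hTf, ?_, ?_, ?_, ?_, ?_, hnorm, hcard⟩
  · refine ⟨⟨fun a b => ?_⟩⟩
    obtain ⟨p, hp, ea⟩ := (hT _).1 a.2
    obtain ⟨q, hq, eb⟩ := (hT _).1 b.2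
    refine Subtype.ext ?_
    show (a : C ⧸ Z.subgroupOf C) * b = b * a
    rw [← ea, ← eb, ← map_mul, ← map_mul]
    exact congrArg f (Subtype.ext (congrArg Subtype.val (h.comm.is_comm.comm ⟨p, hp⟩ ⟨q, hq⟩) :))
  · intro x hx
    obtain ⟨p, hp, rfl⟩ := (hT x).1 hx
    rw [← map_pow, show p ^ 3 = 1 from Subtype.ext (by simpa using h.exp _ hp), map_one]
  · intro hcyc
    refine h.noncyc ?_
    obtain ⟨g, hg⟩ := hcyc.exists_generator
    obtain ⟨p, hp, ep⟩ := (hT _).1 g.2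
    refine ⟨⟨⟨p, hp⟩, fun q => ?_⟩⟩
    obtain ⟨i, hi⟩ := mem_zpowers_iff.1 (hg ⟨f ⟨q, h.PC q.2⟩, (hT _).2 ⟨_, q.2, rfl⟩⟩)
    refine mem_zpowers_iff.2 ⟨i, Subtype.ext ?_⟩
    have h1 : f (p ^ i) = f ⟨q, h.PC q.2⟩ := by
      have := congrArg Subtype.val hi
      rw [map_zpow, ep]
      simpa using this
    have := congrArg Subtype.val (hinj (p ^ i) _ (by simpa using zpow_mem hp i) q.2 h1)
    simpa using this
  · refine le_antisymm (fun x hx => ?_) (fun x hx y hy => ?_)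
    · obtain ⟨c, rfl⟩ := QuotientGroup.mk'_surjective _ x
      refine (hTf c).2 ?_
      have hcN : (c : G) ∈ normalizer (P : Set G) := by
        refine (hnorm c).1 (mem_normalizer_iff.2 fun u => ⟨fun hu => ?_, fun hu => ?_⟩)
        · rwa [← hx u hu, mul_inv_cancel_right]
        · have e : f c * u * (f c)⁻¹ * f c = f c * (f c * u * (f c)⁻¹) := hx _ hu
          have : u = f c * u * (f c)⁻¹ := by
            calc u = (f c)⁻¹ * (f c * u * (f c)⁻¹ * f c) := by group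
              _ = (f c)⁻¹ * (f c * (f c * u * (f c)⁻¹)) := by rw [e]
              _ = _ := by group
          rwa [this]
      refine h.self c c.2 fun p hp => ?_
      have hp' : (c : G) * p * (c : G)⁻¹ ∈ P := (mem_normalizer_iff.1 hcN p).1 hp
      have := hinj (c * ⟨p, h.PC hp⟩ * c⁻¹) ⟨p, h.PC hp⟩ hp' hp (by
        rw [map_mul, map_mul, map_inv, ← hx (f ⟨p, h.PC hp⟩) ((hT _).2 ⟨_, hp, rfl⟩),
          mul_inv_cancel_right])
      exact (mul_inv_eq_iff_eq_mul.1 (congrArg Subtype.val this :)).symm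
    · obtain ⟨p, hp, rfl⟩ := (hT x).1 hx
      obtain ⟨q, hq, rfl⟩ := (hT y).1 hy
      rw [← map_mul, ← map_mul]
      exact congrArg f (Subtype.ext (congrArg Subtype.val (h.comm.is_comm.comm ⟨q, hq⟩ ⟨p, hp⟩) :))
  · set O := Cfsg.pPrimeCore 3 (C ⧸ Z.subgroupOf C)
    haveI : O.Normal := inferInstance
    have hle := h.sig ((O.comap f).map C.subtype) (map_subtype_le _) ?_ ?_
    · refine (eq_bot_iff_forall _).2 fun x hx => ?_
      obtain ⟨c, rfl⟩ := QuotientGroup.mk'_surjective _ x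
      exact (hker c).2 (hle ⟨c, hx, rfl⟩)
    · intro p hp
      have hn' : (O.comap f).Normal := inferInstance
      refine mem_normalizer_iff.2 fun x => ⟨?_, ?_⟩
      · rintro ⟨d, hd, rfl⟩
        exact ⟨⟨p, h.PC hp⟩ * d * ⟨p, h.PC hp⟩⁻¹, hn'.conj_mem d hd _, rfl⟩
      · rintro ⟨d, hd, e⟩
        exact ⟨(⟨p, h.PC hp⟩ : C)⁻¹ * d * ⟨p, h.PC hp⟩, by
          simpa using hn'.conj_mem d hd (⟨p, h.PC hp⟩ : C)⁻¹, by simp at e; simp [e, mul_assoc]⟩
    · rw [Cores.card_map_subtype]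
      have h1 := QuotientGroup.card_preimage_mk (Z.subgroupOf C) (O : Set (C ⧸ Z.subgroupOf C))
      rw [show Nat.card (O.comap f) = Nat.card (Z.subgroupOf C) * Nat.card O from h1,
        Cores.card_subgroupOf h.ZC]
      exact Nat.Coprime.mul_left h.Zcop (Cores.coprime_card_pPrimeCore 3)

theorem normal_of_pLength {K : Type*} [Group K] [Finite K] {T : Sylow 3 K}
    (hcore : Cfsg.pPrimeCore 3 K = ⊥) (hp : Cfsg.PLengthLE 3 1 K) : (T : Subgroup K).Normal := by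
  have : Fact (Nat.Prime 3) := ⟨Nat.prime_three⟩
  haveI := Cores.pCore_normal 3 K
  have h0 := HallHigman.pLengthLE_zero_iff.1
    (HallHigman.pLengthLE_quotient_pCore (k := 0) hcore hp)
  have hcop : (Nat.card (K ⧸ Cfsg.pCore 3 K)).Coprime 3 := by
    have := Cores.coprime_card_pPrimeCore (G := K ⧸ Cfsg.pCore 3 K) 3
    rwa [h0, Subgroup.card_top] at this
  have hle := Cores.pCore_le_sylow T
  have e : Cfsg.pCore 3 K = (T : Subgroup K) := by
    refine Subgroup.eq_of_le_of_card_ge hle (Nat.le_of_dvd Nat.card_pos ?_)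
    have h1 : Nat.card (T : Subgroup K) ∣ Nat.card (Cfsg.pCore 3 K) * (Cfsg.pCore 3 K).index :=
      (Subgroup.card_mul_index (Cfsg.pCore 3 K)).symm ▸ Subgroup.card_subgroup_dvd_card (T : Subgroup K)
    refine (Nat.Coprime.dvd_of_dvd_mul_right ?_ h1)
    rw [T.card_eq_multiplicity, Subgroup.index_eq_card]
    exact (Nat.Coprime.pow_right _ hcop).symm
  exact e ▸ inferInstance

/-- An element of `N(P)` inverts `P` and generates `N(P)` with `P Z`. -/
theorem Loc.le_normalizer_inverted (h : Loc C P Z) {t : G} (ht : t ∈ C)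
    (htp : ∀ p ∈ P, t * p * t⁻¹ = p⁻¹) (ht2 : t * t = 1)
    (hN : ∀ n ∈ C, n ∈ normalizer (P : Set G) →
      (∃ p ∈ P, ∃ z ∈ Z, n = p * z) ∨ ∃ p ∈ P, ∃ z ∈ Z, n * t = p * z) :
    C ≤ normalizer (P : Set G) := by
  have h3p : Fact (Nat.Prime 3) := ⟨Nat.prime_three⟩
  obtain ⟨K, _, _, f, T, hsurj, hker, hTf, hTc, hTe, hTn, hTself, hcore, hTN, -⟩ := h.quotient
  suffices (T : Subgroup K).Normal by
    intro c hc
    exact (hTN ⟨c, hc⟩).1 (by rw [normalizer_eq_top_iff.2 this]; exact mem_top _)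
  have htN : t ∈ normalizer (P : Set G) := h.mem_normalizer_sup ht fun p hp =>
    ⟨p⁻¹, inv_mem hp, 1, one_mem Z, by rw [htp p hp, mul_one]⟩
  set τ := f ⟨t, ht⟩ with hτdef
  have hτ : ∀ x ∈ (T : Subgroup K), τ * x * τ⁻¹ = x⁻¹ := by
    intro x hx
    obtain ⟨c, rfl⟩ := hsurj x
    obtain ⟨p, hp, z, hz, e⟩ := (hTf c).1 hx
    have ec : f c = f ⟨p, h.PC hp⟩ := by
      rw [show c = ⟨p, h.PC hp⟩ * ⟨z, h.ZC hz⟩ from Subtype.ext e, map_mul,
        (hker ⟨z, h.ZC hz⟩).2 hz, mul_one]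
    rw [ec, ← map_inv, ← map_mul, ← map_mul, ← map_inv]
    exact congrArg f (Subtype.ext (by simpa using htp p hp))
  have hτ2 : τ * τ = 1 := by
    rw [hτdef, ← map_mul, show (⟨t, ht⟩ : C) * ⟨t, ht⟩ = 1 from Subtype.ext ht2, map_one]
  have hτN : τ ∈ normalizer ((T : Subgroup K) : Set K) := (hTN ⟨t, ht⟩).2 htN
  have hne : τ ∉ (T : Subgroup K) := by
    intro hm
    refine hTn ?_
    have : (T : Subgroup K) = ⊥ := (eq_bot_iff_forall _).2 fun x hx => by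
      have e := hτ x hx
      rw [show τ * x = x * τ from congrArg Subtype.val (hTc.is_comm.comm ⟨τ, hm⟩ ⟨x, hx⟩),
        mul_inv_cancel_right, eq_inv_iff_mul_eq_one] at e
      have e3 := hTe x hx
      rwa [pow_succ, pow_two, e, one_mul] at e3
    rw [this]; infer_instance
  have hidx : ((centralizer ((T : Subgroup K) : Set K)).subgroupOf
      (normalizer ((T : Subgroup K) : Set K))).index = 2 := by
    refine index_eq_two_iff.2 ⟨⟨τ, hτN⟩, fun b => ?_⟩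
    obtain ⟨n, hn⟩ := hsurj (b : K)
    have hnN : (n : G) ∈ normalizer (P : Set G) := (hTN n).1 (hn.symm ▸ b.2)
    simp only [Xor, mem_subgroupOf, hTself, Subgroup.coe_mul]
    rcases hN n n.2 hnN with hb | hb
    · have hbT : (b : K) ∈ (T : Subgroup K) := hn ▸ (hTf n).2 hb
      refine Or.inr ⟨hbT, fun hbt => hne ?_⟩
      simpa using mul_mem (inv_mem hbT) hbt
    · have hbT : (b : K) * τ ∈ (T : Subgroup K) := by
        rw [← hn, hτdef, ← map_mul]; exact (hTf (n * ⟨t, ht⟩)).2 hb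
      refine Or.inl ⟨hbT, fun hb' => hne ?_⟩
      simpa using mul_mem (inv_mem hb') hbT
  refine (S3347.result 3 (by norm_num) T hTc hTn hidx).elim (fun hR => (hR ?_).elim)
    (normal_of_pLength hcore)
  haveI := Transfer.pResidual_normal (p := 3) (G := K)
  set R := Cfsg.pResidual 3 K
  have hτR : τ ∈ R := Transfer.mem_pResidual_of_coprime (by
    have : orderOf τ ∣ 2 := orderOf_dvd_of_pow_eq_one (by rw [pow_two, hτ2])
    exact Nat.Coprime.coprime_dvd_left this (by norm_num))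
  have hTR : (T : Subgroup K) ≤ R := fun p hp => by
    have h1 : τ * p * τ⁻¹ * p⁻¹ ∈ R := by
      rw [mul_assoc, mul_assoc, ← mul_assoc p]
      exact R.mul_mem hτR (Subgroup.Normal.conj_mem inferInstance _ (R.inv_mem hτR) p)
    rw [hτ p hp] at h1
    have e : p = p⁻¹ * p⁻¹ := by
      rw [eq_comm, ← mul_inv_rev, inv_eq_iff_mul_eq_one]
      simpa [pow_succ] using hTe p hp
    rwa [← e] at h1
  obtain ⟨k, hk⟩ := Transfer.exists_index_pResidual (G := K) (p := 3)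
  refine Subgroup.index_eq_one.1 ?_
  have hd := Subgroup.index_dvd_of_le hTR
  rw [hk] at hd ⊢
  cases k with
  | zero => rfl
  | succ k => exact absurd ((dvd_pow_self 3 (Nat.succ_ne_zero k)).trans hd) T.not_dvd_index

/-- The automizer is a four group with small centralizers. -/
theorem Loc.le_normalizer_klein (h : Loc C P Z) (h9 : Nat.card P = 9) {s s' : G} (hs : s ∈ C)
    (hs' : s' ∈ C) (hsN : s ∈ normalizer (P : Set G)) (hsN' : s' ∈ normalizer (P : Set G))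
    (hne : ∀ p ∈ P, ∀ z ∈ Z, s ≠ p * z ∧ s' ≠ p * z ∧ s * s' ≠ p * z)
    (hsq : ∀ n ∈ C, n ∈ normalizer (P : Set G) → ∃ p ∈ P, ∃ z ∈ Z, n * n = p * z)
    (hN : ∀ n ∈ C, n ∈ normalizer (P : Set G) → (∃ p ∈ P, ∃ z ∈ Z, n = p * z) ∨
      (∃ p ∈ P, ∃ z ∈ Z, n = s * (p * z)) ∨ (∃ p ∈ P, ∃ z ∈ Z, n = s' * (p * z)) ∨
      ∃ p ∈ P, ∃ z ∈ Z, n = s * s' * (p * z))
    (hcent : ∀ p ∈ P, p ≠ 1 → ∀ g ∈ C, g * p = p * g → g ∈ normalizer (P : Set G)) :
    C ≤ normalizer (P : Set G) := by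
  have h3p : Fact (Nat.Prime 3) := ⟨Nat.prime_three⟩
  obtain ⟨K, _, _, f, T, hsurj, hker, hTf, hTc, hTe, hTn, hTself, hcore, hTN, hTcard⟩ := h.quotient
  suffices normalizer ((T : Subgroup K) : Set K) = ⊤ by
    intro c hc
    exact (hTN ⟨c, hc⟩).1 (this ▸ mem_top _)
  set N := normalizer ((T : Subgroup K) : Set K)
  haveI : ((T : Subgroup K).subgroupOf N).Normal := normal_subgroupOf_of_le_normalizer le_rfl
  have hT1 : ∀ x : K, x ∈ (T : Subgroup K) → ∃ p, ∃ hp : p ∈ P, f ⟨p, h.PC hp⟩ = x := by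
    intro x hx
    obtain ⟨c, rfl⟩ := hsurj x
    obtain ⟨p, hp, z, hz, e⟩ := (hTf c).1 hx
    refine ⟨p, hp, ?_⟩
    rw [show c = ⟨p, h.PC hp⟩ * ⟨z, h.ZC hz⟩ from Subtype.ext e, map_mul,
      (hker ⟨z, h.ZC hz⟩).2 hz, mul_one]
  set q := QuotientGroup.mk' ((T : Subgroup K).subgroupOf N)
  have hq : ∀ n : N, q n = 1 ↔ (n : K) ∈ (T : Subgroup K) := fun n =>
    (QuotientGroup.eq_one_iff n).trans mem_subgroupOf
  have hexp2 : ∀ n : N, q n * q n = 1 := by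
    intro n
    obtain ⟨c, hc⟩ := hsurj (n : K)
    rw [← map_mul, hq, Subgroup.coe_mul, ← hc, ← map_mul]
    exact (hTf (c * c)).2 (hsq c c.2 ((hTN c).1 (hc.symm ▸ n.2)))
  have hK : IsKleinFour (N ⧸ (T : Subgroup K).subgroupOf N) := by
    let a : N := ⟨f ⟨s, hs⟩, (hTN _).2 hsN⟩
    let b : N := ⟨f ⟨s', hs'⟩, (hTN _).2 hsN'⟩
    have hnot : q a ≠ 1 ∧ q b ≠ 1 ∧ q (a * b) ≠ 1 := by
      refine ⟨fun e => ?_, fun e => ?_, fun e => ?_⟩
      · obtain ⟨p, hp, z, hz, e'⟩ := (hTf _).1 ((hq a).1 e)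
        exact (hne p hp z hz).1 e'
      · obtain ⟨p, hp, z, hz, e'⟩ := (hTf _).1 ((hq b).1 e)
        exact (hne p hp z hz).2.1 e'
      · have e1 := (hq _).1 e
        rw [Subgroup.coe_mul, ← map_mul] at e1
        obtain ⟨p, hp, z, hz, e'⟩ := (hTf _).1 e1
        exact (hne p hp z hz).2.2 e'
    have hinv : ∀ x, x * x = 1 → ∀ y : N ⧸ (T : Subgroup K).subgroupOf N, x * y = 1 → y = x :=
      fun x hx y hy => (mul_left_cancel (hy.trans hx.symm))
    have hab : q a ≠ q b := fun e => hnot.2.2 (by rw [map_mul, e, hexp2])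
    have hall : ∀ x, x = 1 ∨ x = q a ∨ x = q b ∨ x = q (a * b) := by
      intro x
      obtain ⟨n, rfl⟩ := QuotientGroup.mk'_surjective _ x
      obtain ⟨c, hc⟩ := hsurj (n : K)
      have hcN : (c : G) ∈ normalizer (P : Set G) := (hTN c).1 (hc.symm ▸ n.2)
      have key : ∀ m : N, ∀ d : C, f d = (m : K) → (∃ p ∈ P, ∃ z ∈ Z, (c : G) = d * (p * z)) →
          q n = q m := by
        rintro m d hd ⟨p, hp, z, hz, e⟩
        have : (n : K) = m * f (⟨p, h.PC hp⟩ * ⟨z, h.ZC hz⟩) := by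
          rw [← hc, ← hd, ← map_mul]; exact congrArg f (Subtype.ext e)
        have hmem : f (⟨p, h.PC hp⟩ * ⟨z, h.ZC hz⟩) ∈ (T : Subgroup K) :=
          (hTf _).2 ⟨p, hp, z, hz, rfl⟩
        rw [show n = m * ⟨_, le_normalizer hmem⟩ from Subtype.ext this, map_mul,
          (hq ⟨_, le_normalizer hmem⟩).2 hmem, mul_one]
      rcases hN c c.2 hcN with hh | hh | hh | hh
      · exact Or.inl ((hq n).2 (hc ▸ (hTf c).2 hh))
      · exact Or.inr (Or.inl (key a ⟨s, hs⟩ rfl hh))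
      · exact Or.inr (Or.inr (Or.inl (key b ⟨s', hs'⟩ rfl hh)))
      · exact Or.inr (Or.inr (Or.inr (key (a * b) (⟨s, hs⟩ * ⟨s', hs'⟩) (map_mul f _ _) hh)))
    refine ⟨?_, ?_⟩
    · refine (Nat.card_congr (Equiv.ofBijective ![1, q a, q b, q (a * b)] ⟨?_, ?_⟩)).symm.trans
        (Nat.card_fin 4)
      · intro i j hij
        have h1 : q a ≠ q (a * b) := fun e => hnot.2.1 (mul_eq_left.1 ((map_mul q a b).symm.trans e.symm))
        have h2 : q b ≠ q (a * b) := fun e => hnot.1 (mul_eq_right.1 ((map_mul q a b).symm.trans e.symm))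
        have h3 : q a * q b ≠ 1 := map_mul q a b ▸ hnot.2.2
        fin_cases i <;> fin_cases j <;>
          simp [hnot.1, hnot.2.1, hnot.2.2, hab, hab.symm, h1, h1.symm, h2, h2.symm,
            Ne.symm hnot.1, Ne.symm hnot.2.1, Ne.symm hnot.2.2, h3, Ne.symm h3] at hij ⊢
      · intro x
        rcases hall x with rfl | rfl | rfl | rfl
        exacts [⟨0, rfl⟩, ⟨1, rfl⟩, ⟨2, rfl⟩, ⟨3, rfl⟩]
    · haveI : Nontrivial (N ⧸ (T : Subgroup K).subgroupOf N) := ⟨⟨q a, 1, hnot.1⟩⟩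
      refine Monoid.exponent_eq_prime_iff Nat.prime_two |>.2 ?_
      intro x hx
      refine orderOf_eq_prime ?_ hx
      obtain ⟨n, rfl⟩ := QuotientGroup.mk'_surjective _ x
      rw [pow_two]; exact hexp2 n
  refine NineSylow.normalizer_eq_top_of_klein T ⟨hTc, hTe⟩ (hTcard.trans h9) hTself hK ?_
  intro x hx hx1 g hg
  obtain ⟨p, hp, rfl⟩ := hT1 x hx
  obtain ⟨c, rfl⟩ := hsurj g
  refine (hTN c).2 (hcent p hp (fun e => hx1 (by subst e; exact map_one f)) c c.2 ?_)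
  have hc := mem_centralizer_singleton_iff.1 hg
  have h1 : ((c : G) * p * (c : G)⁻¹) * p⁻¹ ∈ Z := (hker (c * ⟨p, h.PC hp⟩ * c⁻¹ * ⟨p, h.PC hp⟩⁻¹)).1 (by
    rw [map_mul, map_mul, map_mul, map_inv, map_inv, hc, mul_inv_cancel_right, mul_inv_cancel])
  set z := ((c : G) * p * (c : G)⁻¹) * p⁻¹ with hzdef
  have e : (c : G) * p * (c : G)⁻¹ = p * z := by
    rw [← h.Zcent z h1 p hp, hzdef, inv_mul_cancel_right]
  have hz1 := eq_of_cube h.exp h.Zcent h.Zcop hp h1 (by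
    rw [← e, conj_pow, h.exp p hp, mul_one, mul_inv_cancel])
  rw [hz1, mul_one] at e
  exact mul_inv_eq_iff_eq_mul.1 e

end Cfsg.Agent.SymNineThree
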