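import Cfsg.Agent.Lib.SymNineThree.Model

/-!
# A monomial frame for a group containing the permutations

* `Act W`: a group of linear maps containing the permutation matrices, these being the stabilizer of `(1,1,1)`
* `Act.exists_frame`: it is monomial in one of the three frames fixed by the permutations
-/

set_option autoImplicit false
set_option synthInstance.maxSize 8000
set_option synthInstance.maxHeartbeats 200000

namespace Cfsg.Agent.SymNineThree

open ThreeCubedSymFour (V3)

/-- The automorphism fixing the point of the block sum and commuting with permutations. -/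
def shear (β : ZMod 3) (v : V3) : V3 :=
  let k := β * (v.1 + v.2.1 + v.2.2)
  (v.1 + k, v.2.1 + k, v.2.2 + k)

theorem shear_shear : ∀ β v, shear (-β) (shear β v) = v := by decide +kernel

theorem shear_shear' : ∀ β v, shear β (shear (-β) v) = v := by decide +kernel

theorem shear_add : ∀ β v w, shear β (v + w) = shear β v + shear β w := by decide +kernel

theorem shear_ones : ∀ β, shear β ones = ones := by decide +kernel

theorem shear_perm : ∀ β r w v, shear β (act (Mon.perm r w) v) = act (Mon.perm r w) (shear β v) := by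
  decide +kernel

/-- The shear as an additive map. -/
def shearAdd (β : ZMod 3) : V3 →+ V3 := AddMonoidHom.mk' (shear β) (shear_add β)

/-- The scalar product. -/
def dot (φ v : V3) : ZMod 3 := φ.1 * v.1 + φ.2.1 * v.2.1 + φ.2.2 * v.2.2

/-- A transvection-like map `v + (φ v) d`. -/
def refl (φ d v : V3) : V3 :=
  let k := dot φ v
  (v.1 + k * d.1, v.2.1 + k * d.2.1, v.2.2 + k * d.2.2)

theorem smul_eq : ∀ (k : ZMod 3) (v d : V3),
    (v.1 + k * d.1, v.2.1 + k * d.2.1, v.2.2 + k * d.2.2) = v + k.val • d := by decide +kernel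

theorem refl_eq (φ d v : V3) : refl φ d v = v + (dot φ v).val • d := smul_eq _ _ _

theorem refl_basis : ∀ φ d : V3, refl φ d (1, 0, 0) = (1, 0, 0) + φ.1.val • d ∧
    refl φ d (0, 1, 0) = (0, 1, 0) + φ.2.1.val • d ∧ refl φ d (0, 0, 1) = (0, 0, 1) + φ.2.2.val • d := by
  decide +kernel

theorem dot_add (φ v w : V3) : dot φ (v + w) = dot φ v + dot φ w := by
  simp only [dot, Prod.fst_add, Prod.snd_add]; ring

theorem refl_add (φ d v w : V3) : refl φ d (v + w) = refl φ d v + refl φ d w := by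
  simp only [refl, dot_add, Prod.fst_add, Prod.snd_add, Prod.mk_add_mk]
  refine Prod.ext ?_ (Prod.ext ?_ ?_) <;> dsimp <;> ring

/-- `refl` as an additive map. -/
def reflAdd (φ d : V3) : V3 →+ V3 := AddMonoidHom.mk' (refl φ d) (refl_add φ d)

/-- The map is a permutation of the coordinates. -/
def IsPerm (z : V3 → V3) : Prop :=
  ∃ r : ZMod 3, ∃ w : Bool, z (1, 0, 0) = act (Mon.perm r w) (1, 0, 0) ∧
    z (0, 1, 0) = act (Mon.perm r w) (0, 1, 0) ∧ z (0, 0, 1) = act (Mon.perm r w) (0, 0, 1)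

/-- A vector of the frame up to sign. -/
def Unit' (v : V3) : Prop :=
  v = (1, 0, 0) ∨ v = (0, 1, 0) ∨ v = (0, 0, 1) ∨ v = (2, 0, 0) ∨ v = (0, 2, 0) ∨ v = (0, 0, 2)

/-- The map is monomial in the frame `β`. -/
def InFrame (β : ZMod 3) (z : V3 → V3) : Prop :=
  Unit' (shear (-β) (z (shear β (1, 0, 0)))) ∧ Unit' (shear (-β) (z (shear β (0, 1, 0)))) ∧
    Unit' (shear (-β) (z (shear β (0, 0, 1))))

/-- The map fixes the block sum and is no permutation. -/
def Bad (z : V3 → V3) : Prop := z ones = ones ∧ ¬ IsPerm z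

/-- The sign vectors. -/
def Cube (v : V3) : Prop := v.1 ≠ 0 ∧ v.2.1 ≠ 0 ∧ v.2.2 ≠ 0

instance instDecIsPerm (z : V3 → V3) : Decidable (IsPerm z) := by unfold IsPerm; infer_instance
instance instDecUnit' (v : V3) : Decidable (Unit' v) := by unfold Unit'; infer_instance
instance instDecInFrame (β : ZMod 3) (z : V3 → V3) : Decidable (InFrame β z) := by
  unfold InFrame; infer_instance
instance instDecBad (z : V3 → V3) : Decidable (Bad z) := by unfold Bad; infer_instance
instance instDecCube (v : V3) : Decidable (Cube v) := by unfold Cube; infer_instance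

/-- The third iterate. -/
def thrice (z : V3 → V3) (v : V3) : V3 := z (z (z v))

/-- A product of a permutation and a map. -/
def step (p : ZMod 3 × Bool) (u : V3 → V3) : V3 → V3 := fun v => act (Mon.perm p.1 p.2) (u v)

theorem refl_cases : ∀ φ d : V3, dot φ d = 1 →
    IsPerm (refl φ d) ∨ (∃ β, InFrame β (refl φ d)) ∨
      (∃ p, Bad (step p (refl φ d))) ∨ (∃ p q, Bad (step p (refl φ d) ∘ step q (refl φ d))) ∨
      ∃ p q o, Bad (step p (refl φ d) ∘ step q (refl φ d) ∘ step o (refl φ d)) := by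
  decide +kernel

set_option maxRecDepth 4000 in
theorem pair_cases : ∀ φ d : V3, dot φ d = 1 → ¬ IsPerm (refl φ d) → ∀ β, InFrame β (refl φ d) →
    ∀ φ' d' : V3, dot φ' d' = 1 → InFrame β (refl φ' d') ∨ ¬ (∃ γ, InFrame γ (refl φ' d')) ∨
      (∃ p q o, Bad (step p (refl φ d) ∘ step q (refl φ' d') ∘ step o (refl φ d))) ∨
      ∃ p q o, Bad (step p (refl φ' d') ∘ step q (refl φ d) ∘ step o (refl φ' d')) := by
  decide +kernel

theorem perm_frame : ∀ φ d : V3, dot φ d = 1 → IsPerm (refl φ d) → ∀ β, InFrame β (refl φ d) := by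
  decide +kernel

theorem thrice_transp : ∀ v : V3,
    thrice (act (Mon.perm 0 true) ∘ act (Mon.perm 1 true)) v = v := by decide +kernel

theorem fixed_cube : ∀ β : ZMod 3, ∀ φ d : V3, dot φ d = 1 → InFrame β (refl φ d) →
    ∀ φ' d' : V3, dot φ' d' = 1 → InFrame β (refl φ' d') →
      (refl φ d (refl φ' d' (1, 0, 0)) ≠ refl φ' d' (refl φ d (1, 0, 0)) ∨
        refl φ d (refl φ' d' (0, 1, 0)) ≠ refl φ' d' (refl φ d (0, 1, 0)) ∨
        refl φ d (refl φ' d' (0, 0, 1)) ≠ refl φ' d' (refl φ d (0, 0, 1))) →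
      thrice (refl φ d ∘ refl φ' d') (1, 0, 0) = (1, 0, 0) →
      thrice (refl φ d ∘ refl φ' d') (0, 1, 0) = (0, 1, 0) →
      thrice (refl φ d ∘ refl φ' d') (0, 0, 1) = (0, 0, 1) →
      ∀ y : V3, y ≠ 0 → refl φ d y = y → refl φ' d' y = y → Cube (shear (-β) y) := by
  decide +kernel

theorem perm_fixed : ∀ y : V3, (∀ r, act (Mon.perm r true) y = y) →
    y = 0 ∨ y = ones ∨ y = -ones := by decide +kernel

theorem transp_refl : ∀ r : ZMod 3, ∃ φ d : V3, dot φ d = 1 ∧
    ∀ v, act (Mon.perm r true) v = refl φ d v := by decide +kernel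

theorem transp_noncomm : ∀ r : ZMod 3, r ≠ 0 →
    act (Mon.perm 0 true * Mon.perm r true) (1, 0, 0) ≠ act (Mon.perm r true * Mon.perm 0 true) (1, 0, 0) ∨
    act (Mon.perm 0 true * Mon.perm r true) (0, 1, 0) ≠ act (Mon.perm r true * Mon.perm 0 true) (0, 1, 0) := by
  decide +kernel

theorem refl_transp : ∀ φ d : V3, dot φ d = 1 → IsPerm (refl φ d) →
    ∃ r, refl φ d (1, 0, 0) = act (Mon.perm r true) (1, 0, 0) ∧
      refl φ d (0, 1, 0) = act (Mon.perm r true) (0, 1, 0) ∧
      refl φ d (0, 0, 1) = act (Mon.perm r true) (0, 0, 1) := by decide +kernel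

/-- The first block vector scaled. -/
def axisPoint (k : ZMod 3) : V3 := (k, -k, -k)

theorem moved_point : ∀ φ d : V3, dot φ d = 1 → ¬ IsPerm (refl φ d) → refl φ d ones ≠ ones →
    ∀ β, InFrame β (refl φ d) → ∃ k : ZMod 3, k ≠ 0 ∧ ∃ r : ZMod 3,
      act (Mon.perm r false) (shear (-β) (refl φ d ones)) = axisPoint k := by decide +kernel

/-- The orbit of four sign vectors. -/
def Four (k : ZMod 3) (v : V3) : Prop :=
  v = ones ∨ v = axisPoint k ∨ v = act rot (axisPoint k) ∨ v = act (rot * rot) (axisPoint k)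

instance instDecFour (k : ZMod 3) (v : V3) : Decidable (Four k v) := by unfold Four; infer_instance

theorem cube_or_neg : ∀ k : ZMod 3, k ≠ 0 → ∀ v : V3, Cube v → Four k v ∨ Four k (-v) := by
  decide +kernel

theorem four_cube : ∀ k : ZMod 3, k ≠ 0 → ∀ v : V3, Four k v → Cube v := by decide +kernel

/-- The linear map with given images of the basis. -/
def lin (f g h v : V3) : V3 := v.1.val • f + v.2.1.val • g + v.2.2.val • h

theorem eq_lin (z : V3 →+ V3) (v : V3) : z v = lin (z (1, 0, 0)) (z (0, 1, 0)) (z (0, 0, 1)) v := by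
  conv_lhs => rw [decomp v]
  simp only [lin, map_add, map_nsmul]

/-- The triple of three points is a frame up to sign. -/
def UnitTriple (f g h : V3) : Prop := Unit' f ∧ Unit' g ∧ Unit' h

instance instDecUnitTriple (f g h : V3) : Decidable (UnitTriple f g h) := by
  unfold UnitTriple; infer_instance

theorem negation_frame : ∀ f : V3, ∀ s r r' : ZMod 3, act (Mon.perm s true) f = f →
    f ≠ act (Mon.perm r true) f → f ≠ act (Mon.perm r' true) f →
    act (Mon.perm r true) f ≠ act (Mon.perm r' true) f →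
    f + act (Mon.perm r true) f + act (Mon.perm r' true) f = -ones →
    ¬ Bad (fun v => lin f (act (Mon.perm r true) f) (act (Mon.perm r' true) f)
      (lin f (act (Mon.perm r true) f) (act (Mon.perm r' true) f) v)) →
    UnitTriple f (act (Mon.perm r true) f) (act (Mon.perm r' true) f) := by decide +kernel

/-- The images of the basis computed from the images of an orbit of three. -/
def fromOrbit (k : ZMod 3) (a b c : V3) : V3 × V3 × V3 :=
  (k.val • (b + c), k.val • (c + a), k.val • (a + b))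

theorem orbit_basis : ∀ k : ZMod 3, k ≠ 0 →
    fromOrbit k (axisPoint k) (act rot (axisPoint k)) (act (rot * rot) (axisPoint k)) =
      ((1, 0, 0), (0, 1, 0), (0, 0, 1)) := by decide +kernel

/-- The linear map given by the images of an orbit of three. -/
def orbitMap (k : ZMod 3) (a b c v : V3) : V3 :=
  lin (fromOrbit k a b c).1 (fromOrbit k a b c).2.1 (fromOrbit k a b c).2.2 v

set_option maxRecDepth 4000 in
theorem four_frame : ∀ k : ZMod 3, k ≠ 0 → ∀ a : V3, Four k a → ∀ b : V3, Four k b → ∀ c : V3, Four k c →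
    Four k (orbitMap k a b c ones) →
    a ≠ b → b ≠ c → a ≠ c → (orbitMap k a b c ones ≠ a ∧
      orbitMap k a b c ones ≠ b ∧ orbitMap k a b c ones ≠ c) →
    UnitTriple (fromOrbit k a b c).1 (fromOrbit k a b c).2.1 (fromOrbit k a b c).2.2 := by decide +kernel

set_option maxRecDepth 4000 in
theorem cube_frame : ∀ k : ZMod 3, k ≠ 0 → ∀ a : V3, Cube a → ∀ b : V3, Cube b → ∀ c : V3, Cube c →
    (∀ v : V3, (Cube v → Cube (orbitMap k a b c v)) ∧ (orbitMap k a b c v = 0 → v = 0)) →
    UnitTriple (fromOrbit k a b c).1 (fromOrbit k a b c).2.1 (fromOrbit k a b c).2.2 := by decide +kernel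

/-- A group of linear maps containing the permutations. -/
structure Act (W : Set (V3 →+ V3)) : Prop where
  comp : ∀ g ∈ W, ∀ h ∈ W, g.comp h ∈ W
  inv : ∀ g ∈ W, ∃ h ∈ W, h.comp g = AddMonoidHom.id V3 ∧ g.comp h = AddMonoidHom.id V3
  perm : ∀ r w, actAdd (Mon.perm r w) ∈ W
  stab : ∀ g ∈ W, g ones = ones → ∃ r w, g = actAdd (Mon.perm r w)

/-- A function realized in `W`. -/
def InW (W : Set (V3 →+ V3)) (z : V3 → V3) : Prop := ∃ g ∈ W, ⇑g = z

variable {W : Set (V3 →+ V3)} (A : Act W)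
include A

theorem Act.inW_comp {y z : V3 → V3} (hy : InW W y) (hz : InW W z) : InW W (y ∘ z) := by
  obtain ⟨g, hg, rfl⟩ := hy
  obtain ⟨h, hh, rfl⟩ := hz
  exact ⟨g.comp h, A.comp g hg h hh, rfl⟩

theorem Act.inW_step {z : V3 → V3} (hz : InW W z) (p : ZMod 3 × Bool) : InW W (step p z) :=
  A.inW_comp ⟨_, A.perm p.1 p.2, rfl⟩ hz

theorem Act.not_bad {z : V3 → V3} (hz : InW W z) : ¬ Bad z := by
  rintro ⟨h1, h2⟩
  obtain ⟨g, hg, rfl⟩ := hz
  obtain ⟨r, w, rfl⟩ := A.stab g hg h1
  exact h2 ⟨r, w, rfl, rfl, rfl⟩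

theorem Act.injective {g : V3 →+ V3} (hg : g ∈ W) : Function.Injective g := by
  obtain ⟨h, -, e, -⟩ := A.inv g hg
  exact Function.LeftInverse.injective (g := h) fun v => DFunLike.congr_fun e v

/-- Conjugates of transpositions. -/
theorem Act.conj_refl {g h : V3 →+ V3} (hg : g ∈ W) (hh : h ∈ W) (e : g.comp h = AddMonoidHom.id V3)
    (e' : h.comp g = AddMonoidHom.id V3) (r : ZMod 3) : ∃ φ d : V3, dot φ d = 1 ∧
      (∀ v, g (act (Mon.perm r true) (h v)) = refl φ d v) ∧ InW W (refl φ d) := by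
  obtain ⟨φ₀, d₀, hd, hp⟩ := transp_refl r
  refine ⟨(dot φ₀ (h (1, 0, 0)), dot φ₀ (h (0, 1, 0)), dot φ₀ (h (0, 0, 1))), g d₀, ?_, ?_⟩
  · have key : ∀ v : V3, dot (dot φ₀ (h (1, 0, 0)), dot φ₀ (h (0, 1, 0)), dot φ₀ (h (0, 0, 1))) v =
        dot φ₀ (h v) := by
      intro v
      let L : V3 →+ ZMod 3 := (AddMonoidHom.mk' (dot φ₀) (dot_add φ₀)).comp h
      have : dot φ₀ (h v) = L v := rfl
      rw [this]
      conv_rhs => rw [decomp v]
      rw [map_add L, map_add L, map_nsmul L, map_nsmul L, map_nsmul L]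
      simp only [nsmul_eq_mul, ZMod.natCast_val, ZMod.cast_id', id]
      show _ = v.1 * dot φ₀ (h (1, 0, 0)) + v.2.1 * dot φ₀ (h (0, 1, 0)) + v.2.2 * dot φ₀ (h (0, 0, 1))
      simp only [dot]
      ring
    rw [key, show h (g d₀) = d₀ from DFunLike.congr_fun e' d₀, hd]
  · have hfun : ∀ v, g (act (Mon.perm r true) (h v)) =
        refl (dot φ₀ (h (1, 0, 0)), dot φ₀ (h (0, 1, 0)), dot φ₀ (h (0, 0, 1))) (g d₀) v := by
      have hb : ∀ u : V3, g (act (Mon.perm r true) (h u)) = u + (dot φ₀ (h u)).val • g d₀ := fun u => by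
        rw [hp, refl_eq, map_add, map_nsmul, show g (h u) = u from DFunLike.congr_fun e u]
      intro v
      refine DFunLike.congr_fun (addHom_ext (f := g.comp ((actAdd (Mon.perm r true)).comp h))
        (g := reflAdd _ _) ?_ ?_ ?_) v
      · exact (hb _).trans ((refl_basis (dot φ₀ (h (1, 0, 0)), dot φ₀ (h (0, 1, 0)), dot φ₀ (h (0, 0, 1))) (g d₀)).1).symm
      · exact (hb _).trans ((refl_basis (dot φ₀ (h (1, 0, 0)), dot φ₀ (h (0, 1, 0)), dot φ₀ (h (0, 0, 1))) (g d₀)).2.1).symm
      · exact (hb _).trans ((refl_basis (dot φ₀ (h (1, 0, 0)), dot φ₀ (h (0, 1, 0)), dot φ₀ (h (0, 0, 1))) (g d₀)).2.2).symm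
    exact ⟨hfun, ⟨_, A.comp g hg _ (A.comp _ (A.perm r true) h hh), funext hfun⟩⟩

theorem Act.refl_frame {φ d : V3} (hd : dot φ d = 1) (hu : InW W (refl φ d)) :
    IsPerm (refl φ d) ∨ ∃ β, InFrame β (refl φ d) := by
  rcases refl_cases φ d hd with h | h | ⟨p, h⟩ | ⟨p, q, h⟩ | ⟨p, q, o, h⟩
  · exact Or.inl h
  · exact Or.inr h
  · exact (A.not_bad (A.inW_step hu p) h).elim
  · exact (A.not_bad (A.inW_comp (A.inW_step hu p) (A.inW_step hu q)) h).elim
  · exact (A.not_bad (A.inW_comp (A.inW_step hu p) (A.inW_comp (A.inW_step hu q) (A.inW_step hu o))) h).elim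

theorem Act.frame_of_pm (hall : ∀ g ∈ W, g ones = ones ∨ g ones = -ones) {g : V3 →+ V3} (hg : g ∈ W) :
    UnitTriple (g (1, 0, 0)) (g (0, 1, 0)) (g (0, 0, 1)) := by
  rcases hall g hg with h1 | h1
  · obtain ⟨r, w, rfl⟩ := A.stab g hg h1
    clear * - r w; revert r w; decide +kernel
  obtain ⟨g', hg', e', e⟩ := A.inv g hg
  have hfix : ∀ r, ∃ s, ∀ v, g (act (Mon.perm r true) (g' v)) = act (Mon.perm s true) v := by
    intro r
    obtain ⟨φ, d, hd, hfun, hu⟩ := A.conj_refl hg hg' e e' r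
    have h2 : IsPerm (refl φ d) := by
      by_contra hp
      refine A.not_bad hu ⟨?_, hp⟩
      rw [← hfun]
      have e1 : g' (g ones) = ones := DFunLike.congr_fun e' ones
      rw [h1, map_neg, neg_eq_iff_eq_neg] at e1
      rw [e1, show act (Mon.perm r true) (-ones) = -ones by clear * - r; revert r; decide +kernel, map_neg, h1, neg_neg]
    obtain ⟨s, hs1, hs2, hs3⟩ := refl_transp φ d hd h2
    exact ⟨s, fun v => (hfun v).trans
      (DFunLike.congr_fun (addHom_ext (f := reflAdd φ d) (g := actAdd _) hs1 hs2 hs3) v)⟩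
  have hmove : ∀ r, ∃ s, ∀ v, g (act (Mon.perm r true) v) = act (Mon.perm s true) (g v) := fun r => by
    obtain ⟨s, hs⟩ := hfix r
    exact ⟨s, fun v => by rw [← hs (g v), show g' (g v) = v from DFunLike.congr_fun e' v]⟩
  obtain ⟨s, hs⟩ := hmove 0
  obtain ⟨r, hr⟩ := hmove 1
  obtain ⟨r', hr'⟩ := hmove 2
  set f := g (1, 0, 0)
  have hg2 : g (0, 1, 0) = act (Mon.perm r true) f := by
    rw [← hr, show act (Mon.perm 1 true) (1, 0, 0) = ((0, 1, 0) : V3) by decide +kernel]
  have hg3 : g (0, 0, 1) = act (Mon.perm r' true) f := by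
    rw [← hr', show act (Mon.perm 2 true) (1, 0, 0) = ((0, 0, 1) : V3) by decide +kernel]
  have hgl : ∀ v, g v = lin f (act (Mon.perm r true) f) (act (Mon.perm r' true) f) v := fun v => by
    rw [eq_lin g v, hg2, hg3]
  have inj := A.injective hg
  rw [hg2, hg3]
  refine negation_frame f s r r' ?_ ?_ ?_ ?_ ?_ ?_
  · rw [← hs, show act (Mon.perm 0 true) (1, 0, 0) = ((1, 0, 0) : V3) by decide +kernel]
  · rw [← hg2]; exact fun h => absurd (inj h) (by decide +kernel)
  · rw [← hg3]; exact fun h => absurd (inj h) (by decide +kernel)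
  · rw [← hg2, ← hg3]; exact fun h => absurd (inj h) (by decide +kernel)
  · rw [← hg2, ← hg3, ← map_add, ← map_add, ← h1]
    exact congrArg g (by decide +kernel)
  · rw [show (fun v => lin f (act (Mon.perm r true) f) (act (Mon.perm r' true) f)
      (lin f (act (Mon.perm r true) f) (act (Mon.perm r' true) f) v)) = ⇑(g.comp g) from
      funext fun v => by simp only [← hgl]; rfl]
    exact A.not_bad ⟨_, A.comp g hg g hg, rfl⟩

theorem Act.exists_frame : ∃ β : ZMod 3, ∀ g ∈ W, ∃ m : Mon, ∀ v, g (shear β v) = shear β (act m v) := by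
  have hmon : ∀ f g h : V3, UnitTriple f g h → f + g + h ≠ 0 → f ≠ g → f ≠ h → g ≠ h →
      f ≠ -g → f ≠ -h → g ≠ -h →
      ∃ m : Mon, act m (1, 0, 0) = f ∧ act m (0, 1, 0) = g ∧ act m (0, 0, 1) = h := by
    intro f g h ⟨hf, hg, hh⟩
    rcases hf with rfl | rfl | rfl | rfl | rfl | rfl <;>
    rcases hg with rfl | rfl | rfl | rfl | rfl | rfl <;>
    rcases hh with rfl | rfl | rfl | rfl | rfl | rfl <;> decide +kernel
  suffices ∃ β, ∀ g ∈ W, UnitTriple (shear (-β) (g (shear β (1, 0, 0))))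
      (shear (-β) (g (shear β (0, 1, 0)))) (shear (-β) (g (shear β (0, 0, 1)))) by
    obtain ⟨β, hβ⟩ := this
    refine ⟨β, fun g hg => ?_⟩
    set z : V3 →+ V3 := (shearAdd (-β)).comp (g.comp (shearAdd β)) with hz
    have hinj : Function.Injective z := fun a b h => by
      have h1 := congrArg (shear β) (show shear (-β) (g (shear β a)) = shear (-β) (g (shear β b)) from h)
      rw [shear_shear', shear_shear'] at h1
      have h2 := congrArg (shear (-β)) (A.injective hg h1)
      rwa [shear_shear, shear_shear] at h2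
    have ne : ∀ a b : V3, a ≠ b → z a ≠ z b := fun a b h e => h (hinj e)
    obtain ⟨m, m1, m2, m3⟩ := hmon _ _ _ (hβ g hg)
      (show z (1, 0, 0) + z (0, 1, 0) + z (0, 0, 1) ≠ 0 by
        rw [← map_add, ← map_add, ← map_zero z]; exact ne _ _ (by decide +kernel))
      (ne _ _ (by decide +kernel)) (ne _ _ (by decide +kernel)) (ne _ _ (by decide +kernel))
      (show z (1, 0, 0) ≠ -z (0, 1, 0) by rw [← map_neg]; exact ne _ _ (by decide +kernel))
      (show z (1, 0, 0) ≠ -z (0, 0, 1) by rw [← map_neg]; exact ne _ _ (by decide +kernel))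
      (show z (0, 1, 0) ≠ -z (0, 0, 1) by rw [← map_neg]; exact ne _ _ (by decide +kernel))
    refine ⟨m, fun v => ?_⟩
    have := DFunLike.congr_fun (addHom_ext (f := actAdd m) (g := z) m1 m2 m3) v
    rw [show act m v = shear (-β) (g (shear β v)) from this, shear_shear']
  by_cases hall : ∀ g ∈ W, g ones = ones ∨ g ones = -ones
  · refine ⟨0, fun g hg => ?_⟩
    have e0 : ∀ v, shear 0 v = v := by decide +kernel
    simp only [neg_zero, e0]
    exact A.frame_of_pm hall hg
  push Not at hall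
  obtain ⟨g₀, hg₀, hm1, hm2⟩ := hall
  obtain ⟨g₀', hg₀', e0', e0⟩ := A.inv g₀ hg₀
  obtain ⟨φ, d, hd, hu, hnp⟩ : ∃ φ d : V3, dot φ d = 1 ∧ InW W (refl φ d) ∧ ¬ IsPerm (refl φ d) := by
    by_contra hcon
    push Not at hcon
    have hs : ∀ r, ∃ s, ∀ v, g₀ (act (Mon.perm r true) v) = act (Mon.perm s true) (g₀ v) := by
      intro r
      obtain ⟨φ, d, hd, hfun, hu⟩ := A.conj_refl hg₀ hg₀' e0 e0' r
      obtain ⟨s, hs1, hs2, hs3⟩ := refl_transp φ d hd (hcon φ d hd hu)
      refine ⟨s, fun v => ?_⟩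
      have := DFunLike.congr_fun (addHom_ext (f := reflAdd φ d) (g := actAdd _) hs1 hs2 hs3) (g₀ v)
      rw [show reflAdd φ d (g₀ v) = refl φ d (g₀ v) from rfl, ← hfun,
        show g₀' (g₀ v) = v from DFunLike.congr_fun e0' v] at this
      exact this
    choose s hs using hs
    have hsurj : Function.Surjective s := by
      refine Finite.injective_iff_surjective.1 fun r r' h => ?_
      have h1 : ∀ v, act (Mon.perm r true) v = act (Mon.perm r' true) v := fun v =>
        A.injective hg₀ (by rw [hs, hs, h])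
      have key : ∀ a b : ZMod 3, (∀ v, act (Mon.perm a true) v = act (Mon.perm b true) v) → a = b := by
        decide +kernel
      exact key r r' h1
    rcases perm_fixed (g₀ ones) (fun t => by
      obtain ⟨r, rfl⟩ := hsurj t
      rw [← hs, show act (Mon.perm r true) ones = ones by clear * - r; revert r; decide +kernel]) with h | h | h
    · exact absurd (A.injective hg₀ (h.trans (map_zero g₀).symm)) (by decide +kernel)
    exacts [hm1 h, hm2 h]
  obtain ⟨β, hβ⟩ := (A.refl_frame hd hu).resolve_left hnp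
  refine ⟨β, ?_⟩
  have hframe : ∀ φ' d', dot φ' d' = 1 → InW W (refl φ' d') → InFrame β (refl φ' d') := by
    intro φ' d' hd' hu'
    rcases A.refl_frame hd' hu' with h | h
    · exact perm_frame φ' d' hd' h β
    rcases pair_cases φ d hd hnp β hβ φ' d' hd' with h' | h' | ⟨p, q, o, h'⟩ | ⟨p, q, o, h'⟩
    · exact h'
    · exact absurd h h'
    · exact (A.not_bad (A.inW_comp (A.inW_step hu p) (A.inW_comp (A.inW_step hu' q) (A.inW_step hu o))) h').elim
    · exact (A.not_bad (A.inW_comp (A.inW_step hu' p) (A.inW_comp (A.inW_step hu q) (A.inW_step hu' o))) h').elim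
  let Z : (V3 →+ V3) → (V3 →+ V3) := fun g => (shearAdd (-β)).comp (g.comp (shearAdd β))
  have hZ : ∀ g v, Z g v = shear (-β) (g (shear β v)) := fun _ _ => rfl
  have hZc : ∀ g h v, Z (g.comp h) v = Z g (Z h v) := fun g h v => by
    simp only [hZ, shear_shear', AddMonoidHom.comp_apply]
  have horb : ∀ g ∈ W, Cube (Z g ones) := by
    intro g hg
    obtain ⟨g', hg', e', e⟩ := A.inv g hg
    obtain ⟨φ₁, d₁, h₁, f₁, w₁⟩ := A.conj_refl hg hg' e e' 0
    obtain ⟨φ₂, d₂, h₂, f₂, w₂⟩ := A.conj_refl hg hg' e e' 1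
    rw [hZ, shear_ones]
    have hthree : ∀ u, thrice (refl φ₁ d₁ ∘ refl φ₂ d₂) u = u := fun u => by
      have e1 : ∀ u, g' (g u) = u := fun u => DFunLike.congr_fun e' u
      simp only [thrice, Function.comp_apply, ← f₁, ← f₂, e1]
      have := thrice_transp (g' u)
      simp only [thrice, Function.comp_apply] at this
      rw [this, show g (g' u) = u from DFunLike.congr_fun e u]
    refine fixed_cube β φ₁ d₁ h₁ (hframe _ _ h₁ w₁) φ₂ d₂ h₂ (hframe _ _ h₂ w₂) ?_ (hthree _) (hthree _)
      (hthree _) (g ones) ?_ ?_ ?_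
    · by_contra hcon
      push Not at hcon
      obtain ⟨c1, c2, c3⟩ := hcon
      have hc := addHom_ext (f := (reflAdd φ₁ d₁).comp (reflAdd φ₂ d₂))
        (g := (reflAdd φ₂ d₂).comp (reflAdd φ₁ d₁)) c1 c2 c3
      have h3 : ∀ v, act (Mon.perm 0 true * Mon.perm 1 true) v = act (Mon.perm 1 true * Mon.perm 0 true) v := by
        intro v
        refine A.injective hg ?_
        have := DFunLike.congr_fun hc (g v)
        rw [show (reflAdd φ₁ d₁).comp (reflAdd φ₂ d₂) (g v) = refl φ₁ d₁ (refl φ₂ d₂ (g v)) from rfl,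
          show (reflAdd φ₂ d₂).comp (reflAdd φ₁ d₁) (g v) = refl φ₂ d₂ (refl φ₁ d₁ (g v)) from rfl,
          ← f₂, ← f₁, ← f₁, ← f₂] at this
        simp only [show ∀ u, g' (g u) = u from fun u => DFunLike.congr_fun e' u] at this
        rw [act_mul, act_mul]
        exact this
      rcases transp_noncomm 1 (by decide) with h4 | h4 <;> exact h4 (h3 _)
    · intro h
      exact absurd (A.injective hg (h.trans (map_zero g).symm)) (by decide +kernel)
    · rw [← f₁, show g' (g ones) = ones from DFunLike.congr_fun e' ones,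
        show act (Mon.perm 0 true) ones = ones by decide +kernel]
    · rw [← f₂, show g' (g ones) = ones from DFunLike.congr_fun e' ones,
        show act (Mon.perm 1 true) ones = ones by decide +kernel]
  obtain ⟨gu, hgu, hgue⟩ := hu
  have humove : refl φ d ones ≠ ones := fun h => A.not_bad ⟨gu, hgu, hgue⟩ ⟨h, hnp⟩
  obtain ⟨k, hk, r, hr⟩ := moved_point φ d hd hnp humove β hβ
  have hZperm : ∀ r w v, Z (actAdd (Mon.perm r w)) v = act (Mon.perm r w) v := fun r w v => by
    rw [hZ, show (actAdd (Mon.perm r w)) (shear β v) = act (Mon.perm r w) (shear β v) from rfl,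
      ← shear_perm, shear_shear]
  -- the orbit
  let O : V3 → Prop := fun v => ∃ g ∈ W, Z g ones = v
  have hOmap : ∀ g ∈ W, ∀ v, O v → O (Z g v) := by
    rintro g hg _ ⟨h, hh, rfl⟩
    exact ⟨g.comp h, A.comp g hg h hh, hZc g h ones⟩
  have hO1 : O ones := ⟨_, A.perm 0 false, by rw [hZperm]; decide +kernel⟩
  have hOk : O (axisPoint k) := by
    rw [← hr]
    have : O (shear (-β) (refl φ d ones)) := ⟨gu, hgu, by rw [hZ, shear_ones, hgue]⟩
    rw [← hZperm r false]
    exact hOmap _ (A.perm r false) _ this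
  have hOrot : ∀ v, O v → O (act rot v) := fun v h => hZperm 1 false v ▸ hOmap _ (A.perm 1 false) _ h
  have hOk2 : O (act rot (axisPoint k)) := hOrot _ hOk
  have hOk3 : O (act (rot * rot) (axisPoint k)) := by rw [act_mul]; exact hOrot _ hOk2
  have hFour : ∀ v, Four k v → O v := by
    rintro v (rfl | rfl | rfl | rfl)
    exacts [hO1, hOk, hOk2, hOk3]
  intro g hg
  set a := Z g (axisPoint k)
  set b := Z g (act rot (axisPoint k))
  set c := Z g (act (rot * rot) (axisPoint k))
  obtain ⟨ob1, ob2, ob3⟩ : (fromOrbit k a b c).1 = Z g (1, 0, 0) ∧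
      (fromOrbit k a b c).2.1 = Z g (0, 1, 0) ∧ (fromOrbit k a b c).2.2 = Z g (0, 0, 1) := by
    have e := orbit_basis k hk
    simp only [fromOrbit, Prod.mk.injEq] at e
    simp only [fromOrbit, a, b, c, ← map_add, ← map_nsmul, e.1, e.2.1, e.2.2, and_self]
  have hZinj : Function.Injective (Z g) := fun u v h => by
    have h1 := congrArg (shear β) h
    rw [hZ, hZ, shear_shear', shear_shear'] at h1
    have h2 := congrArg (shear (-β)) (A.injective hg h1)
    rwa [shear_shear, shear_shear] at h2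
  have hlin : ∀ v, lin (fromOrbit k a b c).1 (fromOrbit k a b c).2.1 (fromOrbit k a b c).2.2 v = Z g v :=
    fun v => by rw [ob1, ob2, ob3]; exact (eq_lin (Z g) v).symm
  show UnitTriple (Z g (1, 0, 0)) (Z g (0, 1, 0)) (Z g (0, 0, 1))
  rw [← ob1, ← ob2, ← ob3]
  by_cases hO : ∀ v, O v → Four k v
  · have hne : ∀ u v : V3, u ≠ v → Z g u ≠ Z g v := fun u v h e => h (hZinj e)
    have d1 : ∀ k : ZMod 3, k ≠ 0 → axisPoint k ≠ act rot (axisPoint k) ∧
        act rot (axisPoint k) ≠ act (rot * rot) (axisPoint k) ∧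
        axisPoint k ≠ act (rot * rot) (axisPoint k) ∧ ones ≠ axisPoint k ∧
        ones ≠ act rot (axisPoint k) ∧ ones ≠ act (rot * rot) (axisPoint k) := by decide +kernel
    obtain ⟨n1, n2, n3, n4, n5, n6⟩ := d1 k hk
    refine four_frame k hk a (hO _ (hOmap g hg _ hOk)) b (hO _ (hOmap g hg _ hOk2)) c
      (hO _ (hOmap g hg _ hOk3)) ?_ (hne _ _ n1) (hne _ _ n2) (hne _ _ n3) ?_
    · simp only [orbitMap, hlin]; exact hO _ (hOmap g hg _ hO1)
    · simp only [orbitMap, hlin]; exact ⟨hne _ _ n4, hne _ _ n5, hne _ _ n6⟩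
  · push Not at hO
    obtain ⟨v, hv, hvF⟩ := hO
    have hOcube : ∀ u, O u → Cube u := by rintro _ ⟨h, hh, rfl⟩; exact horb h hh
    have hneg : O (-ones) := by
      obtain ⟨h, hh, he⟩ := hFour _ ((cube_or_neg k hk v (hOcube v hv)).resolve_left hvF)
      obtain ⟨h', hh', e', -⟩ := A.inv h hh
      have h1 : Z h' (-v) = ones := by
        rw [← he, ← hZc, e', hZ, AddMonoidHom.id_apply, shear_ones, shear_ones]
      rw [← h1, map_neg, neg_neg]
      exact hOmap h' hh' v hv
    have hall : ∀ u, Cube u → O u := by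
      intro u hu'
      rcases cube_or_neg k hk u hu' with hF | hF
      · exact hFour u hF
      · obtain ⟨h, hh, he⟩ := hFour _ hF
        have := hOmap h hh _ hneg
        rwa [map_neg, he, neg_neg] at this
    refine cube_frame k hk a (hOcube _ (hOmap g hg _ hOk)) b (hOcube _ (hOmap g hg _ hOk2)) c
      (hOcube _ (hOmap g hg _ hOk3)) ?_
    simp only [orbitMap, hlin]
    exact fun u => ⟨fun hu' => hOcube _ (hOmap g hg _ (hall u hu')),
      fun h => hZinj (h.trans (map_zero _).symm)⟩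

end Cfsg.Agent.SymNineThree
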