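import Cfsg.Agent.Lib.SymNineThree.Basics
import Mathlib.GroupTheory.Sylow

/-!
# Weak closure of `J` and fusion in `J`

* `Setting.eq_space` : `J` is the only abelian subgroup of order 27 of a 3-subgroup containing it
* `Setting.le_normalizer_of_three` : 3-subgroups containing `J` normalize it
* `Setting.fusion`, `Setting.not_conj_space` : fusion
* `Setting.le_of_normal` : subgroups normalized by larger ones
* `Setting.exists_syl` : a Sylow 3-subgroup
-/

set_option autoImplicit false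
set_option synthInstance.maxSize 8000
set_option synthInstance.maxHeartbeats 200000

namespace Cfsg.Agent.SymNineThree

open Cfsg Subgroup
open ThreeCubedSymFour (V3)
open Multiplicative (ofAdd toAdd)

theorem fixed_of_three : ∀ m : Mon, m * m * m = 1 → m ≠ 1 →
    (Finset.univ.filter fun u : V3 => act m u = u).card = 3 ∧
      (Finset.univ.filter fun n : Mon => n * n * n = 1 ∧ n * m = m * n).card = 3 := by decide +kernel

theorem three_form : ∀ m : Mon, m * m * m = 1 → m ≠ 1 → ∀ n : Mon, n * n * n = 1 →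
    (n * m) * (n * m) * (n * m) = 1 → (n * (m * m)) * (n * (m * m)) * (n * (m * m)) = 1 →
    n = 1 ∨ n = m ∨ n = m * m := by decide +kernel

theorem rot_cases : ∀ m : Mon, (m = 1 ∨ m = rot ∨ m = rot * rot) → ∃ i, m = Mon.perm i false := by
  decide +kernel

variable {G : Type*} [Group G] {W : Subgroup Mon} {j : Multiplicative V3 →* G} {s : W →* G}

/-- The projection on the automizer. -/
theorem Setting.exists_mu (E : Setting W j s) :
    ∃ μ : normalizer (j.range : Set G) →* Mon,
      ∀ v m, m ∈ W → ∀ h : el j s v m ∈ normalizer (j.range : Set G), μ ⟨_, h⟩ = m := by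
  have h1 : ∀ g : normalizer (j.range : Set G), ∃ m : Mon, ∃ v, m ∈ W ∧ (g : G) = el j s v m := fun g => by
    obtain ⟨v, m, hm, e⟩ := E.exists_normal_form g.2
    exact ⟨m, v, hm, e⟩
  choose f vf hf he using h1
  refine ⟨MonoidHom.mk' f fun a b => ?_, fun v m hm h => ?_⟩
  · have e := he (a * b)
    rw [Subgroup.coe_mul, he a, he b, E.el_mul (hf a) (hf b)] at e
    exact (E.el_injective (mul_mem (hf a) (hf b)) (hf _) e).2.symm
  · exact (E.el_injective hm (hf _) (he ⟨_, h⟩)).2.symm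

/-- An abelian 3-subgroup of the normalizer of order 27 is the space. -/
theorem Setting.eq_space [Finite G] (E : Setting W j s) {A : Subgroup G}
    (hA : A ≤ normalizer (j.range : Set G)) (hcomm : IsMulCommutative A) (h3 : IsPGroup 3 A)
    (h27 : 27 ≤ Nat.card A) : A = j.range := by
  classical
  refine eq_of_le_of_card_ge (fun g hg => ?_) (by rw [E.card_space]; exact h27)
  obtain ⟨v, m, hm, rfl⟩ := E.exists_normal_form (hA hg)
  by_cases hm1 : m = 1
  · subst hm1; exact el_mem_range v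
  exfalso
  obtain ⟨n, hn⟩ := h3 ⟨_, hg⟩
  have hm3 : m * m * m = 1 := by
    rw [← E.cube_of_el hm (v := v) (n := n) (by simpa using congrArg Subtype.val hn), pow_succ, pow_two]
  obtain ⟨hfix, hcen⟩ := fixed_of_three m hm3 hm1
  choose fv fm hfm hf using fun a : A => E.exists_normal_form (hA a.2)
  have hc : ∀ a : A, (fm a * fm a * fm a = 1 ∧ fm a * m = m * fm a) := fun a => by
    refine ⟨?_, ?_⟩
    · obtain ⟨n, hn⟩ := h3 a
      rw [← E.cube_of_el (hfm a) (v := fv a) (n := n) (by rw [← hf a]; simpa using congrArg Subtype.val hn),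
        pow_succ, pow_two]
    · have := congrArg Subtype.val (hcomm.is_comm.comm a ⟨_, hg⟩)
      simp only [Subgroup.coe_mul, hf a] at this
      exact ((E.el_comm_iff (hfm a) hm).1 this).2
  have hcard : Nat.card A ≤ 9 := by
    let F := Finset.univ.filter fun u : V3 => act m u = u
    let N := Finset.univ.filter fun n : Mon => n * n * n = 1 ∧ n * m = m * n
    have key : ∀ a b : A, fm a = fm b → fv a - fv b ∈ F := fun a b e => by
      have h1 : el j s (fv a - fv b) 1 ∈ A := by
        have h2 : el j s (fv a - fv b) 1 * (b : G) = a := by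
          rw [hf a, hf b, E.el_mul (one_mem W) (hfm b), act_one, one_mul, sub_add_cancel, e]
        rw [eq_mul_inv_of_mul_eq h2]
        exact mul_mem a.2 (inv_mem b.2)
      have h2 := congrArg Subtype.val (hcomm.is_comm.comm ⟨_, hg⟩ ⟨_, h1⟩)
      exact Finset.mem_filter.2 ⟨Finset.mem_univ _, (E.el_comm_space hm).1 h2⟩
    obtain ⟨rep, hrep⟩ : ∃ rep : Mon → V3, ∀ a : A, fv a - rep (fm a) ∈ F := by
      refine ⟨fun n => if h : ∃ b : A, fm b = n then fv h.choose else 0, fun a => ?_⟩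
      have hex : ∃ b : A, fm b = fm a := ⟨a, rfl⟩
      simp only [dif_pos hex]
      exact key _ _ hex.choose_spec.symm
    refine le_trans (Nat.card_le_card_of_injective
      (fun a : A => ((⟨fm a, Finset.mem_filter.2 ⟨Finset.mem_univ _, hc a⟩⟩ : N),
        (⟨fv a - rep (fm a), hrep a⟩ : F))) ?_) (le_of_eq ?_)
    · intro a b e
      simp only [Prod.mk.injEq, Subtype.mk.injEq] at e
      obtain ⟨e1, e2⟩ := e
      rw [e1, sub_left_inj] at e2
      exact Subtype.ext (by rw [hf a, hf b, e1, e2])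
    · rw [Nat.card_prod, Nat.card_eq_fintype_card, Nat.card_eq_fintype_card, Fintype.card_coe,
        Fintype.card_coe, hfix, hcen]
  omega

/-- Conjugates of the space inside its normalizer. -/
theorem Setting.map_conj_space [Finite G] (E : Setting W j s) {g : G}
    (h : ∀ p ∈ j.range, g * p * g⁻¹ ∈ normalizer (j.range : Set G)) :
    g ∈ normalizer (j.range : Set G) := by
  refine mem_normalizer_iff_map_conj_eq.2 (E.eq_space ?_ ?_ ?_ ?_)
  · rintro _ ⟨p, hp, rfl⟩
    exact h p hp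
  · have := E.space_comm
    exact map_isMulCommutative _ _
  · exact E.space_isPGroup.map _
  · rw [card_map_of_injective (MulAut.conj g).injective, E.card_space]

/-- A 3-subgroup containing the space normalizes it. -/
theorem Setting.le_normalizer_of_three [Finite G] (E : Setting W j s) {P : Subgroup G}
    (hP : IsPGroup 3 P) (hJP : j.range ≤ P) : P ≤ normalizer (j.range : Set G) := by
  have : Fact (Nat.Prime 3) := ⟨Nat.prime_three⟩
  intro g hg
  by_contra hgn
  haveI := hP.isNilpotent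
  have hlt : (normalizer (j.range : Set G)).subgroupOf P < ⊤ :=
    lt_top_iff_ne_top.2 fun e => hgn (subgroupOf_eq_top.1 e hg)
  obtain ⟨u, huN, hun⟩ := SetLike.exists_of_lt (normalizerCondition_of_isNilpotent _ hlt)
  refine hun (mem_subgroupOf.2 (E.map_conj_space fun p hp => ?_))
  exact mem_subgroupOf.1 ((mem_normalizer_iff.1 huN ⟨p, hJP hp⟩).1
    (mem_subgroupOf.2 (le_normalizer hp)))

/-- A subgroup of the normalizer containing the space has no further normalizer. -/
theorem Setting.le_of_normal [Finite G] (E : Setting W j s) {N M : Subgroup G}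
    (hMN : M ≤ normalizer (N : Set G)) (hJN : j.range ≤ N) (hN : N ≤ normalizer (j.range : Set G)) :
    M ≤ normalizer (j.range : Set G) := fun g hg =>
  E.map_conj_space fun p hp => hN ((mem_normalizer_iff.1 (hMN hg) p).1 (hJN hp))

/-- A Sylow subgroup of a centralizer containing the space. -/
theorem Setting.exists_conj_space [Finite G] (E : Setting W j s) {Y : Subgroup G} (hY : j.range ≤ Y)
    {P : Subgroup G} (hP : IsPGroup 3 P) (hPY : P ≤ Y) :
    ∃ c ∈ Y, ∃ Q : Subgroup G, IsPGroup 3 Q ∧ j.range ≤ Q ∧ Q ≤ Y ∧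
      ∀ p ∈ P, c * p * c⁻¹ ∈ Q := by
  have : Fact (Nat.Prime 3) := ⟨Nat.prime_three⟩
  obtain ⟨Q, hQ⟩ := (E.space_isPGroup.comap_subtype (K := Y)).exists_le_sylow
  obtain ⟨R, hR⟩ := (hP.comap_subtype (K := Y)).exists_le_sylow
  obtain ⟨c, hc⟩ := MulAction.exists_smul_eq Y R Q
  refine ⟨c, c.2, (Q : Subgroup Y).map Y.subtype, Q.isPGroup'.map _, fun p hp => ?_,
    map_subtype_le _, fun p hp => ?_⟩
  · exact ⟨⟨p, hY hp⟩, hQ (mem_subgroupOf.2 hp), rfl⟩
  · refine ⟨c * ⟨p, hPY hp⟩ * c⁻¹, ?_, rfl⟩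
    rw [← hc]
    exact ⟨⟨p, hPY hp⟩, hR (mem_subgroupOf.2 hp), rfl⟩

/-- Fusion in the space. -/
theorem Setting.fusion [Finite G] (E : Setting W j s) {u v : V3} {Y : Subgroup G}
    (hY : j.range ≤ Y) {g : G} (hg : g ∈ Y) (h : g * el j s u 1 * g⁻¹ = el j s v 1) :
    ∃ w m, m ∈ W ∧ el j s w m ∈ Y ∧ act m u = v := by
  set C := centralizer ({el j s v 1} : Set G) ⊓ Y with hC
  have hJC : j.range ≤ C := fun p hp => ⟨mem_centralizer_singleton_iff.2
    (congrArg Subtype.val (E.space_comm.is_comm.comm ⟨p, hp⟩ ⟨_, el_mem_range v⟩) :), hY hp⟩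
  have hle : j.range.map (MulAut.conj g).toMonoidHom ≤ C := by
    rintro _ ⟨p, hp, rfl⟩
    refine ⟨mem_centralizer_singleton_iff.2 ?_, ?_⟩
    · rw [← h]
      have e : Commute p (el j s u 1) :=
        (congrArg Subtype.val (E.space_comm.is_comm.comm ⟨p, hp⟩ ⟨_, el_mem_range u⟩) :)
      exact (e.map (MulAut.conj g).toMonoidHom).eq
    · exact Y.mul_mem (Y.mul_mem hg (hY hp)) (Y.inv_mem hg)
  obtain ⟨c, hc, Q, hQ3, hJQ, -, hcQ⟩ := E.exists_conj_space hJC (E.space_isPGroup.map _) hle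
  have hcg : c * g ∈ normalizer (j.range : Set G) := E.map_conj_space fun p hp => by
    have := E.le_normalizer_of_three hQ3 hJQ (hcQ _ ⟨p, hp, rfl⟩)
    simpa [mul_assoc] using this
  obtain ⟨w, m, hm, e⟩ := E.exists_normal_form hcg
  refine ⟨w, m, hm, e ▸ Y.mul_mem hc.2 hg, ?_⟩
  have h1 := E.el_conj hm w u
  rw [← e, mul_inv_rev, show c * g * el j s u 1 * (g⁻¹ * c⁻¹) = c * (g * el j s u 1 * g⁻¹) * c⁻¹ by group,
    h, mem_centralizer_singleton_iff.1 hc.1, mul_inv_cancel_right] at h1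
  exact (E.el_injective (one_mem W) (one_mem W) h1).1.symm

theorem Setting.fusion_top [Finite G] (E : Setting W j s) {u v : V3} {g : G}
    (h : g * el j s u 1 * g⁻¹ = el j s v 1) : ∃ m, m ∈ W ∧ act m u = v := by
  obtain ⟨-, m, hm, -, e⟩ := E.fusion (le_top) (mem_top g) h
  exact ⟨m, hm, e⟩

/-- An element centralizing `x` outside the space is no conjugate of a point with small stabilizer. -/
theorem Setting.not_conj_space [Finite G] (E : Setting W j s) {p : G} (hp : p ∉ j.range)
    (hpx : p * el j s ones 1 = el j s ones 1 * p) {v : V3}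
    (hv : ∀ m, m ∈ W → m * m * m = 1 → act m v = v → m = 1) (g : G) :
    g * p * g⁻¹ ≠ el j s v 1 := by
  intro h
  set C := centralizer ({el j s v 1} : Set G)
  have hJC : j.range ≤ C := fun q hq => mem_centralizer_singleton_iff.2
    (congrArg Subtype.val (E.space_comm.is_comm.comm ⟨q, hq⟩ ⟨_, el_mem_range v⟩) :)
  have hXC : (zpowers (el j s ones 1)).map (MulAut.conj g).toMonoidHom ≤ C := by
    rintro _ ⟨q, hq, rfl⟩
    refine mem_centralizer_singleton_iff.2 ?_
    rw [← h]
    obtain ⟨i, rfl⟩ := mem_zpowers_iff.1 hq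
    exact (((show Commute p (el j s ones 1) from hpx).zpow_right i).symm.map
      (MulAut.conj g).toMonoidHom).eq
  have hX3 : IsPGroup 3 (zpowers (el j s ones 1)) :=
    E.space_isPGroup.to_le (zpowers_le.2 (el_mem_range _))
  obtain ⟨c, hc, Q, hQ3, hJQ, hQC, hcQ⟩ := E.exists_conj_space hJC (hX3.map _) hXC
  have hQJ : Q ≤ j.range := by
    intro q hq
    obtain ⟨w, m, hm, rfl⟩ := E.exists_normal_form (E.le_normalizer_of_three hQ3 hJQ hq)
    have h1 := (E.el_comm_space hm).1 (mem_centralizer_singleton_iff.1 (hQC hq))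
    obtain ⟨n, hn⟩ := hQ3 ⟨_, hq⟩
    have h3 : m * m * m = 1 := by
      rw [← E.cube_of_el hm (v := w) (n := n) (by simpa using congrArg Subtype.val hn), pow_succ, pow_two]
    rw [hv m hm h3 h1]
    exact el_mem_range w
  obtain ⟨u, hu⟩ := exists_el (s := s) (hQJ (hcQ _ ⟨_, mem_zpowers _, rfl⟩))
  have hu' : (c * g) * el j s ones 1 * (c * g)⁻¹ = el j s u 1 := by rw [← hu]; simp [mul_assoc]
  obtain ⟨m, hm, hmu⟩ := E.fusion_top hu'
  set g' := el j s 0 m⁻¹ * (c * g) with hg'
  have hfix : g' * el j s ones 1 * g'⁻¹ = el j s ones 1 := by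
    rw [hg', mul_inv_rev, show el j s 0 m⁻¹ * (c * g) * el j s ones 1 * ((c * g)⁻¹ * (el j s 0 m⁻¹)⁻¹) =
      el j s 0 m⁻¹ * ((c * g) * el j s ones 1 * (c * g)⁻¹) * (el j s 0 m⁻¹)⁻¹ by group, hu',
      E.el_conj (inv_mem hm), ← hmu, ← act_mul, inv_mul_cancel, act_one]
  have hN : g' ∈ normalizer (j.range : Set G) := by
    obtain ⟨w, wm, -, e⟩ := E.cent g' (by rw [← el_one_right (s := s)]; exact mul_inv_eq_iff_eq_mul.1 hfix)
    rw [e, show j (ofAdd w) * s wm = el j s w (wm : Mon) by rw [el, sm_mem wm.2]]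
    exact E.el_mem_normalizer wm.2 _
  refine hp ((mem_normalizer_iff.1 hN p).2 ?_)
  rw [hg', mul_inv_rev, show el j s 0 m⁻¹ * (c * g) * p * ((c * g)⁻¹ * (el j s 0 m⁻¹)⁻¹) =
      el j s 0 m⁻¹ * (c * (g * p * g⁻¹) * c⁻¹) * (el j s 0 m⁻¹)⁻¹ by group, h,
      mem_centralizer_singleton_iff.1 hc, mul_inv_cancel_right, E.el_conj (inv_mem hm)]
  exact el_mem_range _

/-- A Sylow subgroup with coordinates. -/
theorem Setting.exists_syl [Finite G] (E : Setting W j s) :
    ∃ S : Sylow 3 G, j.range ≤ (S : Subgroup G) ∧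
      ∀ g, g ∈ (S : Subgroup G) ↔ ∃ v i, g = el j s v (Mon.perm i false) := by
  have : Fact (Nat.Prime 3) := ⟨Nat.prime_three⟩
  set r := el j s 0 rot
  have hrW : rot ∈ W := E.perm 1 false
  have hr3 : r ^ 3 = 1 := by
    obtain ⟨u, hu⟩ := E.el_pow hrW 0 3
    have : u = 0 := by
      have e : r ^ 3 = el j s 0 (rot * rot * rot) := by
        rw [pow_succ, pow_two, E.el_mul hrW hrW, E.el_mul (mul_mem hrW hrW) hrW]
        simp only [show ∀ m, act m (0 : V3) = 0 from fun m => (actAdd m).map_zero, add_zero]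
      rw [e] at hu
      exact (E.el_injective (mul_mem (mul_mem hrW hrW) hrW) (pow_mem hrW 3) hu).1.symm
    rw [hu, this, show rot ^ 3 = 1 by decide +kernel, el_zero_one]
  have hP : IsPGroup 3 ↥(j.range ⊔ zpowers r) := by
    refine IsPGroup.to_sup_of_normal_left' E.space_isPGroup ?_ (zpowers_le.2 (E.el_mem_normalizer hrW 0))
    intro q
    obtain ⟨i, hi⟩ := mem_zpowers_iff.1 q.2
    refine ⟨1, Subtype.ext ?_⟩
    rw [pow_one, SubgroupClass.coe_pow, ← hi, ← zpow_natCast, ← zpow_mul, mul_comm, zpow_mul,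
      zpow_natCast, hr3, one_zpow]
    rfl
  obtain ⟨S, hS⟩ := hP.exists_le_sylow
  have hJS : j.range ≤ (S : Subgroup G) := le_sup_left.trans hS
  have hrS : r ∈ (S : Subgroup G) := hS (mem_sup_right (mem_zpowers r))
  refine ⟨S, hJS, fun g => ⟨fun hg => ?_, ?_⟩⟩
  · obtain ⟨v, m, hm, rfl⟩ := E.exists_normal_form (E.le_normalizer_of_three S.isPGroup' hJS hg)
    have h3 : ∀ {w : V3} {n : Mon}, n ∈ W → el j s w n ∈ (S : Subgroup G) → n * n * n = 1 := by
      intro w n hn h
      obtain ⟨i, hi⟩ := S.isPGroup' ⟨_, h⟩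
      rw [← E.cube_of_el hn (v := w) (n := i) (by simpa using congrArg Subtype.val hi), pow_succ, pow_two]
    have h1 := h3 (mul_mem hm hrW) (E.el_mul hm hrW v 0 ▸ mul_mem hg hrS)
    have h2 := h3 (mul_mem hm (mul_mem hrW hrW))
      (E.el_mul hm (mul_mem hrW hrW) v _ ▸ mul_mem hg (E.el_mul hrW hrW 0 0 ▸ mul_mem hrS hrS))
    obtain ⟨i, hi⟩ := rot_cases m
      (three_form rot (by decide +kernel) (by decide +kernel) m (h3 hm hg) h1 h2)
    exact ⟨v, i, by rw [hi]⟩
  · rintro ⟨v, i, rfl⟩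
    have : ∀ i, ∃ a : Fin 3, Mon.perm i false = rot ^ (a : ℕ) := by decide +kernel
    obtain ⟨a, ha⟩ := this i
    obtain ⟨u, hu⟩ := E.el_pow hrW 0 (a : ℕ)
    have : el j s v (Mon.perm i false) = el j s (v - u) 1 * r ^ (a : ℕ) := by
      rw [hu, E.el_mul (one_mem W) (pow_mem hrW _), act_one, one_mul, sub_add_cancel, ha]
    rw [this]
    exact mul_mem (hJS (el_mem_range _)) (pow_mem hrS _)

end Cfsg.Agent.SymNineThree
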