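import Cfsg.Agent.Lib.SymNineThree.Fusion
import Cfsg.Agent.Lib.SymNineThree.Local

/-!
# Transfer kernels relative to parts of `J`

* `exists_kernel_space` : the kernel of an invariant linear map on a part of `J`
* `sig_inter` : coprime subgroups of a centralizer when its normalizer part is known
* `le_of_trivial_automizer` : trivial automizer
* `conj_mem_of_line` : a kernel with a self-centralizing line
-/

set_option autoImplicit false

namespace Cfsg.Agent.SymNineThree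

open Cfsg Subgroup
open ThreeCubedSymFour (V3)
open Multiplicative (ofAdd toAdd)

universe u

variable {G : Type u} [Group G] [Finite G]

theorem card_kernel {C P L : Subgroup G} (hPC : P ≤ C) (hLC : L ≤ C) (hn : C ≤ normalizer (L : Set G))
    (hdec : ∀ c ∈ C, ∃ p ∈ P, ∃ l ∈ L, c = p * l) :
    Nat.card C * Nat.card (P ⊓ L : Subgroup G) = Nat.card P * Nat.card L := by
  haveI : (L.subgroupOf C).Normal := normal_subgroupOf_of_le_normalizer hn
  let f : P →* C ⧸ L.subgroupOf C := (QuotientGroup.mk' _).comp (inclusion hPC)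
  have hf : Function.Surjective f := by
    intro q
    obtain ⟨c, rfl⟩ := QuotientGroup.mk'_surjective _ q
    obtain ⟨p, hp, l, hl, e⟩ := hdec c c.2
    refine ⟨⟨p, hp⟩, (QuotientGroup.eq).2 ?_⟩
    rw [mem_subgroupOf]
    show p⁻¹ * (c : G) ∈ L
    rw [e, inv_mul_cancel_left]; exact hl
  have hker : f.ker = L.subgroupOf P := by
    ext p
    rw [MonoidHom.mem_ker, mem_subgroupOf]
    exact (QuotientGroup.eq_one_iff (inclusion hPC p)).trans mem_subgroupOf
  have h1 := f.ker.card_mul_index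
  rw [Subgroup.index_ker] at h1
  have h2 : Nat.card f.range = (L.subgroupOf C).index := by
    rw [MonoidHom.range_eq_top.2 hf, card_top]
    rfl
  rw [h2, hker] at h1
  have h3 : Nat.card (L.subgroupOf P) = Nat.card (P ⊓ L : Subgroup G) := by
    rw [inf_comm, ← inf_subgroupOf_right, Nat.card_congr (subgroupOfEquivOfLe inf_le_right).toEquiv]
  have h4 := (L.subgroupOf C).card_mul_index
  rw [Nat.card_congr (subgroupOfEquivOfLe hLC).toEquiv] at h4
  rw [h3] at h1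
  rw [← h4, ← h1]
  ring

theorem not_nine_dvd {C P L : Subgroup G} (hPC : P ≤ C) (hLC : L ≤ C) (hn : C ≤ normalizer (L : Set G))
    (hdec : ∀ c ∈ C, ∃ p ∈ P, ∃ l ∈ L, c = p * l) (hidx : ¬ 3 ∣ (P.subgroupOf C).index)
    {n : ℕ} (hPL : Nat.card (P ⊓ L : Subgroup G) = 3 ^ n) : ¬ 3 ^ (n + 1) ∣ Nat.card L := by
  intro h
  obtain ⟨c, hc⟩ := h
  have h1 := card_kernel hPC hLC hn hdec
  have h2 := (P.subgroupOf C).card_mul_index
  rw [Nat.card_congr (subgroupOfEquivOfLe hPC).toEquiv] at h2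
  rw [hPL, ← h2, hc] at h1
  refine hidx ⟨c, ?_⟩
  have hpos : 0 < Nat.card P * 3 ^ n := Nat.mul_pos Nat.card_pos (pow_pos (by norm_num) _)
  refine Nat.eq_of_mul_eq_mul_left hpos ?_
  rw [pow_succ] at h1
  linarith

/-- An element of order prime to three lies in the kernel. -/
theorem mem_kernel {C P L : Subgroup G} (hPC : P ≤ C) (hn : C ≤ normalizer (L : Set G))
    (hP : IsPGroup 3 P) (hdec : ∀ c ∈ C, ∃ p ∈ P, ∃ l ∈ L, c = p * l) {g : G} (hg : g ∈ C) {k : ℕ}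
    (hk : g ^ k = 1) (hk3 : ¬ 3 ∣ k) : g ∈ L := by
  obtain ⟨p, hp, l, hl, rfl⟩ := hdec g hg
  haveI : (L.subgroupOf (normalizer (L : Set G))).Normal := normal_subgroupOf_of_le_normalizer le_rfl
  have hlN : l ∈ normalizer (L : Set G) := le_normalizer hl
  have hpN : p ∈ normalizer (L : Set G) := hn (hPC hp)
  set f := QuotientGroup.mk' (L.subgroupOf (normalizer (L : Set G)))
  have hfl : f ⟨l, hlN⟩ = 1 := (QuotientGroup.eq_one_iff _).2 (mem_subgroupOf.2 hl)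
  have he : f ⟨p * l, mul_mem hpN hlN⟩ = f ⟨p, hpN⟩ := by
    rw [show (⟨p * l, mul_mem hpN hlN⟩ : normalizer (L : Set G)) = ⟨p, hpN⟩ * ⟨l, hlN⟩ from rfl, map_mul,
      hfl, mul_one]
  obtain ⟨n, hn3⟩ := hP ⟨p, hp⟩
  have h1 : f ⟨p, hpN⟩ ^ k = 1 := by
    rw [← he, ← map_pow]
    convert map_one f
    exact Subtype.ext (by simpa using hk)
  have h2 : f ⟨p, hpN⟩ ^ 3 ^ n = 1 := by
    rw [← map_pow]
    convert map_one f
    exact Subtype.ext (by simpa using congrArg Subtype.val hn3)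
  have h3 := pow_gcd_eq_one.2 ⟨h1, h2⟩
  rw [show Nat.gcd k (3 ^ n) = 1 from
    Nat.Coprime.pow_right _ ((Nat.Prime.coprime_iff_not_dvd Nat.prime_three).2 hk3).symm, pow_one] at h3
  exact mul_mem (mem_subgroupOf.1 ((QuotientGroup.eq_one_iff _).1 h3)) hl

variable {W : Subgroup Mon} {j : Multiplicative V3 →* G} {s : W →* G}

/-- The kernel of an invariant linear map. -/
theorem Setting.exists_kernel_space (E : Setting W j s) {C P : Subgroup G} (hPC : P ≤ C) (hPJ : P ≤ j.range)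
    (hidx : ¬ 3 ∣ (P.subgroupOf C).index) (F : V3 →+ V3)
    (hinv : ∀ n ∈ C, n ∈ normalizer (P : Set G) → ∀ u, el j s u 1 ∈ P →
      ∃ v, n * el j s u 1 * n⁻¹ = el j s v 1 ∧ F v = F u) :
    ∃ L : Subgroup G, L ≤ C ∧ C ≤ normalizer (L : Set G) ∧
      (∀ u, el j s u 1 ∈ P → (el j s u 1 ∈ L ↔ F u = 0)) ∧
      ∀ c ∈ C, ∃ p ∈ P, ∃ l ∈ L, c = p * l := by
  let e := MonoidHom.ofInjective E.inj
  let χ : P →* Multiplicative V3 :=
    ((AddMonoidHom.toMultiplicative F).comp e.symm.toMonoidHom).comp (inclusion hPJ)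
  have hχ : ∀ u (h : el j s u 1 ∈ P), χ ⟨_, h⟩ = ofAdd (F u) := by
    intro u h
    have : e.symm ⟨el j s u 1, hPJ h⟩ = ofAdd u := by
      rw [MulEquiv.symm_apply_eq]
      exact Subtype.ext (el_one_right u)
    show AddMonoidHom.toMultiplicative F (e.symm ⟨el j s u 1, hPJ h⟩) = _
    rw [this]
    rfl
  have hcomm : IsMulCommutative P := ⟨⟨fun a b => Subtype.ext
    (congrArg Subtype.val (E.space_comm.is_comm.comm ⟨a, hPJ a.2⟩ ⟨b, hPJ b.2⟩) :)⟩⟩
  obtain ⟨L, hLC, hn, hLP, hdec⟩ := exists_kernel hPC (E.space_isPGroup.to_le hPJ) hcomm hidx χ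
    (fun n hn hnP p h => by
      obtain ⟨p, hp⟩ := p
      obtain ⟨u, rfl⟩ := exists_el (s := s) (hPJ hp)
      obtain ⟨v, hv, hF⟩ := hinv n hn hnP u hp
      have : (⟨_, h⟩ : P) = ⟨el j s v 1, hv ▸ h⟩ := Subtype.ext hv
      rw [this, hχ, hχ, hF])
  refine ⟨L, hLC, hn, fun u hu => ?_, hdec⟩
  rw [hLP ⟨_, hu⟩, hχ]
  exact ⟨fun h => congrArg toAdd h, fun h => by rw [h, ofAdd_zero]⟩

/-- A trivial automizer leaves only `P Ω`. -/
theorem Setting.le_of_trivial_automizer (E : Setting W j s) {C P Ω : Subgroup G} (hPC : P ≤ C)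
    (hPJ : P ≤ j.range) (hidx : ¬ 3 ∣ (P.subgroupOf C).index)
    (htriv : ∀ n ∈ C, n ∈ normalizer (P : Set G) → ∀ u, el j s u 1 ∈ P →
      n * el j s u 1 * n⁻¹ = el j s u 1)
    (hS : Sig P C Ω) : ∀ c ∈ C, ∃ p ∈ P, ∃ z ∈ Ω, c = p * z := by
  obtain ⟨L, hLC, hn, hLP, hdec⟩ := E.exists_kernel_space hPC hPJ hidx (AddMonoidHom.id V3)
    fun n hn hnP u hu => ⟨u, htriv n hn hnP u hu, rfl⟩
  have hint : Nat.card (P ⊓ L : Subgroup G) = 3 ^ 0 := by
    rw [pow_zero, Subgroup.card_eq_one, eq_bot_iff_forall]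
    intro g hg
    obtain ⟨u, rfl⟩ := exists_el (s := s) (hPJ hg.1)
    rw [show u = 0 from (hLP u hg.1).1 hg.2, el_zero_one]
  have hL := not_nine_dvd hPC hLC hn hdec hidx hint
  have hLΩ : L ≤ Ω := hS L hLC (fun p hp => hn (hPC hp))
    ((Nat.Prime.coprime_iff_not_dvd Nat.prime_three).2 (by simpa using hL)).symm
  intro c hc
  obtain ⟨p, hp, l, hl, e⟩ := hdec c hc
  exact ⟨p, hp, l, hLΩ hl, e⟩

/-- The kernel meets `P` in a self-centralizing line: it is normalized. -/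
theorem conj_mem_of_line {C P Ω L : Subgroup G} (hP : IsPGroup 3 P) (hΩ : IsPGroup 2 Ω) (hS : Sig P C Ω)
    (hLC : L ≤ C) (hn : C ≤ normalizer (L : Set G)) (hPC : P ≤ C) (hΩL : Ω ≤ L)
    (hΩn : C ≤ normalizer (Ω : Set G)) {y : G} (hyL : y ∈ L) (hy : orderOf y = 3)
    (hΩy : ∀ z ∈ Ω, z * y = y * z) (h9 : ¬ 9 ∣ Nat.card L)
    (hc : ∀ g ∈ L, g * y = y * g → ∃ i : ℕ, g * y ^ i ∈ Ω) {c : G} (hcC : c ∈ C) :
    c * y * c⁻¹ = y ∨ c * y * c⁻¹ = y⁻¹ := by
  have hΩ3 : ¬ 3 ∣ Nat.card Ω := by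
    have : Fact (Nat.Prime 2) := ⟨Nat.prime_two⟩
    obtain ⟨n, hn⟩ := hΩ.exists_card_eq
    rw [hn]
    intro h
    exact absurd (Nat.prime_three.dvd_of_dvd_pow h) (by norm_num)
  obtain ⟨O, -, hOΩ, -, -, hcov⟩ := self_cent_three hP hΩ hS hLC (hPC.trans hn) hΩL
    ((hLC.trans hΩn)) hΩ3 hyL hy h9 hc
  have hy3 : y ^ 3 = 1 := hy ▸ pow_orderOf_eq_one y
  set z := c * y * c⁻¹ with hz
  have hzL : z ∈ L := (mem_normalizer_iff.1 (hn hcC) y).1 hyL
  have hz3 : z ^ 3 = 1 := by rw [hz, conj_pow, hy3, mul_one, mul_inv_cancel]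
  obtain ⟨i, hi⟩ := hcov z hzL hz3
  have hcom : Commute (z * y ^ i) y := hΩy _ (hOΩ hi)
  have hzy : Commute z y := by
    have := hcom.mul_left ((Commute.refl y).pow_left i).inv_left
    rwa [mul_inv_cancel_right] at this
  have h3 : (z * y ^ i) ^ 3 = 1 := by
    rw [(hzy.pow_right i).mul_pow, hz3, one_mul, ← pow_mul, mul_comm, pow_mul, hy3, one_pow]
  have h1 : z * y ^ i = 1 := by
    refine orderOf_eq_one_iff.1 (Nat.eq_one_of_dvd_coprimes (k := orderOf (z * y ^ i)) ?_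
      (orderOf_dvd_of_pow_eq_one h3) (orderOf_dvd_natCard Ω (hOΩ hi)))
    exact (Nat.Prime.coprime_iff_not_dvd Nat.prime_three).2 hΩ3
  have hz' : z = (y ^ i)⁻¹ := eq_inv_of_mul_eq_one_left h1
  have hmod : y ^ i = y ^ (i % 3) := by
    conv_lhs => rw [← Nat.mod_add_div i 3, pow_add, pow_mul, hy3, one_pow, mul_one]
  have hne : z ≠ 1 := fun e => by
    have : y = 1 := by simpa [hz] using e
    simp [this] at hy
  rw [hmod] at hz'
  rcases (show i % 3 = 0 ∨ i % 3 = 1 ∨ i % 3 = 2 by omega) with h | h | h <;> rw [h] at hz'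
  · exact absurd (by simpa using hz') hne
  · exact Or.inr (by simpa using hz')
  · refine Or.inl (hz'.trans (inv_eq_of_mul_eq_one_right ?_))
    rw [← pow_succ, hy3]

end Cfsg.Agent.SymNineThree
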