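import Cfsg.Agent.Lib.SymNineThree.IndexTwo
import Cfsg.Agent.Lib.AltNineThree.Main
import Cfsg.Agent.Lib.AltAut.Odd

/-!
# All signs, the single sign odd (owner: helper81)

* `embMon` : the automizer of the model of `3^3:S4` inside the monomial group
* `Ctx.parity_odd` : the values of a character odd on the exchange and on a single sign
* `Ctx.conclusion_of_odd` : then `J` is normal or `G` is the symmetric group of degree nine
-/

set_option autoImplicit false
set_option synthInstance.maxSize 8000
set_option synthInstance.maxHeartbeats 200000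

namespace Cfsg.Agent.SymNineThree

open Cfsg Subgroup
open ThreeCubedSymFour (V3 Q)
open Multiplicative (ofAdd toAdd)

/-- The automizer of the model of `3^3:S4` inside the monomial group. -/
def embMon (n : ThreeCubedSymFour.Mon) : Mon := ⟨n.r, n.w, n.s, n.t, n.u⟩

/-- The product of the signs and of the sign of the permutation. -/
def signBit (m : Mon) : Bool := xor (xor (xor m.s m.t) m.u) m.w

theorem embMon_facts : (∀ a b, embMon (a * b) = embMon a * embMon b) ∧ embMon 1 = 1 ∧
    (∀ a v, act (embMon a) v = ThreeCubedSymFour.actV a v) ∧ (∀ a, signBit (embMon a) = false) ∧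
    (∀ m : Mon, signBit m = false → embMon ⟨m.r, m.w, m.s, m.t⟩ = m) ∧
    (∀ a b, embMon a = embMon b → a = b) := by decide +kernel

theorem signBit_facts : (∀ a b : Mon, signBit (a * b) = xor (signBit a) (signBit b)) ∧
    signBit rot = false ∧ signBit tau = true ∧ signBit eA = true ∧ signBit eBC = false ∧
    (∀ r, Mon.perm r false = rot ^ r.val ∧ Mon.perm r true = rot ^ r.val * tau) ∧
    (∀ v : V3, act rot v = v → act eBC v = v → v = 0) := by decide +kernel

universe u

variable {G : Type u} [Group G] [Finite G] {W : Subgroup Mon} {j : Multiplicative V3 →* G} {s : W →* G}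

/-- The values of a character odd on the exchange and on a single sign. -/
theorem Ctx.parity_odd (E : Ctx W j s 3) (φ : G →* Multiplicative (ZMod 2))
    (ht : φ (el j s 0 tau) = bitVal true) (hA : φ (el j s 0 eA) ≠ 1) :
    ∀ v m, φ (el j s v m) = bitVal (signBit m) := by
  have hW : ∀ m : Mon, m ∈ W := fun m => E.mem rfl
  obtain ⟨hmul, hrot, htau, heA, -, hperm, -⟩ := signBit_facts
  let ψ : Mon →* Multiplicative (ZMod 2) :=
    MonoidHom.mk' (fun m => φ (sm s m)) fun a b => by rw [sm_mul (hW a) (hW b), map_mul]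
  let χ : Mon →* Multiplicative (ZMod 2) :=
    MonoidHom.mk' (fun m => bitVal (signBit m)) fun a b => by rw [hmul, bitVal_xor]
  have hL : ∀ m, m ∈ ψ.eqLocus χ := by
    have hr : rot ∈ ψ.eqLocus χ := by
      show φ (sm s rot) = bitVal (signBit rot)
      rw [hrot, ← el_zero_left (j := j)]
      refine (bit_of_three φ (n := 1) ?_).trans rfl
      rw [pow_one, show el j s 0 rot = el j s 0 (Mon.perm 1 false) from rfl, E.rot_el_cube]
      have key : (0 : V3) + act rot 0 + act (rot * rot) 0 = 0 := by decide +kernel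
      exact (congrArg (fun u => el j s u 1) key).trans el_zero_one
    have ht' : tau ∈ ψ.eqLocus χ := by
      show φ (sm s tau) = bitVal (signBit tau)
      rw [htau, ← el_zero_left (j := j), ht]
    have hA' : eA ∈ ψ.eqLocus χ := by
      show φ (sm s eA) = bitVal (signBit eA)
      rw [heA, ← el_zero_left (j := j)]
      exact (bit_cases _).resolve_left hA
    have hp : ∀ r b, Mon.perm r b ∈ ψ.eqLocus χ := fun r b => by
      cases b
      · rw [(hperm r).1]; exact pow_mem hr _
      · rw [(hperm r).2]; exact mul_mem (pow_mem hr _) ht'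
    have hc : ∀ r, Mon.perm r false * eA * (Mon.perm r false)⁻¹ ∈ ψ.eqLocus χ := fun r =>
      mul_mem (mul_mem (hp r false) hA') (inv_mem (hp r false))
    intro m
    rw [← diag_split m]
    refine mul_mem ?_ (hp _ _)
    obtain ⟨-, -, -, r, r', r'', h | h | h | h⟩ := kind_closure.2 (diagOf m) rfl rfl <;> rw [h]
    exacts [one_mem _, hc _, mul_mem (hc _) (hc _), mul_mem (mul_mem (hc _) (hc _)) (hc _)]
  intro v m
  have e : el j s v m = el j s v 1 * el j s 0 m := by
    rw [el_one_right, el_zero_left, el]
  rw [e, map_mul, E.bit_space, one_mul, el_zero_left]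
  exact hL m

/-- All signs, the single sign odd: the kernel is `A9` or normalizes `J`. -/
theorem Ctx.conclusion_of_odd (E : Ctx W j s 3) (φ : G →* Multiplicative (ZMod 2))
    (ht : φ (el j s 0 tau) = bitVal true) (hA : φ (el j s 0 eA) ≠ 1) :
    normalizer (j.range : Set G) = ⊤ ∨ Nonempty (G ≃* Equiv.Perm (Fin 9)) := by
  classical
  have hW : ∀ m : Mon, m ∈ W := fun m => E.mem rfl
  obtain ⟨hιmul, hι1, hιact, hιker, hιsurj, hιinj⟩ := embMon_facts
  obtain ⟨-, hrot, -, -, heBC, -, hfix⟩ := signBit_facts
  have hpar := E.parity_odd φ ht hA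
  have hmem : ∀ v m, el j s v m ∈ φ.ker ↔ signBit m = false := fun v m => by
    rw [MonoidHom.mem_ker, hpar]
    cases signBit m <;> simp [bitVal_true_ne]
    rfl
  have hJK : j.range ≤ φ.ker := fun g hg => by
    obtain ⟨v, rfl⟩ := exists_el (s := s) hg
    exact (hmem v 1).2 rfl
  let π : Q →* φ.ker := MonoidHom.mk'
    (fun x => ⟨el j s x.left.toAdd (embMon x.right), (hmem _ _).2 (hιker _)⟩) fun a b => Subtype.ext (by
      show el j s (a * b).left.toAdd (embMon (a * b).right) =
        el j s a.left.toAdd (embMon a.right) * el j s b.left.toAdd (embMon b.right)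
      rw [E.el_mul (hW _) (hW _), hιact, ← hιmul]
      rfl)
  have hπ : ∀ x : Q, ((π x : φ.ker) : G) = el j s x.left.toAdd (embMon x.right) := fun x => rfl
  have S : AltNineThree.Setting π := by
    refine ⟨fun a b h => ?_, fun g hg => ?_, fun x hx hx1 => ?_⟩
    · obtain ⟨h1, h2⟩ := E.el_injective (hW _) (hW _) (congrArg Subtype.val h)
      exact SemidirectProduct.ext (Multiplicative.toAdd.injective h1) (hιinj _ _ h2)
    · have hN : (g : G) ∈ normalizer (j.range : Set G) := E.map_conj_space fun p hp => by
        obtain ⟨u, rfl⟩ := exists_el (s := s) hp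
        obtain ⟨w, hw, e⟩ := hg ⟨ofAdd u, 1⟩ rfl
        have e' := congrArg Subtype.val e
        rw [Subgroup.coe_mul, Subgroup.coe_mul, InvMemClass.coe_inv, hπ, hπ, hw, hι1] at e'
        rw [show el j s u 1 = el j s (ofAdd u).toAdd 1 from rfl, ← e']
        exact E.el_mem_normalizer (one_mem W) _
      obtain ⟨v, m, hm, e⟩ := E.exists_normal_form hN
      have hs : signBit m = false := (hmem v m).1 (e ▸ g.2)
      refine ⟨⟨ofAdd v, ⟨m.r, m.w, m.s, m.t⟩⟩, Subtype.ext ?_⟩
      rw [hπ, hιsurj m hs, e]
      rfl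
    · set C := centralizer ({π x} : Set φ.ker)
      have hxJ : ((π x : φ.ker) : G) ∈ j.range := by rw [hπ, hx, hι1]; exact el_mem_range _
      set D := Cfsg.pPrimeCore 3 C
      set K' := (D.map C.subtype).map φ.ker.subtype
      have hK : K' = ⊥ := le_bot_iff.1 (E.sig K' le_top (fun p hp => ?_) ?_)
      · exact (Subgroup.map_eq_bot_iff_of_injective _ C.subtype_injective).1
          ((Subgroup.map_eq_bot_iff_of_injective _ φ.ker.subtype_injective).1 hK)
      · have hpC : (⟨p, hJK hp⟩ : φ.ker) ∈ C := mem_centralizer_singleton_iff.2 (Subtype.ext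
          (congrArg Subtype.val (E.space_comm.is_comm.comm ⟨p, hp⟩ ⟨_, hxJ⟩) :))
        refine mem_normalizer_iff_map_conj_eq.2 (eq_of_le_of_card_ge ?_
          (card_map_of_injective (K := K') (f := (MulAut.conj p).toMonoidHom) (MulAut.conj p).injective).ge)
        rintro _ ⟨_, ⟨_, ⟨d, hd, rfl⟩, rfl⟩, rfl⟩
        exact ⟨_, ⟨_, (Cores.pPrimeCore_normal 3 C).conj_mem d hd ⟨_, hpC⟩, rfl⟩, rfl⟩
      · rw [card_map_of_injective φ.ker.subtype_injective, card_map_of_injective C.subtype_injective]
        exact Cores.coprime_card_pPrimeCore 3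
  rcases S.conclusion with htop | ⟨⟨e⟩⟩
  · left
    have h1 : φ.ker ≤ normalizer (j.range : Set G) := fun g hg => by
      obtain ⟨x, hx⟩ : (⟨g, hg⟩ : φ.ker) ∈ π.range := htop ▸ mem_top _
      rw [show g = ((π x : φ.ker) : G) by rw [hx], hπ]
      exact E.el_mem_normalizer (hW _) _
    refine eq_top_iff.2 (E.le_of_normal (N := φ.ker) ?_ hJK h1)
    rw [normalizer_eq_top_iff.2 (MonoidHom.normal_ker φ)]
  · right
    let Ψ : G →* MulAut (alternatingGroup (Fin 9)) :=
      (MulAut.congr e).toMonoidHom.comp MulAut.conjNormal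
    have hΨ : Function.Injective Ψ := by
      refine (injective_iff_map_eq_one Ψ).2 fun g hg => ?_
      have hg' : MulAut.conjNormal g = (1 : MulAut φ.ker) :=
        (MulAut.congr e).injective (hg.trans (map_one _).symm)
      have hc : ∀ q ∈ φ.ker, g * q = q * g := fun q hq => by
        have h := congrArg Subtype.val (DFunLike.congr_fun hg' ⟨q, hq⟩)
        rw [MulAut.conjNormal_apply] at h
        exact mul_inv_eq_iff_eq_mul.1 h
      obtain ⟨v, rfl⟩ := exists_el (s := s) (E.cent_space fun u => hc _ (hJK (el_mem_range u)))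
      have hv : v = 0 := hfix v ((E.el_comm_space (hW _) (v := 0)).1 (hc _ ((hmem 0 rot).2 hrot)).symm)
        ((E.el_comm_space (hW _) (v := 0)).1 (hc _ ((hmem 0 eBC).2 heBC)).symm)
      rw [hv, el_zero_one]
    let Φ : Equiv.Perm (Fin 9) →* MulAut (alternatingGroup (Fin 9)) := MulAut.conjNormal
    have hΦ : Function.Surjective Φ := fun θ =>
      AltAut.exists_conjNormal_of_threeCycle (by norm_num) θ (AltAut.threeCycle_of_ne_six (by norm_num) θ)
    have hidx : φ.ker.index = 2 := by
      rw [index_ker]
      have : φ.range = ⊤ := eq_top_iff.2 fun x _ => by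
        rcases bit_cases x with rfl | rfl
        exacts [one_mem _, ⟨_, ht⟩]
      rw [this, Subgroup.card_top, Nat.card_congr Multiplicative.toAdd, Nat.card_zmod]
    have hcard : Nat.card G = Nat.card (Equiv.Perm (Fin 9)) := by
      rw [← φ.ker.card_mul_index, hidx, Nat.card_congr e.toEquiv,
        ← (alternatingGroup (Fin 9)).card_mul_index, alternatingGroup.index_eq_two]
    have : Finite (MulAut (alternatingGroup (Fin 9))) := Finite.of_surjective Φ hΦ
    have hle : Nat.card (MulAut (alternatingGroup (Fin 9))) ≤ Nat.card G :=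
      hcard ▸ Nat.card_le_card_of_surjective Φ hΦ
    have hge := Nat.card_le_card_of_injective Ψ hΨ
    have hb : Function.Bijective Ψ := (Nat.bijective_iff_injective_and_card Ψ).2 ⟨hΨ, le_antisymm hge hle⟩
    have hb' : Function.Bijective Φ :=
      (Nat.bijective_iff_surjective_and_card Φ).2 ⟨hΦ, hcard ▸ le_antisymm hge hle⟩
    exact ⟨(MulEquiv.ofBijective Ψ hb).trans (MulEquiv.ofBijective Φ hb').symm⟩

end Cfsg.Agent.SymNineThree
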