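import Cfsg.Agent.Lib.SymNineThree.SixTriple

/-!
# An index two subgroup from a large centralizer of an axis

* `not_dvd_index_two` : Sylow 2-subgroups by their normalizers
* `Six.involution_type`, `Six.sign_class` : the involutions of the normalizer of the axis
* `Six.odd_index` : the normalizer of the axis contains a Sylow 2-subgroup of `C(t)`
* `Six.exists_parity` : the transfer
-/

set_option autoImplicit false
set_option synthInstance.maxSize 8000
set_option synthInstance.maxHeartbeats 200000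

namespace Cfsg.Agent.SymNineThree

open Cfsg Subgroup
open ThreeCubedSymFour (V3)
open Multiplicative (ofAdd toAdd)
open Equiv (Perm swap)

theorem parity_unit_mul : ∀ p q : ℤˣ,
    bitVal (decide (p * q = -1)) = bitVal (decide (p = -1)) * bitVal (decide (q = -1)) := by decide +kernel

theorem sign_conj_facts :
    (∃ r, Mon.perm r false * eA * (Mon.perm r false)⁻¹ = sgnB) ∧
    (∃ r, Mon.perm r false * (eA * sgnB) * (Mon.perm r false)⁻¹ = eBC) ∧ eA * eBC = negOne ∧
    (∀ p q r : Bool, xor (xor p q) r = false →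
      (p = false ∧ q = false ∧ r = false) ∨ (p = true ∧ q = true) ∨ (p = true ∧ r = true) ∨
        (q = true ∧ r = true)) := by decide +kernel

theorem sign_exchange (c : Bool) : Perm.sign (zP c) = -1 := by
  obtain ⟨-, hz, -, -, hz2, -⟩ := moved_values c
  rw [(moved_cases hz2).2, hz]
  cases c <;> rfl

/-- A 2-subgroup is Sylow if its normalizer has no further elements of order a power of two. -/
theorem not_dvd_index_two {G : Type*} [Group G] [Finite G] {C P : Subgroup G} (hPC : P ≤ C)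
    (hP : IsPGroup 2 P)
    (h : ∀ g ∈ C, g ∈ normalizer (P : Set G) → ∀ n : ℕ, g ^ 2 ^ n = 1 → g ∈ P) :
    ¬ 2 ∣ (P.subgroupOf C).index := by
  have : Fact (Nat.Prime 2) := ⟨Nat.prime_two⟩
  obtain ⟨T, hT⟩ := (hP.comap_subtype (K := C)).exists_le_sylow
  suffices (T : Subgroup C) = P.subgroupOf C by
    rw [← this]; exact T.not_dvd_index
  refine le_antisymm ?_ hT
  by_contra hne
  haveI := T.isPGroup'.isNilpotent
  have hlt : (P.subgroupOf C).subgroupOf (T : Subgroup C) < ⊤ :=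
    lt_top_iff_ne_top.2 fun e => hne (subgroupOf_eq_top.1 e)
  obtain ⟨g, hgN, hgn⟩ := SetLike.exists_of_lt (normalizerCondition_of_isNilpotent _ hlt)
  refine hgn (mem_subgroupOf.2 (mem_subgroupOf.2 ?_))
  obtain ⟨n, hn⟩ := T.isPGroup' g
  refine h _ (SetLike.coe_mem (g : C)) (mem_normalizer_iff.2 fun p => ?_) n (by
    simpa using congrArg (fun u : (T : Subgroup C) => ((u : C) : G)) hn)
  constructor
  · intro hp
    have := (mem_normalizer_iff.1 hgN ⟨⟨p, hPC hp⟩, hT (mem_subgroupOf.2 hp)⟩).1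
      (mem_subgroupOf.2 (mem_subgroupOf.2 hp))
    simpa [mem_subgroupOf] using this
  · intro hp
    have hpC : p ∈ C := by
      have := C.mul_mem (C.mul_mem (C.inv_mem (g : C).2) (hPC hp)) (g : C).2
      simpa [mul_assoc] using this
    have hpT : (⟨p, hpC⟩ : C) ∈ (T : Subgroup C) := by
      have h1 : (⟨_, hPC hp⟩ : C) ∈ (T : Subgroup C) := hT (mem_subgroupOf.2 hp)
      have e : (⟨p, hpC⟩ : C) = (g : C)⁻¹ * ⟨_, hPC hp⟩ * (g : C) :=
        Subtype.ext (by simp [mul_assoc])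
      rw [e]
      exact mul_mem (mul_mem (inv_mem g.2) h1) g.2
    have := (mem_normalizer_iff.1 hgN ⟨⟨p, hpC⟩, hpT⟩).2 (mem_subgroupOf.2 (mem_subgroupOf.2 (by simpa using hp)))
    simpa [mem_subgroupOf] using this

variable {G : Type*} [Group G] [Finite G] {W : Subgroup Mon} {j : Multiplicative V3 →* G} {s : W →* G}
  {E : Ctx W j s 3} {ι : Perm (Fin 6) →* G} {c : Bool}

theorem Setting.el_conj_mon (E : Setting W j s) {p m : Mon} (hp : p ∈ W) (hm : m ∈ W) :
    el j s 0 p * el j s 0 m * (el j s 0 p)⁻¹ = el j s 0 (p * m * p⁻¹) := by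
  rw [E.el_inv hp, show act p⁻¹ (0 : V3) = 0 from (actAdd _).map_zero, neg_zero, E.el_mul hp hm,
    show act p (0 : V3) = 0 from (actAdd p).map_zero, add_zero, E.el_mul (mul_mem hp hm) (inv_mem hp),
    show act (p * m) (0 : V3) = 0 from (actAdd _).map_zero, add_zero]

/-- Elements of the normalizer of the axis. -/
theorem Six.axPart_mem (X : Six E ι c) (x : ZMod 3) (ε : Bool) (σ : Perm (Fin 6)) :
    axPart j s x ε * ι σ ∈ normalizer (zpowers (el j s axA 1) : Set G) := by
  set a := el j s axA 1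
  refine mul_mem (mem_normalizer_iff_map_conj_eq.2 (eq_of_le_of_card_ge ?_
    (le_of_eq (card_map_of_injective (K := zpowers a) (MulAut.conj _).injective).symm)))
    (mem_normalizer_iff_map_conj_eq.2 (eq_of_le_of_card_ge ?_
    (le_of_eq (card_map_of_injective (K := zpowers a) (MulAut.conj _).injective).symm)))
  · rw [MonoidHom.map_zpowers, zpowers_le]
    show axPart j s x ε * a * (axPart j s x ε)⁻¹ ∈ zpowers a
    rw [axPart, E.el_conj (E.mem rfl)]
    cases ε
    · rw [show axMon false = 1 from rfl, act_one]; exact mem_zpowers _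
    · rw [show axMon true = eA from rfl, axMon_facts.2.2.1, E.el_neg]; exact inv_mem (mem_zpowers _)
  · rw [MonoidHom.map_zpowers, zpowers_le]
    show ι σ * a * (ι σ)⁻¹ ∈ zpowers a
    rw [mem_centralizer_singleton_iff.1 (X.cent σ), mul_inv_cancel_right]
    exact mem_zpowers a

theorem Six.axPart_zero (X : Six E ι c) (ε : Bool) : axPart j s 0 ε = el j s 0 (axMon ε) := by
  rw [axPart, zero_smul]

theorem Six.axPart_one (X : Six E ι c) : axPart j s 0 false = 1 := by
  rw [X.axPart_zero, show axMon false = 1 from rfl, el_zero_one]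

/-- The classes of the involutions of the normalizer. -/
theorem Six.involution_type (X : Six E ι c) {x : ZMod 3} {ε : Bool} {σ : Perm (Fin 6)}
    (h : axPart j s x ε * ι σ * (axPart j s x ε * ι σ) = 1) :
    σ * σ = 1 ∧ ∃ m ∈ normalizer (zpowers (el j s axA 1) : Set G), ∃ ρ,
      ((ρ = xP c ∧ Perm.sign σ = -1) ∨ (ρ = zP c ∧ Perm.sign σ = -1) ∨
        (ρ = 1 ∧ Perm.sign σ = 1) ∨ (ρ = xP c * yP c ∧ Perm.sign σ = 1)) ∧
      (∃ τ, τ * σ * τ⁻¹ = ρ) ∧
      m * (axPart j s x ε * ι σ) * m⁻¹ = el j s 0 (axMon ε) * ι ρ := by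
  set d := axPart j s x ε
  obtain ⟨x', hx'⟩ := X.axPart_mul x x ε ε
  have h1 : axPart j s x' (xor ε ε) * ι (σ * σ) = axPart j s 0 false * ι 1 := by
    rw [← hx', X.axPart_one, map_one, one_mul, map_mul]
    calc d * d * (ι σ * ι σ) = d * (d * ι σ) * ι σ := by group
      _ = d * (ι σ * d) * ι σ := by rw [(X.axPart_comm x ε σ).eq]
      _ = d * ι σ * (d * ι σ) := by group
      _ = 1 := h
  obtain ⟨hσ, -⟩ := X.dec_unique h1
  have hd : d * d = 1 := by
    simp only [hσ, map_one, mul_one, X.axPart_one] at h1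
    rw [hx', h1]
  obtain ⟨y, hy⟩ : ∃ y, axPart j s y false * d * (axPart j s y false)⁻¹ = el j s 0 (axMon ε) := by
    cases ε
    · refine ⟨0, ?_⟩
      rw [X.axPart_one, one_mul, inv_one, mul_one, ← X.axPart_zero]
      simp only [d, axPart] at hd ⊢
      rw [show axMon false = 1 from rfl] at hd ⊢
      rw [E.el_mul (one_mem W) (one_mem W), mul_one, E.el_eq_one_iff (one_mem W), act_one] at hd
      rw [axMon_facts.2.2.2.2.2.2.2.2.1 x hd.1]
    · refine ⟨x, ?_⟩
      obtain ⟨-, e⟩ := E.involution_form (E.mem rfl : eA ∈ W) hd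
      have e' : axPart j s x false = (el j s (-(x • axA)) 1)⁻¹ := by
        rw [E.el_neg, inv_inv]; rfl
      rw [e', inv_inv, show d = _ from e]
      show _ = el j s 0 eA
      group
  obtain ⟨ρ, τ, hρ, hτ⟩ : ∃ ρ τ, ((ρ = xP c ∧ Perm.sign σ = -1) ∨ (ρ = zP c ∧ Perm.sign σ = -1) ∨
      (ρ = 1 ∧ Perm.sign σ = 1) ∨ (ρ = xP c * yP c ∧ Perm.sign σ = 1)) ∧ τ * σ * τ⁻¹ = ρ := by
    rcases involution_classes c hσ with ⟨⟨τ, e⟩, hs⟩ | ⟨⟨τ, e⟩, hs⟩ | ⟨h' | ⟨τ, e⟩, hs⟩
    · exact ⟨_, τ, Or.inl ⟨rfl, hs⟩, e⟩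
    · exact ⟨_, τ, Or.inr (Or.inl ⟨rfl, hs⟩), e⟩
    · exact ⟨_, 1, Or.inr (Or.inr (Or.inl ⟨rfl, hs⟩)), by rw [h']; group⟩
    · exact ⟨_, τ, Or.inr (Or.inr (Or.inr ⟨rfl, hs⟩)), e⟩
  refine ⟨hσ, ι τ * axPart j s y false, ?_, ρ, hρ, ⟨τ, hτ⟩, ?_⟩
  · rw [← (X.axPart_comm y false τ).eq]; exact X.axPart_mem _ _ _
  · set q := axPart j s y false
    have hc : Commute (ι τ) (el j s 0 (axMon ε)) := X.axPart_zero ε ▸ (X.axPart_comm 0 ε τ).symm
    calc ι τ * q * (d * ι σ) * (ι τ * q)⁻¹ = ι τ * (q * d * (ι σ * q⁻¹)) * (ι τ)⁻¹ := by group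
      _ = ι τ * (q * d * (q⁻¹ * ι σ)) * (ι τ)⁻¹ := by rw [((X.axPart_comm y false σ).inv_left).eq]
      _ = ι τ * el j s 0 (axMon ε) * ι σ * (ι τ)⁻¹ := by rw [← hy]; group
      _ = el j s 0 (axMon ε) * (ι τ * ι σ * (ι τ)⁻¹) := by rw [hc.eq]; group
      _ = _ := by rw [← map_inv, ← map_mul, ← map_mul, hτ]

/-- Conjugates of the single sign. -/
theorem Six.val_x_conj (X : Six E ι c) : ∃ g, g * el j s 0 eA * g⁻¹ = ι (xP c) := by
  obtain ⟨⟨r, hr⟩, -⟩ := sign_conj_facts
  exact ⟨el j s 0 (Mon.perm r false), by rw [E.el_conj_mon (E.mem rfl) (E.mem rfl), hr, X.val_x]⟩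

theorem Six.val_ex_conj (X : Six E ι c) :
    ∃ g, g * (el j s 0 eA * ι (xP c)) * g⁻¹ = el j s 0 eBC := by
  obtain ⟨-, ⟨r, hr⟩, -⟩ := sign_conj_facts
  refine ⟨el j s 0 (Mon.perm r false), ?_⟩
  rw [X.val_x, E.el_mul (E.mem rfl) (E.mem rfl), show act eA (0 : V3) = 0 from (actAdd eA).map_zero,
    add_zero, E.el_conj_mon (E.mem rfl) (E.mem rfl), hr]

theorem Six.val_ez (X : Six E ι c) : el j s 0 eA * ι (zP c) = el j s 0 (eA * tau) := by
  rw [X.val_z, E.el_mul (E.mem rfl) (E.mem rfl), show act eA (0 : V3) = 0 from (actAdd eA).map_zero,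
    add_zero]

theorem Six.val_exy (X : Six E ι c) : el j s 0 eA * ι (xP c * yP c) = el j s 0 negOne := by
  rw [X.val_double, E.el_mul (E.mem rfl) (E.mem rfl), show act eA (0 : V3) = 0 from (actAdd eA).map_zero,
    add_zero, sign_conj_facts.2.2.1]

/-- The conjugates of the first sign in the normalizer. -/
theorem Six.sign_class (X : Six E ι c) {x : ZMod 3} {ε : Bool} {σ : Perm (Fin 6)} {g : G}
    (h : g * el j s 0 eA * g⁻¹ = axPart j s x ε * ι σ) :
    σ * σ = 1 ∧ (ε = true → σ = 1) ∧ (ε = false → moved σ = moved (xP c)) := by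
  have he : el j s 0 eA * el j s 0 eA = 1 := E.sm_sq (E.mem rfl) octMon_facts.2.2.2.2.2
  obtain ⟨hσ, m, -, ρ, hρ, ⟨τ, hτ⟩, hm⟩ := X.involution_type (x := x) (ε := ε) (σ := σ) (by
    rw [← h]
    calc g * el j s 0 eA * g⁻¹ * (g * el j s 0 eA * g⁻¹) = g * (el j s 0 eA * el j s 0 eA) * g⁻¹ := by group
      _ = 1 := by rw [he]; group)
  set k := m * g
  have hk : k * el j s 0 eA * k⁻¹ = el j s 0 (axMon ε) * ι ρ := by
    calc k * el j s 0 eA * k⁻¹ = m * (g * el j s 0 eA * g⁻¹) * m⁻¹ := by simp only [k]; group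
      _ = _ := by rw [h, hm]
  refine ⟨hσ, ?_, ?_⟩ <;> rintro rfl
  · rw [show axMon true = eA from rfl] at hk
    rcases hρ with ⟨rfl, -⟩ | ⟨rfl, -⟩ | ⟨rfl, -⟩ | ⟨rfl, -⟩
    · obtain ⟨q, hq⟩ := X.val_ex_conj
      refine absurd ?_ (X.sign_ne_double (q * k))
      rw [← hq, ← hk]; group
    · exact absurd (hk.trans X.val_ez) (E.sign_ne_twist k)
    · exact conj_eq_one_iff.1 hτ
    · refine absurd ?_ (E.sign_ne_negOne k⁻¹)
      rw [← X.val_exy, ← hk]; group
  · rw [show axMon false = 1 from rfl, el_zero_one, one_mul] at hk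
    rcases hρ with ⟨rfl, -⟩ | ⟨rfl, -⟩ | ⟨rfl, -⟩ | ⟨rfl, -⟩
    · rw [← hτ, moved_conj]
    · exact absurd (hk.trans X.val_z) (E.sign_ne_exchange k)
    · rw [map_one, conj_eq_one_iff] at hk
      exact absurd ((E.el_eq_one_iff (E.mem rfl)).1 hk).2 (by decide +kernel)
    · exact absurd (hk.trans X.val_double) (X.sign_ne_double k)

/-- The normalizer of the axis contains a Sylow 2-subgroup of the centralizer of the exchange. -/
theorem Six.odd_index (X : Six E ι c) :
    ¬ 2 ∣ (normalizer (zpowers (el j s axA 1) : Set G)).relIndex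
      (centralizer ({el j s 0 tau} : Set G)) := by
  have : Fact (Nat.Prime 2) := ⟨Nat.prime_two⟩
  obtain ⟨hprod, hcom, hmv, -, hlz, hl2, hlinj, -⟩ := triple_facts c
  set M := normalizer (zpowers (el j s axA 1) : Set G)
  set t := el j s 0 tau
  set C := centralizer ({t} : Set G)
  set e := el j s 0 eA with hedef
  set Mc := M ⊓ C
  have he0 : e = axPart j s 0 true * ι 1 := by rw [X.axPart_zero, map_one, mul_one]; rfl
  have hιM : ∀ σ, ι σ ∈ M := fun σ => by
    have := X.axPart_mem 0 false σ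
    rwa [X.axPart_one, one_mul] at this
  have hcz : ∀ {x ε σ}, axPart j s x ε * ι σ ∈ C ↔ σ * zP c = zP c * σ := by
    intro x ε σ
    have h2 : Commute (axPart j s x ε) t := by
      rw [show t = ι (zP c) from X.val_z.symm]; exact X.axPart_comm x ε _
    rw [mem_centralizer_singleton_iff]
    constructor
    · intro h
      refine X.inj ?_
      rw [map_mul, map_mul, X.val_z]
      have h1 := h2.inv_left.mul_left h
      rwa [inv_mul_cancel_left] at h1
    · intro h
      exact (h2.mul_left (show Commute (ι σ) t by rw [show t = ι (zP c) from X.val_z.symm]; exact (show Commute σ (zP c) from h).map ι)).eq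
  have heM : e ∈ Mc := he0 ▸ ⟨X.axPart_mem _ _ _, hcz.2 (by rw [one_mul, mul_one])⟩
  have hιC : ∀ {σ}, σ * zP c = zP c * σ → ι σ ∈ Mc := fun {σ} h => ⟨hιM σ, by
    have := (hcz (x := 0) (ε := false)).2 h
    rwa [X.axPart_one, one_mul] at this⟩
  set Ω := tripleGrp ι c
  have hΩM : Ω ≤ Mc := fun g hg => by
    obtain ⟨σ, rfl, hσ⟩ := tripleGrp_form hg
    exact hιC (triple_cent c σ hσ).1
  set Te : Subgroup G := zpowers e ⊔ Ω
  have hTe2 : IsPGroup 2 Te := by
    refine IsPGroup.to_sup_of_normal_right' (fun q => ⟨1, Subtype.ext ?_⟩) tripleGrp_isPGroup ?_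
    · obtain ⟨i, hi⟩ := mem_zpowers_iff.1 q.2
      rw [pow_one, SubgroupClass.coe_pow, ← hi, ← zpow_natCast, ← zpow_mul, mul_comm, zpow_mul,
        zpow_natCast, pow_two, E.sm_sq (E.mem rfl) octMon_facts.2.2.2.2.2, one_zpow]
      rfl
    · refine zpowers_le.2 (mem_normalizer_iff_map_conj_eq.2 (eq_of_le_of_card_ge ?_
        (le_of_eq (card_map_of_injective (K := Ω) (MulAut.conj e).injective).symm)))
      rintro _ ⟨g, hg, rfl⟩
      obtain ⟨σ, rfl, -⟩ := tripleGrp_form hg
      show e * ι σ * e⁻¹ ∈ Ω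
      rwa [(X.comm_e σ).eq, mul_inv_cancel_right]
  obtain ⟨S, hS⟩ := (hTe2.comap_subtype (K := Mc)).exists_le_sylow
  set T := (S : Subgroup Mc).map Mc.subtype with hTdef
  have hTM : T ≤ Mc := map_subtype_le _
  have hT2 : IsPGroup 2 T := S.isPGroup'.map _
  have heT : e ∈ T := ⟨⟨e, heM⟩, hS (mem_subgroupOf.2 (mem_sup_left (mem_zpowers e))), rfl⟩
  have hΩT : Ω ≤ T := fun g hg => ⟨⟨g, hΩM hg⟩, hS (mem_subgroupOf.2 (mem_sup_right hg)), rfl⟩
  -- the form of the elements of `T`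
  have hTform : ∀ g ∈ T, ∃ ε σ, g = axPart j s 0 ε * ι σ ∧ σ * zP c = zP c * σ := by
    intro g hg
    obtain ⟨x, ε, σ, rfl⟩ := X.dec_normalizer (hTM hg).1
    have hz := hcz.1 (hTM hg).2
    obtain rfl : x = 0 := by
      have h1 : axPart j s x ε * ι σ * e * (axPart j s x ε * ι σ)⁻¹ * e = el j s (x • axA + x • axA) 1 := by
        have hd : axPart j s x ε = el j s (x • axA) 1 * el j s 0 (axMon ε) := by
          rw [axPart, E.el_mul (one_mem W) (E.mem rfl), act_one, add_zero, one_mul]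
        have hce : Commute (el j s 0 (axMon ε)) e := by
          cases ε
          · rw [show axMon false = 1 from rfl, el_zero_one]; exact Commute.one_left _
          · exact Commute.refl _
        calc axPart j s x ε * ι σ * e * (axPart j s x ε * ι σ)⁻¹ * e
            = axPart j s x ε * (ι σ * e) * (ι σ)⁻¹ * (axPart j s x ε)⁻¹ * e := by group
          _ = axPart j s x ε * e * (axPart j s x ε)⁻¹ * e := by rw [hedef, ← (X.comm_e σ).eq]; group
          _ = el j s (x • axA) 1 * (el j s 0 (axMon ε) * e) * (el j s 0 (axMon ε))⁻¹ *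
              (el j s (x • axA) 1)⁻¹ * e := by rw [hd]; group
          _ = el j s (x • axA) 1 * (e * (el j s (x • axA) 1)⁻¹ * e) := by rw [hce.eq]; group
          _ = _ := by
            rw [← E.el_neg, hedef, E.el_conj_involution (E.mem rfl) octMon_facts.2.2.2.2.2,
              E.el_mul (one_mem W) (one_mem W), act_one, mul_one]
            congr 2
            have key : ∀ x : ZMod 3, act eA (-(x • axA)) = x • axA := by decide +kernel
            exact key x
      have h2 : el j s (x • axA + x • axA) 1 ∈ T := h1 ▸ mul_mem (mul_mem (mul_mem hg heT) (inv_mem hg)) heT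
      obtain ⟨n, hn⟩ := hT2 ⟨_, h2⟩
      have h3 : el j s (x • axA + x • axA) 1 = 1 := orderOf_eq_one_iff.1 (Nat.eq_one_of_dvd_coprimes
        (Nat.Coprime.pow_left n (show Nat.Coprime 2 3 by norm_num))
        (orderOf_dvd_of_pow_eq_one (by simpa using congrArg Subtype.val hn))
        (orderOf_dvd_of_pow_eq_one (E.space_cube (el_mem_range _))))
      exact axMon_facts.2.2.2.2.2.2.2.2.1 x ((E.el_eq_one_iff (one_mem W)).1 h3).1
    exact ⟨ε, σ, rfl, hz⟩
  -- elements of `C` normalizing `T`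
  have hkey : ∀ g ∈ C, g ∈ normalizer (T : Set G) → g ∈ M := by
    intro g hg hgT
    have himg : ∀ k, ∃ ε σ, g * ι (lP c k) * g⁻¹ = axPart j s 0 ε * ι σ ∧ (ε = true → σ = 1) ∧
        (ε = false → ∃ k', σ = lP c k') := by
      intro k
      obtain ⟨ε, σ, hy, hz⟩ := hTform _ ((mem_normalizer_iff.1 hgT _).1 (hΩT (subset_closure ⟨k, rfl⟩)))
      obtain ⟨τ, hτ⟩ := involution_conj (moved_values c).2.2.2.1 (hl2 k) (hmv k).symm
      obtain ⟨q, hq⟩ := X.val_x_conj
      obtain ⟨hσ, h1, h2⟩ := X.sign_class (g := g * ι τ * q) (x := 0) (ε := ε) (σ := σ) (by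
        rw [← hy]
        show _ = g * ι (lP c k) * g⁻¹
        rw [← hτ, map_mul, map_mul, map_inv, ← hq]; group)
      exact ⟨ε, σ, hy, h1, fun he => triple_complete c σ hz hσ (h2 he)⟩
    choose ε σ hy h1 h2 using himg
    obtain ⟨x', hx'⟩ := X.axPart_mul 0 0 (ε 0) (ε 1)
    obtain ⟨x'', hx''⟩ := X.axPart_mul x' 0 (xor (ε 0) (ε 1)) (ε 2)
    have hsum : xor (xor (ε 0) (ε 1)) (ε 2) = false := by
      refine (X.dec_unique (x := x'') (x' := 0) (σ := σ 0 * σ 1 * σ 2) (σ' := zP c) ?_).2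
      have hC : g * t * g⁻¹ = t := by rw [mem_centralizer_singleton_iff.1 hg, mul_inv_cancel_right]
      rw [X.axPart_one, one_mul, X.val_z]
      refine Eq.trans ?_ hC
      rw [← hx'', ← hx', map_mul, map_mul, show t = _ from X.exchange_eq,
        show g * (ι (lP c 0) * ι (lP c 1) * ι (lP c 2)) * g⁻¹ = (g * ι (lP c 0) * g⁻¹) *
          (g * ι (lP c 1) * g⁻¹) * (g * ι (lP c 2) * g⁻¹) by group, hy, hy, hy]
      calc axPart j s 0 (ε 0) * axPart j s 0 (ε 1) * axPart j s 0 (ε 2) * (ι (σ 0) * ι (σ 1) * ι (σ 2))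
          = axPart j s 0 (ε 0) * axPart j s 0 (ε 1) * (axPart j s 0 (ε 2) * (ι (σ 0) * ι (σ 1))) *
              ι (σ 2) := by group
        _ = axPart j s 0 (ε 0) * axPart j s 0 (ε 1) * ((ι (σ 0) * ι (σ 1)) * axPart j s 0 (ε 2)) *
              ι (σ 2) := by rw [((X.axPart_comm 0 (ε 2) _).mul_right (X.axPart_comm 0 (ε 2) _)).eq]
        _ = axPart j s 0 (ε 0) * (axPart j s 0 (ε 1) * ι (σ 0)) * ι (σ 1) * axPart j s 0 (ε 2) *
              ι (σ 2) := by group
        _ = axPart j s 0 (ε 0) * (ι (σ 0) * axPart j s 0 (ε 1)) * ι (σ 1) * axPart j s 0 (ε 2) *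
              ι (σ 2) := by rw [(X.axPart_comm 0 (ε 1) _).eq]
        _ = _ := by group
    have hne : ∀ k k', k ≠ k' → ε k = true → ε k' = true → False := fun k k' hkk e1 e2 => by
      have h := (hy k).trans ((congrArg₂ (fun ε σ => axPart j s 0 ε * ι σ) (e1.trans e2.symm)
        ((h1 k e1).trans (h1 k' e2).symm)).trans (hy k').symm)
      exact hlinj k k' hkk (X.inj (mul_left_cancel (mul_right_cancel h)))
    have hε : ∀ k, ε k = false := by
      rcases sign_conj_facts.2.2.2 _ _ _ hsum with ⟨a0, a1, a2⟩ | ⟨a0, a1⟩ | ⟨a0, a2⟩ | ⟨a1, a2⟩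
      · intro k; fin_cases k <;> assumption
      · exact (hne 0 1 (by decide) a0 a1).elim
      · exact (hne 0 2 (by decide) a0 a2).elim
      · exact (hne 1 2 (by decide) a1 a2).elim
    choose π hπ using fun k => h2 k (hε k)
    have hyπ : ∀ k, g * ι (lP c k) * g⁻¹ = ι (lP c (π k)) := fun k => by
      rw [hy, hε, X.axPart_one, one_mul, hπ]
    have hπinj : Function.Injective π := fun k k' e' => by
      by_contra hkk
      exact hlinj k k' hkk (X.inj (mul_left_cancel (mul_right_cancel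
        ((hyπ k).trans ((congrArg (fun i => ι (lP c i)) e').trans (hyπ k').symm)))))
    obtain ⟨τ, -, hτ⟩ := triple_perms c (Equiv.ofBijective π (Finite.injective_iff_bijective.1 hπinj))
    have hX : (ι τ)⁻¹ * g ∈ tripleCent ι c := by
      refine mem_centralizer_iff.2 ?_
      rintro _ ⟨k, rfl⟩
      refine (mul_inv_eq_iff_eq_mul.1 ?_).symm
      show (ι τ)⁻¹ * g * ι (lP c k) * ((ι τ)⁻¹ * g)⁻¹ = ι (lP c k)
      calc (ι τ)⁻¹ * g * ι (lP c k) * ((ι τ)⁻¹ * g)⁻¹ = (ι τ)⁻¹ * (g * ι (lP c k) * g⁻¹) * ι τ := by group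
        _ = (ι τ)⁻¹ * ι (τ * lP c k * τ⁻¹) * ι τ := by rw [hyπ, hτ]; rfl
        _ = _ := by rw [map_mul, map_mul, map_inv]; group
    have := mul_mem (hιM τ) (X.tripleCent_le hX)
    rwa [mul_inv_cancel_left] at this
  have hidx : ¬ 2 ∣ (T.subgroupOf C).index := by
    refine not_dvd_index_two (hTM.trans inf_le_right) hT2 fun g hg hgT n hn => ?_
    have hgM : g ∈ Mc := ⟨hkey g hg hgT, hg⟩
    have hle : T ⊔ zpowers g ≤ Mc := sup_le hTM (zpowers_le.2 hgM)
    have hZ : IsPGroup 2 (zpowers g) := fun q => ⟨n, Subtype.ext (by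
      obtain ⟨i, hi⟩ := mem_zpowers_iff.1 q.2
      rw [SubgroupClass.coe_pow, ← hi, ← zpow_natCast, ← zpow_mul, mul_comm, zpow_mul, zpow_natCast, hn,
        one_zpow]
      rfl)⟩
    have h2 : IsPGroup 2 ↥(T ⊔ zpowers g) :=
      IsPGroup.to_sup_of_normal_left' hT2 hZ (zpowers_le.2 hgT)
    have heq := S.is_maximal' (h2.comap_subtype (K := Mc)) fun y hy =>
      mem_subgroupOf.2 (mem_sup_left ⟨y, hy, rfl⟩)
    exact ⟨⟨g, hgM⟩, heq ▸ mem_subgroupOf.2 (mem_sup_right (mem_zpowers g)), rfl⟩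
  intro hdvd
  refine hidx (hdvd.trans ?_)
  rw [← inf_relIndex_right M C]
  exact ⟨T.relIndex Mc, ((relIndex_mul_relIndex T Mc C hTM inf_le_right).symm.trans (mul_comm _ _))⟩

/-- A character of `G` odd on the exchange and on the first sign. -/
theorem Six.exists_parity (X : Six E ι c) :
    ∃ φ : G →* Multiplicative (ZMod 2), φ (el j s 0 tau) = bitVal true ∧ φ (el j s 0 eA) ≠ 1 := by
  classical
  set M := normalizer (zpowers (el j s axA 1) : Set G)
  set t := el j s 0 tau
  have hdec : ∀ g : M, ∃ σ, ∃ x ε, (g : G) = axPart j s x ε * ι σ := fun g => by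
    obtain ⟨x, ε, σ, e⟩ := X.dec_normalizer g.2
    exact ⟨σ, x, ε, e⟩
  choose μ fx fe hμ using hdec
  have hμv : ∀ {g : M} {x ε σ}, (g : G) = axPart j s x ε * ι σ → μ g = σ := fun {g x ε σ} e =>
    (X.dec_unique ((hμ g).symm.trans e)).1
  have hμmul : ∀ a b : M, μ (a * b) = μ a * μ b := fun a b => by
    obtain ⟨x, hx⟩ := X.axPart_mul (fx a) (fx b) (fe a) (fe b)
    refine hμv (g := a * b) (x := x) (ε := xor (fe a) (fe b)) ?_
    rw [Subgroup.coe_mul, hμ a, hμ b, ← hx, map_mul]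
    calc axPart j s (fx a) (fe a) * ι (μ a) * (axPart j s (fx b) (fe b) * ι (μ b))
        = axPart j s (fx a) (fe a) * (ι (μ a) * axPart j s (fx b) (fe b)) * ι (μ b) := by group
      _ = axPart j s (fx a) (fe a) * (axPart j s (fx b) (fe b) * ι (μ a)) * ι (μ b) := by
          rw [← (X.axPart_comm _ _ _).eq]
      _ = _ := by group
  let θ : M →* Multiplicative (ZMod 2) := MonoidHom.mk' (fun g => bitVal (decide (Perm.sign (μ g) = -1)))
    fun a b => by rw [hμmul, map_mul, parity_unit_mul]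
  set φ : G →* Multiplicative (ZMod 2) :=
    (transferHom (le_top : M ≤ ⊤) θ).comp (Subgroup.topEquiv (G := G)).symm.toMonoidHom
  have htM : t ∈ M := by
    have h := X.axPart_mem 0 false (zP c)
    rwa [X.axPart_one, one_mul, X.val_z] at h
  have hθt : θ ⟨t, htM⟩ = bitVal true := by
    show bitVal (decide (Perm.sign (μ ⟨t, htM⟩) = -1)) = _
    rw [hμv (g := ⟨t, htM⟩) (x := 0) (ε := false) (σ := zP c) (by rw [X.axPart_one, one_mul, X.val_z]),
      sign_exchange c]
    rfl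
  have htt : t * t = 1 := E.sm_sq (E.mem rfl) tau_facts.1
  have hφt : φ t = bitVal true := by
    show transferHom (le_top : M ≤ ⊤) θ ⟨t, mem_top t⟩ = _
    rw [transferHom_apply le_top θ htM htt fun g _ h hne => ?_, inf_top_eq, hθt]
    · obtain ⟨l, hl⟩ : Odd (M.relIndex (centralizer ({t} : Set G))) :=
        Nat.not_even_iff_odd.1 fun h => X.odd_index (even_iff_two_dvd.1 h)
      rw [hl, pow_succ, pow_mul, pow_two, bit_sq, one_pow, one_mul]
    · obtain ⟨x, ε, σ, e⟩ := X.dec_normalizer h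
      obtain ⟨hσ, m, hm, ρ, hρ, -, hmy⟩ := X.involution_type (x := x) (ε := ε) (σ := σ) (by
        rw [← e]
        calc g⁻¹ * t * g * (g⁻¹ * t * g) = g⁻¹ * (t * t) * g := by group
          _ = 1 := by rw [htt]; group)
      have hs : Perm.sign σ = -1 := by
        by_contra hs
        refine hne ?_
        show bitVal (decide (Perm.sign (μ ⟨_, h⟩) = -1)) = 1
        rw [hμv (g := ⟨_, h⟩) e, decide_eq_false hs]
        rfl
      rw [← e] at hmy
      set k := m * g⁻¹
      have hk : k * t * k⁻¹ = el j s 0 (axMon ε) * ι ρ := by rw [← hmy]; simp only [k]; group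
      rcases hρ with ⟨rfl, -⟩ | ⟨rfl, -⟩ | ⟨rfl, h'⟩ | ⟨rfl, h'⟩
      · cases ε
        · rw [show axMon false = 1 from rfl, el_zero_one, one_mul] at hk
          obtain ⟨q, hq⟩ := X.val_x_conj
          refine absurd ?_ (E.sign_ne_exchange (k⁻¹ * q))
          calc k⁻¹ * q * el j s 0 eA * (k⁻¹ * q)⁻¹ = k⁻¹ * (q * el j s 0 eA * q⁻¹) * k := by group
            _ = t := by rw [hq, ← hk]; group
        · rw [show axMon true = eA from rfl] at hk
          obtain ⟨q, hq⟩ := X.val_ex_conj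
          refine absurd ?_ (X.exchange_ne_double (q * k))
          rw [← hq, ← hk, show t = el j s 0 tau from rfl]; group
      · cases ε
        · rw [show axMon false = 1 from rfl, el_zero_one, one_mul, X.val_z] at hk
          refine ⟨m, hm, ?_⟩
          calc g⁻¹ * t * g = m⁻¹ * (k * t * k⁻¹) * m := by simp only [k]; group
            _ = m⁻¹ * t * m := by rw [hk]
        · exact absurd (hk.trans X.val_ez) (E.exchange_ne_twist k)
      · rw [hs] at h'; exact absurd h' (by decide)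
      · rw [hs] at h'; exact absurd h' (by decide)
  refine ⟨φ, hφt, ?_⟩
  -- on the kernel it is the sign
  let ψ : Perm (Fin 6) →* Multiplicative (ZMod 2) := φ.comp ι
  have hsw : ∀ i k : Fin 6, i ≠ k → ψ (swap i k) = ψ (swap 1 2) := by
    intro i k hik
    obtain ⟨τ, hτ⟩ := isConj_iff.1 (Equiv.Perm.isConj_swap (show (1 : Fin 6) ≠ 2 by decide) hik)
    rw [← hτ, map_mul, map_mul, map_inv, mul_comm (ψ τ), mul_inv_cancel_right]
  have hxz : ψ (xP c) = ψ (zP c) := by
    cases c <;> simp only [xP, zP, map_mul]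
    · rw [hsw 0 3 (by decide), hsw 1 4 (by decide), hsw 2 5 (by decide), bit_sq, one_mul]
    · rw [hsw 0 3 (by decide), hsw 1 4 (by decide), hsw 2 5 (by decide), hsw 4 5 (by decide), bit_sq, one_mul]
  obtain ⟨q, hq⟩ := X.val_x_conj
  intro hA
  have h1 : φ (ι (xP c)) = 1 := by
    rw [← hq, map_mul, map_mul, hA, mul_one, map_inv, mul_inv_cancel]
  have h2 : φ (ι (zP c)) = 1 := hxz.symm.trans h1
  rw [X.val_z, hφt] at h2
  exact bitVal_true_ne h2

end Cfsg.Agent.SymNineThree
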