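import Cfsg.Agent.EqLemmas
import Mathlib.GroupTheory.PGroup
import Mathlib.GroupTheory.QuotientGroup.Basic

/-!
# Two-groups with a small centralizer of a dihedral action

* `exists_fixed_mod` : an element fixed by an involution modulo a central involution
* `unique_involution_of_fixed` : the group has one involution
-/

set_option autoImplicit false

namespace Cfsg.Agent.SymNineThree

open Subgroup

variable {G : Type*} [Group G]

/-- A nontrivial fixed point of an involution on the centre modulo `v`. -/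
theorem exists_fixed_mod [Finite G] {T : Subgroup G} (hT : IsPGroup 2 T) {v t : G} (hv : v ∈ T)
    (hv2 : v * v = 1) (hc : ∀ x ∈ T, v * x = x * v) (ht2 : t * t = 1) (htv : t * v = v * t)
    (htT : ∀ x ∈ T, t * x * t ∈ T) (hne : ∃ x ∈ T, x ≠ 1 ∧ x ≠ v) :
    ∃ z ∈ T, z ≠ 1 ∧ z ≠ v ∧ (z * z = 1 ∨ z * z = v) ∧
      (∀ y ∈ T, z * y = y * z ∨ z * y = v * (y * z)) ∧ (t * z * t = z ∨ t * z * t = v * z) := by
  have : Fact (Nat.Prime 2) := ⟨Nat.prime_two⟩
  set vT : T := ⟨v, hv⟩
  have hvT : vT * vT = 1 := Subtype.ext hv2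
  have hpow : ∀ a : T, a ∈ zpowers vT ↔ a = 1 ∨ a = vT := by
    intro a
    constructor
    · intro ha
      obtain ⟨i, rfl⟩ := mem_zpowers_iff.1 ha
      rcases Int.even_or_odd i with ⟨l, rfl⟩ | ⟨l, rfl⟩
      · left; rw [← two_mul, zpow_mul, zpow_two, hvT, one_zpow]
      · right; rw [zpow_add_one, zpow_mul, zpow_two, hvT, one_zpow, one_mul]
    · rintro (rfl | rfl)
      · exact one_mem _
      · exact mem_zpowers _
  haveI hn : (zpowers vT).Normal := ⟨fun a ha g => by
    have e : g * a * g⁻¹ = a := by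
      rcases (hpow a).1 ha with rfl | rfl
      · group
      · rw [show g * vT = vT * g from Subtype.ext (hc g g.2).symm, mul_inv_cancel_right]
    rwa [e]⟩
  set π := QuotientGroup.mk' (zpowers vT)
  have hker : ∀ a b : T, π a = π b ↔ (a : G) = b ∨ (a : G) = v * b := by
    intro a b
    rw [← div_eq_one, ← map_div]
    refine ((QuotientGroup.eq_one_iff (a / b)).trans (hpow (a / b))).trans ?_
    rw [div_eq_one, div_eq_iff_eq_mul]
    exact or_congr ⟨fun h => congrArg Subtype.val h, fun h => Subtype.ext h⟩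
      ⟨fun h => congrArg Subtype.val h, fun h => Subtype.ext h⟩
  have hone : ∀ a : T, π a = 1 ↔ (a : G) = 1 ∨ (a : G) = v := by
    intro a
    rw [← map_one π, hker]
    simp
  obtain ⟨x, hxT, hx1, hxv⟩ := hne
  haveI : Nontrivial (T ⧸ zpowers vT) :=
    ⟨π ⟨x, hxT⟩, 1, fun e => by rcases (hone _).1 e with h | h <;> [exact hx1 h; exact hxv h]⟩
  have hQ : IsPGroup 2 (T ⧸ zpowers vT) := hT.to_quotient _
  haveI := hQ.center_nontrivial
  obtain ⟨c, hc2⟩ : ∃ c : center (T ⧸ zpowers vT), orderOf c = 2 := by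
    refine exists_prime_orderOf_dvd_card' 2 ?_
    obtain ⟨n, hn⟩ := (hQ.to_subgroup (center (T ⧸ zpowers vT))).exists_card_eq
    rw [hn]
    refine dvd_pow_self 2 fun h => ?_
    rw [h, pow_zero] at hn
    exact absurd hn (Finite.one_lt_card_iff_nontrivial.2 inferInstance).ne'
  let σ : T →* T := MonoidHom.mk' (fun a => ⟨t * a * t, htT a a.2⟩) fun a b => Subtype.ext (by
    show t * ((a : G) * b) * t = t * a * t * (t * b * t)
    calc t * ((a : G) * b) * t = t * a * (t * t) * b * t := by rw [ht2]; group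
      _ = _ := by group)
  have hσv : σ vT = vT := Subtype.ext (by
    show t * v * t = v
    rw [htv, mul_assoc, ht2, mul_one])
  have hσσ : ∀ a, σ (σ a) = a := fun a => Subtype.ext (by
    show t * (t * (a : G) * t) * t = a
    calc t * (t * (a : G) * t) * t = t * t * a * (t * t) := by group
      _ = a := by rw [ht2, one_mul, mul_one])
  let σq : T ⧸ zpowers vT →* T ⧸ zpowers vT := QuotientGroup.map _ _ σ (by
    rw [zpowers_le, mem_comap, hσv]; exact mem_zpowers _)
  have hσq : ∀ a, σq (π a) = π (σ a) := fun a => rfl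
  obtain ⟨a0, ha0⟩ := QuotientGroup.mk'_surjective _ (c : T ⧸ zpowers vT)
  set q0 := π a0 with hq0
  replace ha0 : q0 = c := ha0
  have hq0c : ∀ q, q * q0 = q0 * q := fun q => by rw [ha0]; exact mem_center_iff.1 c.2 q
  have hq01 : q0 ≠ 1 := by
    rw [ha0]
    intro e
    rw [show c = 1 from Subtype.ext e, orderOf_one] at hc2
    norm_num at hc2
  have hq02 : q0 * q0 = 1 := by
    rw [ha0, ← pow_two]
    have := pow_orderOf_eq_one c
    rw [hc2] at this
    simpa using congrArg Subtype.val this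
  have hσq2 : ∀ q, σq (σq q) = q := fun q => by
    obtain ⟨a, rfl⟩ := QuotientGroup.mk'_surjective _ q
    rw [hσq, hσq, hσσ]
  -- a central involution of the quotient fixed by `σ`
  obtain ⟨z, hz1, hzc, hz2, hzf⟩ :
      ∃ z : T, π z ≠ 1 ∧ (∀ q, q * π z = π z * q) ∧ π z * π z = 1 ∧ σq (π z) = π z := by
    by_cases hf : σq q0 = q0
    · exact ⟨a0, hq01, hq0c, hq02, hf⟩
    have hc' : ∀ q, q * σq q0 = σq q0 * q := fun q => by
      rw [← hσq2 q, ← map_mul, hq0c, map_mul]
    have h2' : σq q0 * σq q0 = 1 := by rw [← map_mul, hq02, map_one]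
    refine ⟨a0 * σ a0, ?_, fun q => ?_, ?_, ?_⟩
    · rw [map_mul, ← hσq]
      intro e
      exact hf (mul_left_cancel (e.trans hq02.symm))
    · rw [map_mul, ← hσq, ← mul_assoc, hq0c, mul_assoc, hc', ← mul_assoc]
    · rw [map_mul, ← hσq]
      calc q0 * σq q0 * (q0 * σq q0) = q0 * (σq q0 * q0) * σq q0 := by group
        _ = q0 * (q0 * σq q0) * σq q0 := by rw [← hc' q0]
        _ = (q0 * q0) * (σq q0 * σq q0) := by group
        _ = 1 := by rw [hq02, h2', one_mul]
    · rw [map_mul, ← hσq, map_mul, hσq2]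
      exact (hc' q0).symm
  refine ⟨z, z.2, fun e => hz1 ((hone z).2 (Or.inl e)), fun e => hz1 ((hone z).2 (Or.inr e)),
    (hone (z * z)).1 (by rw [map_mul, hz2]), fun y hy => ?_, (hker (σ z) z).1 ((hσq z).symm.trans hzf)⟩
  exact (hker (z * ⟨y, hy⟩) (⟨y, hy⟩ * z)).1 (by rw [map_mul, map_mul, hzc])

/-- A dihedral group of order six with such small centralizers leaves one involution. -/
theorem unique_involution_of_fixed [Finite G] {T : Subgroup G} (hT : IsPGroup 2 T) {v t b : G}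
    (hv : v ∈ T) (hv1 : v ≠ 1) (hv2 : v * v = 1) (hc : ∀ x ∈ T, v * x = x * v)
    (ht2 : t * t = 1) (htv : t * v = v * t) (htT : ∀ x ∈ T, t * x * t ∈ T)
    (hb3 : b * b * b = 1) (hbv : b * v = v * b) (hbT : ∀ x ∈ T, b * x * b⁻¹ ∈ T)
    (htb : t * b * t = b⁻¹)
    (hft : ∀ x ∈ T, t * x * t = x → x = 1 ∨ x = v) (hfb : ∀ x ∈ T, b * x * b⁻¹ = x → x = 1 ∨ x = v)
    (hne : ∃ x ∈ T, x ≠ 1 ∧ x ≠ v) :
    ∃ z ∈ T, z * z = v ∧ ∀ x ∈ T, x * x = 1 → x = 1 ∨ x = v := by
  obtain ⟨z, hz, hz1, hzv, hzz, hzc, hzt⟩ := exists_fixed_mod hT hv hv2 hc ht2 htv htT hne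
  have hzt' : t * z * t = v * z := hzt.resolve_left fun e => (hft z hz e).elim hz1 hzv
  have htmul : ∀ x y, t * (x * y) * t = (t * x * t) * (t * y * t) := fun x y => by
    calc t * (x * y) * t = t * x * (t * t) * y * t := by rw [ht2]; group
      _ = _ := by group
  have htinv : t⁻¹ = t := inv_eq_of_mul_eq_one_right ht2
  have hfix : ∀ x ∈ T, (t * x * t = x ∨ t * x * t = v * x) → x = 1 ∨ x = v ∨ x = z ∨ x = v * z := by
    rintro x hx (e | e)
    · exact (hft x hx e).imp id Or.inl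
    · have hzi : t * z⁻¹ * t = z⁻¹ * v⁻¹ := by
        rw [← mul_inv_rev, ← hzt', mul_inv_rev, mul_inv_rev, htinv, mul_assoc]
      have h1 : t * (x * z⁻¹) * t = x * z⁻¹ := by
        rw [htmul, e, hzi]
        calc v * x * (z⁻¹ * v⁻¹) = v * (x * z⁻¹) * v⁻¹ := by group
          _ = x * z⁻¹ := by rw [hc _ (mul_mem hx (inv_mem hz)), mul_inv_cancel_right]
      rcases hft _ (mul_mem hx (inv_mem hz)) h1 with h | h
      · exact Or.inr (Or.inr (Or.inl (mul_inv_eq_one.1 h)))
      · exact Or.inr (Or.inr (Or.inr (mul_inv_eq_iff_eq_mul.1 h)))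
  have hbmul : ∀ x y, b * (x * y) * b⁻¹ = (b * x * b⁻¹) * (b * y * b⁻¹) := fun x y => by group
  have hbvv : b * v * b⁻¹ = v := by rw [hbv, mul_inv_cancel_right]
  have hb3' : ∀ x, b * (b * (b * x * b⁻¹) * b⁻¹) * b⁻¹ = x := fun x => by
    calc b * (b * (b * x * b⁻¹) * b⁻¹) * b⁻¹ = (b * b * b) * x * (b * b * b)⁻¹ := by group
      _ = x := by rw [hb3]; group
  have hfb' : ∀ x ∈ T, (b * x * b⁻¹ = x ∨ b * x * b⁻¹ = v * x) → x = 1 ∨ x = v := by
    rintro x hx (e | e)
    · exact hfb x hx e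
    · refine absurd ?_ hv1
      have h3 := hb3' x
      simp only [e, hbmul v, hbvv] at h3
      rwa [← mul_assoc, hv2, one_mul, mul_eq_right] at h3
  obtain ⟨z1, hz1def⟩ : ∃ a, a = b * z * b⁻¹ := ⟨_, rfl⟩
  obtain ⟨z2, hz2def⟩ : ∃ a, a = b * z1 * b⁻¹ := ⟨_, rfl⟩
  have hz1T : z1 ∈ T := hz1def ▸ hbT z hz
  have hz2T : z2 ∈ T := hz2def ▸ hbT z1 hz1T
  have hz3 : b * z2 * b⁻¹ = z := by rw [hz2def, hz1def]; exact hb3' z
  have hz12 : b⁻¹ * z * b = z2 := by
    calc b⁻¹ * z * b = b⁻¹ * (b * z2 * b⁻¹) * b := by rw [hz3]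
      _ = z2 := by group
  have hbvi : b⁻¹ * v * b = v := by rw [mul_assoc, ← hbv, inv_mul_cancel_left]
  have htz1 : t * z1 * t = v * z2 := by
    have htbi : t * b⁻¹ * t = b := by
      rw [← inv_inj, mul_inv_rev, mul_inv_rev, inv_inv, htinv, ← mul_assoc, htb]
    calc t * z1 * t = t * (b * z * b⁻¹) * t := by rw [hz1def]
      _ = (t * b * t) * (t * z * t) * (t * b⁻¹ * t) := by rw [htmul, htmul]
      _ = b⁻¹ * (v * z) * b := by rw [htb, hzt', htbi]
      _ = (b⁻¹ * v * b) * (b⁻¹ * z * b) := by group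
      _ = v * z2 := by rw [hbvi, hz12]
  have htvv : t * v * t = v := by rw [htv, mul_assoc, ht2, mul_one]
  have htz2 : t * z2 * t = v * z1 := by
    have h : z2 = v * (t * z1 * t) := by rw [htz1, ← mul_assoc, hv2, one_mul]
    rw [h, htmul, htvv, show t * (t * z1 * t) * t = (t * t) * z1 * (t * t) by group, ht2, one_mul, mul_one]
  have hz1z : z1 ≠ z ∧ z1 ≠ v * z :=
    ⟨fun e => (hfb' z hz (Or.inl (hz1def.symm.trans e))).elim hz1 hzv,
      fun e => (hfb' z hz (Or.inr (hz1def.symm.trans e))).elim hz1 hzv⟩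
  have hp : z * z1 * z2 = 1 ∨ z * z1 * z2 = v := by
    refine hfb' _ (mul_mem (mul_mem hz hz1T) hz2T) ?_
    have hbp : b * (z * z1 * z2) * b⁻¹ = z1 * z2 * z := by rw [hbmul, hbmul, hz3, ← hz1def, ← hz2def]
    rw [hbp, mul_assoc z z1 z2]
    rcases hzc _ (mul_mem hz1T hz2T) with e | e
    · exact Or.inl e.symm
    · right
      rw [e, ← mul_assoc v v, hv2, one_mul]
  have hz1sq : ∀ e, z * z = e → (e = 1 ∨ e = v) → z1 * z1 = e ∧ z2 * z2 = e := by
    intro e h he
    have hbe : b * e * b⁻¹ = e := by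
      rcases he with rfl | rfl
      · group
      · exact hbvv
    have h1 : z1 * z1 = e := by rw [hz1def, ← hbmul, h, hbe]
    exact ⟨h1, by rw [hz2def, ← hbmul, h1, hbe]⟩
  have hvz : v * z = z * v := hc z hz
  have hsq : z * z = v := by
    refine hzz.resolve_left fun h => ?_
    obtain ⟨h1, h2⟩ := hz1sq 1 h (Or.inl rfl)
    -- `z2` is `z1 z` up to `v`
    obtain ⟨e, he, hz2e⟩ : ∃ e, (e = 1 ∨ e = v) ∧ z2 = z1 * z * e := by
      refine ⟨z * z1 * z2, hp, ?_⟩
      calc z2 = z1 * z1 * z2 := by rw [h1, one_mul]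
        _ = z1 * (z * z) * z1 * z2 := by rw [h, mul_one]
        _ = _ := by group
    have hec : ∀ x ∈ T, e * x = x * e := fun x hx => by
      rcases he with he | he <;> rw [he]
      · simp
      · exact hc x hx
    have he2 : e * e = 1 := by rcases he with he | he <;> simp [he, hv2]
    have hcomm : z1 * z = z * z1 := by
      have h' : z1 * z * (z1 * z) = 1 := by
        calc z1 * z * (z1 * z) = z1 * z * (e * e) * (z1 * z) := by rw [he2, mul_one]
          _ = (z1 * z * e) * (e * (z1 * z)) := by group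
          _ = (z1 * z * e) * (z1 * z * e) := by rw [hec _ (mul_mem hz1T hz)]
          _ = 1 := by rw [← hz2e, h2]
      calc z1 * z = (z1 * z)⁻¹ := eq_inv_of_mul_eq_one_left h'
        _ = z * z1 := by
          rw [mul_inv_rev, inv_eq_of_mul_eq_one_right h, inv_eq_of_mul_eq_one_right h1]
    have h21 : z1 * z2 = z * e := by rw [hz2e, ← mul_assoc, ← mul_assoc, h1, one_mul]
    have h12 : z2 * z1 = z1 * z2 := by
      rw [h21, hz2e, mul_assoc (z1 * z), hec z1 hz1T, ← mul_assoc, hcomm, mul_assoc z, h1, mul_one]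
    have hfixed : t * (z1 * z2) * t = z1 * z2 := by
      rw [htmul, htz1, htz2]
      calc v * z2 * (v * z1) = v * (z2 * v) * z1 := by group
        _ = v * (v * z2) * z1 := by rw [hc z2 hz2T]
        _ = z2 * z1 := by rw [← mul_assoc, hv2, one_mul]
        _ = _ := h12
    have hbad : ∀ f, (f = 1 ∨ f = v) → z * e = f → False := by
      intro f hf hzf
      have : z = f * e := by rw [← hzf, mul_assoc, he2, mul_one]
      rcases hf with hf | hf <;> rcases he with he | he <;> simp [hf, he, hv2] at this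
      all_goals first
        | exact hz1 this
        | exact hzv this
    rcases hft _ (mul_mem hz1T hz2T) hfixed with e' | e' <;> rw [h21] at e'
    · exact hbad 1 (Or.inl rfl) e'
    · exact hbad v (Or.inr rfl) e'
  obtain ⟨h1, h2⟩ := hz1sq v hsq (Or.inr rfl)
  have hinv : ∀ x ∈ T, x * x = v → x⁻¹ = v * x := fun x hx e => inv_eq_of_mul_eq_one_left (by
    rw [mul_assoc, e, hv2])
  have hzz1 : z * z1 * (z * z1) = v := by
    obtain ⟨f, hf, e⟩ : ∃ f, (f = 1 ∨ f = v) ∧ z * z1 = f * z2 := by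
      refine ⟨z * z1 * z2 * v, ?_, ?_⟩
      · rcases hp with e | e <;> rw [e]
        · right; rw [one_mul]
        · left; rw [hv2]
      · calc z * z1 = z * z1 * z2 * z2⁻¹ := by group
          _ = z * z1 * z2 * (v * z2) := by rw [hinv z2 hz2T h2]
          _ = _ := by group
    rw [e]
    rcases hf with hf | hf <;> rw [hf]
    · rw [one_mul, h2]
    · rw [mul_assoc, ← mul_assoc z2, ← hc z2 hz2T, mul_assoc v z2 z2, h2, ← mul_assoc, hv2, one_mul]
  have hanti : z * z1 = v * (z1 * z) := by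
    calc z * z1 = (z * z1 * (z * z1)) * (z * z1)⁻¹ := by group
      _ = v * (z1⁻¹ * z⁻¹) := by rw [hzz1, mul_inv_rev]
      _ = v * (v * z1 * (v * z)) := by rw [hinv z1 hz1T h1, hinv z hz hsq]
      _ = v * (z1 * z) := by
        rw [mul_assoc v z1, ← mul_assoc z1 v, ← hc z1 hz1T, mul_assoc v z1 z, ← mul_assoc v v, hv2, one_mul]
  have hvne : ∀ x : G, v * x ≠ x := fun x e => hv1 (mul_eq_right.1 e)
  refine ⟨z, hz, hsq, fun x hx hx2 => ?_⟩
  -- correct `x` to commute with `z` and `z1`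
  have hz1c : ∀ y ∈ T, z1 * y = y * z1 ∨ z1 * y = v * (y * z1) := by
    intro y hy
    have hy' : b⁻¹ * y * b ∈ T := by
      have h := hbT _ (hbT y hy)
      rw [show b⁻¹ * y * b = b * (b * y * b⁻¹) * b⁻¹ from ?_]
      · exact h
      · conv_lhs => rw [← hb3' y]
        group
    rcases hzc _ hy' with e | e
    · left
      have := congrArg (fun x => b * x * b⁻¹) e
      simp only [hbmul z, hbmul _ z, show b * (b⁻¹ * y * b) * b⁻¹ = y by group, ← hz1def] at this
      exact this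
    · right
      have := congrArg (fun x => b * x * b⁻¹) e
      simp only [hbmul z, hbmul v, hbmul _ z, show b * (b⁻¹ * y * b) * b⁻¹ = y by group, hbvv, ← hz1def] at this
      exact this
  have hcomb : ∀ p q r : G, p ∈ T → q ∈ T → r ∈ T → ∀ e f : G, (e = 1 ∨ e = v) → (f = 1 ∨ f = v) →
      p * q = e * (q * p) → p * r = f * (r * p) → p * (q * r) = (e * f) * ((q * r) * p) := by
    intro p q r hp hq hr e f he hf hq' hr'
    have hfc : f * q = q * f := by
      rcases hf with hf | hf <;> rw [hf]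
      · simp
      · exact hc q hq
    calc p * (q * r) = e * (q * (p * r)) := by rw [← mul_assoc, hq']; group
      _ = e * (q * f * (r * p)) := by rw [hr']; group
      _ = _ := by rw [← hfc]; group
  obtain ⟨e, he, hex⟩ : ∃ e, (e = 1 ∨ e = v) ∧ z * x = e * (x * z) := (hzc x hx).elim
    (fun h => ⟨1, Or.inl rfl, by rw [one_mul, h]⟩) fun h => ⟨v, Or.inr rfl, h⟩
  obtain ⟨f, hf, hfx⟩ : ∃ f, (f = 1 ∨ f = v) ∧ z1 * x = f * (x * z1) := (hz1c x hx).elim
    (fun h => ⟨1, Or.inl rfl, by rw [one_mul, h]⟩) fun h => ⟨v, Or.inr rfl, h⟩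
  have hanti' : z1 * z = v * (z * z1) := by rw [hanti, ← mul_assoc, hv2, one_mul]
  obtain ⟨y, hy, hyz, hyz1, hy2⟩ : ∃ y ∈ T, z * y = e * (y * z) ∧ z1 * y = f * (y * z1) ∧
      (y = 1 ∨ y * y = v) := by
    rcases he with he | he <;> rcases hf with hf | hf <;> subst e <;> subst f
    · exact ⟨1, one_mem T, by simp, by simp, Or.inl rfl⟩
    · exact ⟨z, hz, by simp, hanti', Or.inr hsq⟩
    · exact ⟨z1, hz1T, hanti, by simp, Or.inr h1⟩
    · refine ⟨z * z1, mul_mem hz hz1T, ?_, ?_, Or.inr hzz1⟩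
      · simpa using hcomb z z z1 hz hz hz1T 1 v (Or.inl rfl) (Or.inr rfl) (by simp) hanti
      · simpa using hcomb z1 z z1 hz1T hz hz1T v 1 (Or.inr rfl) (Or.inl rfl) hanti' (by simp)
  have hd : z * (x * y) = x * y * z ∧ z1 * (x * y) = x * y * z1 := by
    have h := hcomb z x y hz hx hy e e he he hex hyz
    have h' := hcomb z1 x y hz1T hx hy f f hf hf hfx hyz1
    constructor
    · rcases he with he | he <;> subst e <;> simpa [hv2] using h
    · rcases hf with hf | hf <;> subst f <;> simpa [hv2] using h'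
  set D : Subgroup G := T ⊓ centralizer ({z, z1} : Set G) with hD
  have hDmem : ∀ {g}, g ∈ D ↔ g ∈ T ∧ z * g = g * z ∧ z1 * g = g * z1 := fun {g} => by
    simp [hD, mem_centralizer_iff]
  have hDv : ∀ g ∈ D, g = 1 ∨ g = v := by
    by_contra hex'
    push Not at hex'
    have hvD : v ∈ D := hDmem.2 ⟨hv, hvz.symm, (hc z1 hz1T).symm⟩
    obtain ⟨d, hd, hd1, hdv, -, -, hdt⟩ := exists_fixed_mod (hT.to_le inf_le_left) hvD hv2
      (fun x hx => hc x hx.1) ht2 htv (fun g hg => by
        obtain ⟨hgT, hgz, hgz1⟩ := hDmem.1 hg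
        have h' := htT g hgT
        refine hDmem.2 ⟨h', ?_, ?_⟩
        · have h := congrArg (fun x => t * x * t) hgz
          simp only [htmul, hzt'] at h
          rw [mul_assoc v, ← mul_assoc _ v z, ← hc _ h', mul_assoc v] at h
          exact mul_left_cancel h
        · have h2' : z2 * g = g * z2 := by
            obtain ⟨e, he, hz2e⟩ : ∃ e, (e = 1 ∨ e = v) ∧ z2 = z1⁻¹ * z⁻¹ * e :=
              ⟨z * z1 * z2, hp, by group⟩
            have c1 : Commute g (z1⁻¹ * z⁻¹ * e) := by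
              refine ((Commute.inv_right hgz1.symm).mul_right (Commute.inv_right hgz.symm)).mul_right ?_
              rcases he with rfl | rfl
              · exact Commute.one_right g
              · exact (hc g hgT).symm
            rw [hz2e]; exact c1.eq.symm
          have h : t * (z2 * g) * t = t * (g * z2) * t := by rw [h2']
          rw [htmul, htmul, htz2] at h
          rw [mul_assoc v, ← mul_assoc _ v z1, ← hc _ h', mul_assoc v] at h
          exact mul_left_cancel h) hex'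
    obtain ⟨hdT, hdz, hdz1⟩ := hDmem.1 hd
    rcases hfix d hdT hdt with e | e | e | e
    · exact hd1 e
    · exact hdv e
    · rw [e, hanti'] at hdz1
      exact hvne _ hdz1
    · rw [e, mul_assoc v z z1, ← mul_assoc z1 v z, ← hc z1 hz1T, mul_assoc v z1 z] at hdz1
      have h' := mul_left_cancel hdz1
      rw [hanti'] at h'
      exact hvne _ h'
  rcases hy2 with rfl | hy2
  · rw [mul_one] at hd
    exact hDv x (hDmem.2 ⟨hx, hd.1, hd.2⟩)
  · exfalso
    have hxy : x * y = 1 ∨ x * y = v := hDv _ (hDmem.2 ⟨mul_mem hx hy, hd.1, hd.2⟩)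
    have hyy : y = x ∨ y = x * v := by
      rcases hxy with e | e
      · exact Or.inl (mul_left_cancel (e.trans hx2.symm))
      · exact Or.inr (by rw [← e, ← mul_assoc, hx2, one_mul])
    rcases hyy with rfl | rfl
    · exact hv1 (hy2.symm.trans hx2)
    · refine hv1 (hy2.symm.trans ?_)
      rw [← mul_assoc, mul_assoc x v x, hc x hx, ← mul_assoc x x v, hx2, one_mul, hv2]

end Cfsg.Agent.SymNineThree
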