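import Cfsg.Agent.Lib.SymNineThree.IndexTwo
import Cfsg.Agent.Lib.SymNineThree.TwoGroup
import Cfsg.Agent.Lib.Signalizer.PAction
import Cfsg.Agent.Lib.ZStar.Unique
import Cfsg.Agent.Lib.ZStar.Statements

/-!
# The central sign is even if the signs are central

* `Ctx.exists_sign_swap` : an element exchanging `t` and the central sign
* `Ctx.sign_twist_kernel` : the odd kernel in the centralizer of their product
* `Ctx.not_odd_central` : the central sign is no conjugate of the exchange
-/

set_option autoImplicit false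
set_option synthInstance.maxSize 8000
set_option synthInstance.maxHeartbeats 200000

namespace Cfsg.Agent.SymNineThree

open Cfsg Subgroup
open ThreeCubedSymFour (V3)
open Multiplicative (ofAdd toAdd)

theorem kind_one_facts :
    (∀ m, inKind 1 m = true → m * tau = tau * m → m = 1 ∨ m = tau ∨ m = negOne ∨ m = negOne * tau) ∧
    (∀ m, inKind 1 m = true → m * (negOne * tau) = negOne * tau * m →
      m = 1 ∨ m = tau ∨ m = negOne ∨ m = negOne * tau) ∧
    (∀ m, inKind 1 m = true → (m * m * m) * (m * m * m) = 1) ∧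
    (∀ a, act (negOne * tau) a = a → a = 0 ∨ a = (0, 1, -1) ∨ a = -(0, 1, -1)) ∧
    (∀ a, act (negOne * tau) a = a → act tau a = a → a = 0) ∧
    (∀ a : V3, a + a = 0 → a = 0) ∧
    act (negOne * tau) (1, 0, 0) = -(1, 0, 0) ∧ negOne * tau * (negOne * tau) = 1 ∧
    negOne * tau = tau * negOne ∧ negOne * negOne = 1 := by decide +kernel

theorem kind_one_vectors : act tau ((0, 1, -1) : V3) = -(0, 1, -1) ∧
    (0 : V3) + act (Mon.perm 1 false) 0 + act (Mon.perm 1 false * Mon.perm 1 false) 0 = 0 ∧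
    (-(1, 0, 0) + -(1, 0, 0) : V3) = (1, 0, 0) ∧
    ((act rot (1, 0, 0) = (0, 1, 0) ∧ act rot (act rot (1, 0, 0)) = (0, 0, 1)) ∨
      (act rot (1, 0, 0) = (0, 0, 1) ∧ act rot (act rot (1, 0, 0)) = (0, 1, 0))) := by decide +kernel

variable {G : Type*} [Group G] {W : Subgroup Mon} {j : Multiplicative V3 →* G} {s : W →* G}

theorem Ctx.kindOne_mem (E : Ctx W j s 1) : negOne ∈ W ∧ negOne * tau ∈ W :=
  ⟨E.mem rfl, mul_mem (E.mem rfl) (tau_mem E.toSetting)⟩

theorem Setting.el_split (E : Setting W j s) {m : Mon} (hm : m ∈ W) (a : V3) :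
    el j s a m = el j s a 1 * el j s 0 m := by
  rw [E.el_mul (one_mem W) hm, show act 1 (0 : V3) = 0 from (actAdd 1).map_zero, add_zero, one_mul]

theorem Setting.el_zero_mul (E : Setting W j s) {m n : Mon} (hm : m ∈ W) (hn : n ∈ W) :
    el j s 0 m * el j s 0 n = el j s 0 (m * n) := by
  rw [E.el_mul hm hn, show act m (0 : V3) = 0 from (actAdd m).map_zero, add_zero]

variable [Finite G]

/-- An element exchanging the exchange and the central sign. -/
theorem Ctx.exists_sign_swap (E : Ctx W j s 1)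
    (hsmall : ∀ v : V3, v ≠ 0 → centralizer ({el j s v 1} : Set G) ≤ normalizer (j.range : Set G))
    (φ : G →* Multiplicative (ZMod 2)) (ht : φ (el j s 0 tau) = bitVal true)
    (hu : φ (el j s 0 negOne) ≠ 1) {g : G} (hg : g⁻¹ * el j s 0 negOne * g = el j s 0 tau) :
    ∃ w, w * el j s 0 tau * w⁻¹ = el j s 0 negOne ∧ w * el j s 0 negOne * w⁻¹ = el j s 0 tau := by
  obtain ⟨hcent, -, -, -, -, h2, -, -, hcomm, -⟩ := kind_one_facts
  obtain ⟨huW, hvW⟩ := E.kindOne_mem
  have htW := tau_mem E.toSetting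
  set t := el j s 0 tau
  set u := el j s 0 negOne
  have htu : Commute t u := by
    show _ * _ = _ * _
    rw [E.el_zero_mul htW huW, E.el_zero_mul huW htW, hcomm]
  have hsC : g⁻¹ * t * g ∈ centralizer ({t} : Set G) := by
    refine mem_centralizer_singleton_iff.2 ?_
    have h := (htu.map (MulAut.conj g⁻¹).toMonoidHom).eq
    simp only [MulEquiv.toMonoidHom_eq_coe, MonoidHom.coe_coe, MulAut.conj_apply, inv_inv, hg] at h
    exact h
  obtain ⟨a, m, hm, e⟩ := E.exists_normal_form (E.cent_tau_le hsmall hsC)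
  rw [e] at hsC
  obtain ⟨ha, hmt⟩ := (E.mem_cent_tau hm).1 hsC
  have hφs : φ (el j s a m) = bitVal true := by
    rw [← e, map_mul, map_mul, map_inv, mul_comm (φ g)⁻¹, inv_mul_cancel_right, ht]
  rw [E.el_split hm, map_mul, E.bit_space, one_mul] at hφs
  have hs2 : el j s a m * el j s a m = 1 := by
    rw [← e]
    calc g⁻¹ * t * g * (g⁻¹ * t * g) = g⁻¹ * (t * t) * g := by group
      _ = 1 := by rw [E.sm_sq htW tau_facts.1]; group
  rcases hcent m ((E.kind m).1 hm) hmt with rfl | rfl | rfl | rfl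
  · rw [el_zero_one, map_one] at hφs
    exact absurd hφs.symm bitVal_true_ne
  · exfalso
    rw [E.el_mul htW htW, ha] at hs2
    obtain rfl := h2 a ((E.el_eq_one_iff (mul_mem htW htW)).1 hs2).1
    have e1 : g * t = t * g := by
      calc g * t = g * (g⁻¹ * t * g) := by rw [e]
        _ = t * g := by group
    have e2 : u = t := by
      calc u = g * (g⁻¹ * u * g) * g⁻¹ := by group
        _ = g * t * g⁻¹ := by rw [hg]
        _ = t := by rw [e1, mul_inv_cancel_right]
    exact absurd (E.el_injective huW htW e2).2 (by decide +kernel)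
  · obtain ⟨-, hconj⟩ := E.involution_form huW hs2
    have hct : Commute (el j s (-a) 1) t := by
      show _ * _ = _ * _
      refine ((E.el_comm_space htW).2 ?_).symm
      rw [show act tau (-a) = -act tau a from (actAdd tau).map_neg a, ha]
    set c := el j s (-a) 1
    have h1 : c⁻¹ * t * c = t := by rw [mul_assoc, ← hct.eq, inv_mul_cancel_left]
    refine ⟨g * c, ?_, ?_⟩
    · calc g * c * t * (g * c)⁻¹ = g * (c * t * c⁻¹) * g⁻¹ := by group
        _ = g * t * g⁻¹ := by rw [hct.eq, mul_inv_cancel_right]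
        _ = u := by rw [← hg]; group
    · calc g * c * u * (g * c)⁻¹ = g * (c * u * c⁻¹) * g⁻¹ := by group
        _ = g * (g⁻¹ * t * g) * g⁻¹ := by rw [← hconj, e]
        _ = t := by group
  · refine absurd hφs ?_
    rw [← E.el_zero_mul huW htW, map_mul, ht, (bit_cases _).resolve_left hu, bit_sq]
    exact fun h => bitVal_true_ne h.symm

/-- The part of the centralizer of `t u` of order prime to three. -/
theorem Ctx.sign_twist_kernel (E : Ctx W j s 1)
    (hsmall : ∀ v : V3, v ≠ 0 → centralizer ({el j s v 1} : Set G) ≤ normalizer (j.range : Set G))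
    (φ : G →* Multiplicative (ZMod 2)) (ht : φ (el j s 0 tau) = bitVal true)
    (hu : φ (el j s 0 negOne) ≠ 1) :
    ∃ L : Subgroup G, L ≤ centralizer ({el j s 0 (negOne * tau)} : Set G) ⊓ φ.ker ∧
      centralizer ({el j s 0 (negOne * tau)} : Set G) ≤ normalizer (L : Set G) ∧ ¬ 3 ∣ Nat.card L ∧
      el j s 0 (negOne * tau) ∈ L ∧
      (∀ g ∈ centralizer ({el j s 0 (negOne * tau)} : Set G) ⊓ φ.ker, ∀ n, g ^ 2 ^ n = 1 → g ∈ L) ∧
      (∀ g ∈ L, g * el j s (0, 1, -1) 1 = el j s (0, 1, -1) 1 * g →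
        g = 1 ∨ g = el j s 0 (negOne * tau)) ∧
      (∀ g ∈ L, g * el j s 0 tau = el j s 0 tau * g → g = 1 ∨ g = el j s 0 (negOne * tau)) := by
  obtain ⟨-, hcent, -, hline, hzero, -, -, hv2, hcomm, -⟩ := kind_one_facts
  obtain ⟨huW, hvW⟩ := E.kindOne_mem
  have htW := tau_mem E.toSetting
  set v := el j s 0 (negOne * tau)
  set C := centralizer ({v} : Set G) with hCdef
  set Q := C ⊓ φ.ker with hQdef
  have hbit : φ (el j s 0 negOne) = bitVal true := (bit_cases _).resolve_left hu
  have hvφ : φ v = 1 := by rw [show v = _ from (E.el_zero_mul huW htW).symm, map_mul, ht, hbit, bit_sq]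
  have hvQ : v ∈ Q := ⟨mem_centralizer_singleton_iff.2 rfl, MonoidHom.mem_ker.2 hvφ⟩
  have hform : ∀ {g}, g ∈ Q → g ∈ normalizer (j.range : Set G) →
      ∃ a m, m ∈ W ∧ act (negOne * tau) a = a ∧ (m = 1 ∨ m = negOne * tau) ∧ g = el j s a m := by
    intro g hg hN
    obtain ⟨a, m, hm, rfl⟩ := E.exists_normal_form hN
    have h1 := (E.el_comm_iff hm hvW).1 (mem_centralizer_singleton_iff.1 hg.1)
    rw [show act m (0 : V3) = 0 from (actAdd m).map_zero, add_zero, zero_add] at h1
    refine ⟨a, m, hm, h1.1.symm, ?_, rfl⟩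
    have hφ := MonoidHom.mem_ker.1 hg.2
    rw [E.el_split hm, map_mul, E.bit_space, one_mul] at hφ
    rcases hcent m ((E.kind m).1 hm) h1.2 with rfl | rfl | rfl | rfl
    · exact Or.inl rfl
    · rw [ht] at hφ; exact absurd hφ bitVal_true_ne
    · exact absurd hφ hu
    · exact Or.inr rfl
  set b := el j s (0, 1, -1) 1 with hb
  set P := planeSub j (fixMap (negOne * tau)) with hP
  have hPmem : ∀ {a}, el j s a 1 ∈ P ↔ act (negOne * tau) a = a := fun {a} =>
    E.mem_planeSub.trans fixMap_eq_zero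
  have hbfix : act (negOne * tau) (0, 1, -1) = (0, 1, -1) := negTau_facts.1
  have hPQ : P ≤ Q := fun g hg => by
    obtain ⟨a, ha, rfl⟩ := E.exists_planeSub hg
    exact ⟨mem_centralizer_singleton_iff.2 ((E.el_comm_space hvW).2 (fixMap_eq_zero.1 ha)).symm,
      MonoidHom.mem_ker.2 (E.bit_space φ a)⟩
  have huC : el j s 0 negOne ∈ C := by
    refine mem_centralizer_singleton_iff.2 ?_
    rw [E.el_zero_mul huW hvW, E.el_zero_mul hvW huW, negOne_central]
  have hNP : ∀ {g}, g ∈ normalizer (P : Set G) → g ∈ normalizer (j.range : Set G) := by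
    intro g hg
    obtain ⟨a, ha, e⟩ := E.exists_planeSub ((mem_normalizer_iff.1 hg b).1 (hPmem.2 hbfix))
    rcases hline a (fixMap_eq_zero.1 ha) with rfl | rfl | rfl
    · exfalso
      rw [el_zero_one, mul_inv_eq_one, mul_eq_left] at e
      exact absurd ((E.el_eq_one_iff (one_mem W)).1 e).1 (by decide +kernel)
    · exact hsmall _ negTau_facts.2.1 (mem_centralizer_singleton_iff.2 (mul_inv_eq_iff_eq_mul.1 e))
    · have h : el j s 0 negOne * g ∈ centralizer ({b} : Set G) := by
        refine mem_centralizer_singleton_iff.2 (mul_inv_eq_iff_eq_mul.1 ?_)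
        calc el j s 0 negOne * g * b * (el j s 0 negOne * g)⁻¹
            = el j s 0 negOne * (g * b * g⁻¹) * (el j s 0 negOne)⁻¹ := by group
          _ = b := by rw [e, E.el_conj huW, act_negOne, neg_neg]
      have := mul_mem (inv_mem (E.el_mem_normalizer huW 0)) (hsmall _ negTau_facts.2.1 h)
      rwa [inv_mul_cancel_left] at this
  have hidx : ¬ 3 ∣ (P.subgroupOf Q).index := by
    refine not_dvd_index_of_normalizer hPQ (E.space_isPGroup.to_le (planeSub_le _)) fun g hg hgP n hn => ?_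
    obtain ⟨a, m, hm, ha, hm', rfl⟩ := hform hg (hNP hgP)
    have h3 := E.cube_of_el hm hn
    rw [pow_succ, pow_two] at h3
    rcases hm' with rfl | rfl
    · exact hPmem.2 ha
    · rw [hv2, one_mul] at h3
      exact absurd h3 (by decide +kernel)
  obtain ⟨L, hLQ, hn, hLP, hdec⟩ := E.exists_kernel_space hPQ (planeSub_le _) hidx (AddMonoidHom.id V3)
    fun g hg hgP a ha => by
      obtain ⟨w, m, hm, -, hm', rfl⟩ := hform hg (hNP hgP)
      refine ⟨a, ?_, rfl⟩
      rw [E.el_conj hm]
      rcases hm' with rfl | rfl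
      · rw [act_one]
      · rw [hPmem.1 ha]
  have hP3 : IsPGroup 3 P := E.space_isPGroup.to_le (planeSub_le _)
  have h3 : ¬ 3 ∣ Nat.card L := by
    have hint : Nat.card (P ⊓ L : Subgroup G) = 3 ^ 0 := by
      rw [pow_zero, Subgroup.card_eq_one, eq_bot_iff_forall]
      intro g hg
      obtain ⟨a, -, rfl⟩ := E.exists_planeSub hg.1
      rw [show a = 0 from (hLP a hg.1).1 hg.2, el_zero_one]
    simpa using not_nine_dvd hPQ hLQ hn hdec hidx hint
  have hmem : ∀ g ∈ Q, ∀ l, g ^ l = 1 → ¬ 3 ∣ l → g ∈ L := fun g hg l hl hl3 =>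
    mem_kernel hPQ hn hP3 hdec hg hl hl3
  have hvL : v ∈ L := hmem v hvQ 2 (by rw [pow_two]; exact E.sm_sq hvW hv2) (by norm_num)
  have hLH : ∀ g ∈ L, g ∈ normalizer (j.range : Set G) →
      g = 1 ∨ g = v := by
    intro g hg hN
    obtain ⟨a, m, hm, ha, hm', rfl⟩ := hform (hLQ hg) hN
    rcases hm' with rfl | rfl
    · rw [show a = 0 from (hLP a (hPmem.2 ha)).1 hg, el_zero_one]; exact Or.inl rfl
    · refine Or.inr ?_
      have h1 : el j s a 1 ∈ L := by
        have := mul_mem hg (inv_mem hvL)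
        rwa [E.el_split hm, mul_inv_cancel_right] at this
      rw [show a = 0 from (hLP a (hPmem.2 ha)).1 h1]
  refine ⟨L, hLQ, fun c hc => ?_, h3, hvL, fun g hg n hn' => hmem g hg _ hn' ?_,
    fun g hg e => hLH g hg (hsmall _ negTau_facts.2.1 (mem_centralizer_singleton_iff.2 e)),
    fun g hg e => hLH g hg (E.cent_tau_le hsmall (mem_centralizer_singleton_iff.2 e))⟩
  · -- the kernel consists of the elements of order prime to three
    refine mem_normalizer_iff_map_conj_eq.2 (eq_of_le_of_card_ge ?_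
      (le_of_eq (card_map_of_injective (K := L) (MulAut.conj c).injective).symm))
    rintro _ ⟨g, hg, rfl⟩
    refine hmem _ ⟨C.mul_mem (C.mul_mem hc (hLQ hg).1) (C.inv_mem hc), MonoidHom.mem_ker.2 ?_⟩ (orderOf g)
      (by simp [conj_pow, pow_orderOf_eq_one]) fun h => h3 (h.trans (L.orderOf_dvd_natCard hg))
    show φ (c * g * c⁻¹) = 1
    rw [map_mul, map_mul, MonoidHom.mem_ker.1 (hLQ hg).2, mul_one, map_inv, mul_inv_cancel]
  · exact fun h => absurd (Nat.prime_three.dvd_of_dvd_pow h) (by norm_num)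

/-- The central sign is even when the signs are central. -/
theorem Ctx.not_odd_central (E : Ctx W j s 1)
    (hsmall : ∀ v : V3, v ≠ 0 → centralizer ({el j s v 1} : Set G) ≤ normalizer (j.range : Set G))
    (φ : G →* Multiplicative (ZMod 2)) (ht : φ (el j s 0 tau) = bitVal true)
    (hu : φ (el j s 0 negOne) ≠ 1) {g : G} (hg : g⁻¹ * el j s 0 negOne * g = el j s 0 tau) : False := by
  classical
  have : Fact (Nat.Prime 2) := ⟨Nat.prime_two⟩
  have : Fact (Nat.Prime 3) := ⟨Nat.prime_three⟩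
  obtain ⟨-, -, h6, -, -, -, hminus, hv2, hcomm, hu2⟩ := kind_one_facts
  obtain ⟨hvec, hrot0, hneg1, hrot1⟩ := kind_one_vectors
  obtain ⟨huW, hvW⟩ := E.kindOne_mem
  have htW := tau_mem E.toSetting
  obtain ⟨L, hLQ, hLn, hL3, hvL, hL2, hLb, hLt⟩ := E.sign_twist_kernel hsmall φ ht hu
  obtain ⟨w0, hw1, hw2⟩ := E.exists_sign_swap hsmall φ ht hu hg
  set t := el j s 0 tau with htdef
  set u := el j s 0 negOne with hudef
  set v := el j s 0 (negOne * tau) with hvdef
  set b := el j s (0, 1, -1) 1 with hbdef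
  have htt : t * t = 1 := E.sm_sq htW tau_facts.1
  have huu : u * u = 1 := E.sm_sq huW hu2
  have hvv : v * v = 1 := E.sm_sq hvW hv2
  have hut : u * t = v := E.el_zero_mul huW htW
  have htu : t * u = v := by rw [hvdef, hcomm]; exact E.el_zero_mul htW huW
  have hv1 : v ≠ 1 := fun e => absurd ((E.el_eq_one_iff hvW).1 e).2 (by decide +kernel)
  have htune : t ≠ u := fun e => absurd (E.el_injective htW huW e).2 (by decide +kernel)
  have hbv : b * v = v * b := ((E.el_comm_space hvW).2 negTau_facts.1).symm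
  have htv : t * v = v * t := by rw [← htu, mul_assoc, hut, ← htu]
  have htb : t * b * t = b⁻¹ := by
    rw [E.el_mul htW (one_mem W), E.el_mul (mul_mem htW (one_mem W)) htW, mul_one, tau_facts.1,
      E.el_inv (one_mem W), inv_one, act_one, zero_add,
      show act tau (0 : V3) = 0 from (actAdd tau).map_zero, add_zero]
    rw [hvec]
  have hb3 : b * b * b = 1 := by
    rw [← E.space_cube (el_mem_range (s := s) (0, 1, -1)), pow_succ, pow_two]
  set C := centralizer ({v} : Set G) with hCdef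
  set Q := C ⊓ φ.ker
  have htC : t ∈ C := mem_centralizer_singleton_iff.2 htv
  have hbC : b ∈ C := mem_centralizer_singleton_iff.2 hbv
  have hvcen : ∀ x ∈ L, v * x = x * v := fun x hx => (mem_centralizer_singleton_iff.1 (hLQ hx).1).symm
  have hA : IsPGroup 3 (zpowers b) := E.space_isPGroup.to_le (zpowers_le.2 (el_mem_range _))
  have hAL : zpowers b ≤ normalizer (L : Set G) := zpowers_le.2 (hLn hbC)
  obtain ⟨T, hT, hAT⟩ := Signalizer.exists_invariant_sylow (q := 2) hA L hL3 hAL
  obtain ⟨hTL, hT2, hTidx⟩ := hT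
  have hvT : v ∈ T := by
    have hZ : IsPGroup 2 (zpowers v) := fun x => ⟨1, Subtype.ext (by
      obtain ⟨i, hi⟩ := mem_zpowers_iff.1 x.2
      rw [pow_one, SubgroupClass.coe_pow, ← hi, ← zpow_natCast, ← zpow_mul, mul_comm, zpow_mul,
        zpow_natCast, pow_two, hvv, one_zpow]; rfl)⟩
    have h := Signalizer.IsSylowIn.eq_of_le ⟨hTL, hT2, hTidx⟩ (le_sup_left (b := zpowers v))
      (sup_le hTL (zpowers_le.2 hvL)) (IsPGroup.to_sup_of_normal_left' hT2 hZ (zpowers_le.2
        (mem_normalizer_iff.2 fun x => ⟨fun hx => by rwa [hvcen x (hTL hx), mul_inv_cancel_right],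
          fun hx => by
            have h := hvcen _ (hTL hx)
            have e : x = v * x * v⁻¹ := by
              calc x = v⁻¹ * (v * x * v⁻¹ * v) := by group
                _ = v⁻¹ * (v * (v * x * v⁻¹)) := by rw [← h]
                _ = v * x * v⁻¹ := by group
            rwa [e]⟩)))
    rw [← h]
    exact mem_sup_right (mem_zpowers v)
  have hTuniq : ∀ S, Signalizer.IsSylowIn 2 L S → zpowers b ≤ normalizer (S : Set G) → S = T := by
    intro S hS hAS
    obtain ⟨c, hcL, hcA, rfl⟩ :=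
      Signalizer.exists_conj_invariant_sylow hA hL3 hAL ⟨hTL, hT2, hTidx⟩ hS hAT hAS
    have hcT : c ∈ T := by
      rcases hLb c hcL ((hcA b (mem_zpowers b)).symm) with rfl | rfl
      · exact one_mem T
      · exact hvT
    exact mem_normalizer_iff_map_conj_eq.1 (le_normalizer hcT)
  have htT : ∀ x ∈ T, t * x * t ∈ T := by
    have htinv : t⁻¹ = t := inv_eq_of_mul_eq_one_right htt
    have hLt' : L.map (MulAut.conj t).toMonoidHom = L := mem_normalizer_iff_map_conj_eq.1 (hLn htC)
    have hS : T.map (MulAut.conj t).toMonoidHom = T := by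
      refine hTuniq _ ⟨hLt' ▸ map_mono hTL, hT2.map _, ?_⟩ ?_
      · rw [← hLt', relIndex_map_map_of_injective _ _ (MulAut.conj t).injective]
        exact hTidx
      · refine zpowers_le.2 (mem_normalizer_iff_map_conj_eq.2 ?_)
        have hb' : b⁻¹ ∈ normalizer (T : Set G) := inv_mem (hAT (mem_zpowers b))
        conv_rhs => rw [← mem_normalizer_iff_map_conj_eq.1 hb']
        rw [map_map, map_map]
        congr 1
        ext x
        show b * (t * x * t⁻¹) * b⁻¹ = t * (b⁻¹ * x * b⁻¹⁻¹) * t⁻¹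
        have e : b * t = t * b⁻¹ := by
          rw [← htb]
          calc b * t = (t * t) * b * t := by rw [htt, one_mul]
            _ = _ := by group
        calc b * (t * x * t⁻¹) * b⁻¹ = (b * t) * x * (b * t)⁻¹ := by group
          _ = _ := by rw [e]; group
    intro x hx
    rw [← hS]
    exact ⟨x, hx, by simp [htinv]⟩
  have hne : ∃ x ∈ T, x ≠ 1 ∧ x ≠ v := by
    by_contra hno
    push Not at hno
    have htwo : ∀ x ∈ Q, ∀ n, x ^ 2 ^ n = 1 → x = 1 ∨ x = v := by
      intro x hx n hn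
      have hxL := hL2 x hx n hn
      obtain ⟨T', hT'⟩ := Signalizer.IsSylowIn.exists_sylow ⟨hTL, hT2, hTidx⟩
      have hxp : IsPGroup 2 (zpowers (⟨x, hxL⟩ : L)) := fun y => ⟨n, by
        obtain ⟨i, hi⟩ := mem_zpowers_iff.1 y.2
        refine Subtype.ext ?_
        rw [SubgroupClass.coe_pow, ← hi, ← zpow_natCast, ← zpow_mul, mul_comm, zpow_mul, zpow_natCast,
          show (⟨x, hxL⟩ : L) ^ 2 ^ n = 1 from Subtype.ext (by simpa using hn), one_zpow]
        rfl⟩
      obtain ⟨R, hR⟩ := hxp.exists_le_sylow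
      obtain ⟨c, hc⟩ := MulAction.exists_smul_eq L R T'
      have h1 : ((c : G) * x * (c : G)⁻¹) ∈ T := by
        rw [← hT']
        refine ⟨c * ⟨x, hxL⟩ * c⁻¹, ?_, rfl⟩
        rw [← hc]
        exact ⟨_, hR (mem_zpowers _), rfl⟩
      rcases Classical.or_iff_not_imp_left.2 (hno _ h1) with e | e
      · exact Or.inl (by simpa using e)
      · refine Or.inr ?_
        calc x = (c : G)⁻¹ * (c * x * (c : G)⁻¹) * c := by group
          _ = v := by rw [e, mul_assoc, hvcen _ c.2, inv_mul_cancel_left]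
    obtain ⟨k, l, hl, hkl⟩ := Nat.exists_eq_two_pow_mul_odd (n := orderOf w0) (orderOf_pos w0).ne'
    set w := w0 ^ l with hw
    have hwn : w ^ 2 ^ k = 1 := by rw [hw, ← pow_mul, mul_comm, ← hkl, pow_orderOf_eq_one]
    have hswap : ∀ i, w0 ^ (2 * i + 1) * t * (w0 ^ (2 * i + 1))⁻¹ = u ∧
        w0 ^ (2 * i + 1) * u * (w0 ^ (2 * i + 1))⁻¹ = t := by
      intro i
      induction i with
      | zero => simpa using ⟨hw1, hw2⟩
      | succ i ih =>
        have e : ∀ x, w0 ^ (2 * (i + 1) + 1) * x * (w0 ^ (2 * (i + 1) + 1))⁻¹ =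
            w0 * (w0 * (w0 ^ (2 * i + 1) * x * (w0 ^ (2 * i + 1))⁻¹) * w0⁻¹) * w0⁻¹ := fun x => by
          rw [show 2 * (i + 1) + 1 = 1 + (1 + (2 * i + 1)) by ring, pow_add, pow_add, pow_one]; group
        rw [e, e, ih.1, ih.2, hw2, hw1, hw2]
        exact ⟨rfl, rfl⟩
    obtain ⟨i, rfl⟩ := hl
    obtain ⟨hwt, hwu⟩ := hswap i
    rw [← hw] at hwt hwu
    have hwC : w ∈ C := by
      refine mem_centralizer_singleton_iff.2 (mul_inv_eq_iff_eq_mul.1 ?_)
      calc w * v * w⁻¹ = (w * u * w⁻¹) * (w * t * w⁻¹) := by rw [← hut]; group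
        _ = v := by rw [hwu, hwt, htu]
    rcases bit_cases (φ w) with hφ | hφ
    · rcases htwo w ⟨hwC, MonoidHom.mem_ker.2 hφ⟩ k hwn with e | e <;> rw [e] at hwt
      · exact htune (by simpa using hwt)
      · rw [← htv, mul_inv_cancel_right] at hwt
        exact htune hwt
    · have hx : (w * t) * (w * t) = w * w * v := by
        calc w * t * (w * t) = w * (t * (w * t * w⁻¹)) * w := by group
          _ = w * v * w := by rw [hwt, htu]
          _ = w * w * v := by
            rw [mul_assoc, ← mem_centralizer_singleton_iff.1 hwC, ← mul_assoc]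
      have hxn : (w * t) ^ 2 ^ (k + 1) = 1 := by
        rw [pow_succ', pow_mul, pow_two, hx,
          ((show Commute w v from mem_centralizer_singleton_iff.1 hwC).mul_left
            (mem_centralizer_singleton_iff.1 hwC)).mul_pow, ← pow_two w, ← pow_mul, mul_comm 2, pow_mul,
          hwn, one_pow, one_mul]
        cases k with
        | zero =>
          rw [pow_zero, pow_one] at hwn
          rw [hwn, map_one] at hφ
          exact absurd hφ.symm bitVal_true_ne
        | succ k => rw [pow_succ', pow_mul, pow_two, hvv, one_pow]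
      have hxQ : w * t ∈ Q := ⟨C.mul_mem hwC htC,
        MonoidHom.mem_ker.2 (by rw [map_mul, hφ, ht, bit_sq])⟩
      have hwval : w = t ∨ w = u := by
        rcases htwo _ hxQ _ hxn with e | e
        · exact Or.inl (by rw [eq_inv_of_mul_eq_one_left e, inv_eq_of_mul_eq_one_right htt])
        · exact Or.inr (mul_right_cancel (e.trans hut.symm))
      rcases hwval with e | e <;> rw [e] at hwt
      · exact htune (by rwa [mul_inv_cancel_right] at hwt)
      · rw [hut, ← htu, mul_inv_cancel_right] at hwt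
        exact htune hwt
  obtain ⟨z, hzT, hzv, hinv⟩ := unique_involution_of_fixed hT2 hvT hv1 hvv (fun x hx => hvcen x (hTL hx))
    htt htv htT hb3 hbv (fun x hx => (mem_normalizer_iff.1 (hAT (mem_zpowers b)) x).1 hx) htb
    (fun x hx e => hLt x (hTL hx) (by
      calc x * t = t * x * t * t := by rw [e]
        _ = t * x := by rw [mul_assoc, htt, mul_one]))
    (fun x hx e => hLb x (hTL hx) (mul_inv_eq_iff_eq_mul.1 e).symm) hne
  -- `T` is a Sylow subgroup of the kernel, so `v` is isolated there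
  set K := φ.ker
  have hTK : T ≤ K := hTL.trans (hLQ.trans inf_le_right)
  obtain ⟨S2, hS2⟩ := (hT2.comap_subtype (K := K)).exists_le_sylow
  set S' : Subgroup G := (S2 : Subgroup K).map K.subtype with hS'
  have hTS : T ≤ S' := fun x hx => ⟨⟨x, hTK hx⟩, hS2 (mem_subgroupOf.2 hx), rfl⟩
  have hS'2 : IsPGroup 2 S' := S2.isPGroup'.map _
  have hS'T : S' = T := by
    suffices hcen : S' ≤ C from Signalizer.IsSylowIn.eq_of_le ⟨hTL, hT2, hTidx⟩ hTS (fun x hx => by
      obtain ⟨n, hn⟩ := hS'2 ⟨x, hx⟩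
      exact hL2 x ⟨hcen hx, map_subtype_le _ hx⟩ n (by simpa using congrArg Subtype.val hn)) hS'2
    haveI : Nontrivial S' := ⟨⟨v, hTS hvT⟩, 1, fun e => hv1 (congrArg Subtype.val e)⟩
    haveI := hS'2.center_nontrivial
    obtain ⟨c, hc2⟩ : ∃ c : center S', orderOf c = 2 := by
      refine exists_prime_orderOf_dvd_card' 2 ?_
      obtain ⟨n, hn⟩ := (hS'2.to_subgroup (center S')).exists_card_eq
      rw [hn]
      refine dvd_pow_self 2 fun h => ?_
      rw [h, pow_zero] at hn
      exact absurd hn (Finite.one_lt_card_iff_nontrivial.2 inferInstance).ne'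
    have hcc : ((c : S') : G) * ((c : S') : G) = 1 := by
      have h := pow_orderOf_eq_one c
      rw [hc2, pow_two] at h
      simpa using congrArg (fun x : center S' => ((x : S') : G)) h
    have hccomm : ∀ x ∈ S', x * ((c : S') : G) = (c : S') * x := fun x hx =>
      (congrArg Subtype.val (mem_center_iff.1 c.2 ⟨x, hx⟩) :)
    have hcQ : ((c : S') : G) ∈ Q :=
      ⟨mem_centralizer_singleton_iff.2 (hccomm v (hTS hvT)).symm, map_subtype_le _ (c : S').2⟩
    have hcL := hL2 _ hcQ 1 (by rw [pow_one, pow_two, hcc])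
    have hcT : ((c : S') : G) ∈ T := by
      rw [← Signalizer.IsSylowIn.eq_of_le ⟨hTL, hT2, hTidx⟩ (le_sup_left (b := zpowers ((c : S') : G)))
        (sup_le hTL (zpowers_le.2 hcL)) (hS'2.to_le (sup_le hTS (zpowers_le.2 (c : S').2)))]
      exact mem_sup_right (mem_zpowers _)
    intro x hx
    have hcv : ((c : S') : G) = v := (hinv _ hcT hcc).resolve_left fun e => by
      rw [show c = 1 from Subtype.ext (Subtype.ext e), orderOf_one] at hc2
      norm_num at hc2
    exact mem_centralizer_singleton_iff.2 (hcv ▸ hccomm x hx)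
  have hvK : v ∈ K := hTK hvT
  obtain ⟨N, hN, hNodd, hNv⟩ := ZStar.glauberman ZStar.uniqueInvolution S2 ⟨v, hvK⟩
    (orderOf_eq_prime (Subtype.ext (by rw [SubgroupClass.coe_pow, pow_two]; exact hvv))
      fun e => hv1 (congrArg Subtype.val e))
    (hS2 (mem_subgroupOf.2 hvT)) fun x hx => by
      have hxT : (x : G) * v * (x : G)⁻¹ ∈ T := hS'T ▸ ⟨_, hx, rfl⟩
      refine Subtype.ext ((hinv _ hxT ?_).resolve_left fun e => hv1 (by simpa using e))
      calc (x : G) * v * (x : G)⁻¹ * (x * v * (x : G)⁻¹) = x * (v * v) * (x : G)⁻¹ := by group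
        _ = 1 := by rw [hvv]; group
  set N' : Subgroup G := N.map K.subtype with hN'
  have hKN : ∀ x ∈ K, ∀ y ∈ N', x * y * x⁻¹ ∈ N' := by
    rintro x hx _ ⟨y, hy, rfl⟩
    exact ⟨_, hN.conj_mem y hy ⟨x, hx⟩, rfl⟩
  have hJK : j.range ≤ K := fun x hx => by
    obtain ⟨a, rfl⟩ := exists_el (s := s) hx
    exact MonoidHom.mem_ker.2 (E.bit_space φ a)
  have hrW : rot ∈ W := E.perm 1 false
  have hrK : el j s 0 rot ∈ K := by
    refine MonoidHom.mem_ker.2 (bit_of_three φ (n := 1) ?_)
    rw [pow_one, show rot = Mon.perm 1 false from rfl, E.rot_el_cube]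
    rw [hrot0, el_zero_one]
  have hJN : j.range ≤ N' := by
    have h1 : el j s (1, 0, 0) 1 ∈ N' := by
      have h := hNv ⟨el j s (1, 0, 0) 1, hJK (el_mem_range _)⟩
      have h' : v * el j s (1, 0, 0) 1 * v⁻¹ * (el j s (1, 0, 0) 1)⁻¹ ∈ N' := ⟨_, h, rfl⟩
      rwa [E.el_conj hvW, hminus, E.el_inv (one_mem W), inv_one, act_one, E.el_mul (one_mem W) (one_mem W),
        act_one, mul_one, hneg1] at h'
    have h2 : el j s (0, 1, 0) 1 ∈ N' ∧ el j s (0, 0, 1) 1 ∈ N' := by
      have h := hKN _ hrK _ h1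
      have h' := hKN _ hrK _ h
      rw [E.el_conj hrW] at h
      rw [E.el_conj hrW, E.el_conj hrW] at h'
      rcases hrot1 with ⟨e1, e2⟩ | ⟨e1, e2⟩ <;> rw [e2] at h' <;> rw [e1] at h
      · exact ⟨h, h'⟩
      · exact ⟨h', h⟩
    intro x hx
    obtain ⟨a, rfl⟩ := exists_el (s := s) hx
    have hadd : ∀ p q, el j s p 1 ∈ N' → el j s q 1 ∈ N' → el j s (p + q) 1 ∈ N' := fun p q hp hq => by
      have := mul_mem hp hq
      rwa [E.el_mul (one_mem W) (one_mem W), act_one, one_mul] at this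
    have hsmul : ∀ (i : ℕ) p, el j s p 1 ∈ N' → el j s (i • p) 1 ∈ N' := fun i p hp => by
      induction i with
      | zero => rw [zero_nsmul, el_zero_one]; exact one_mem _
      | succ i ih => rw [succ_nsmul]; exact hadd _ _ ih hp
    rw [decomp a]
    exact hadd _ _ (hadd _ _ (hsmul _ _ h1) (hsmul _ _ h2.1)) (hsmul _ _ h2.2)
  -- Frattini: eighteenth powers of `K` lie in `N'`
  have h18 : ∀ x ∈ K, x ^ 18 ∈ N' := by
    intro x hx
    have hP : j.range.map (MulAut.conj x).toMonoidHom ≤ N' := by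
      rintro _ ⟨p, hp, rfl⟩
      exact hKN x hx p (hJN hp)
    obtain ⟨c, hc, Q3, hQ3, hJQ, -, hcQ⟩ := E.exists_conj_space hJN (E.space_isPGroup.map _) hP
    have hcx : c * x ∈ normalizer (j.range : Set G) := E.map_conj_space fun p hp => by
      have := E.le_normalizer_of_three hQ3 hJQ (hcQ _ ⟨p, hp, rfl⟩)
      simpa [mul_assoc] using this
    obtain ⟨a, m, hm, e⟩ := E.exists_normal_form hcx
    have h18' : (c * x) ^ 18 = 1 := by
      obtain ⟨q, hq⟩ := E.el_pow hm a 6
      rw [e, show 18 = 6 * 3 from rfl, pow_mul, hq,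
        show m ^ 6 = 1 by rw [show 6 = 3 * 2 from rfl, pow_mul, pow_two, pow_succ, pow_two]; exact h6 m ((E.kind m).1 hm)]
      exact E.space_cube (el_mem_range q)
    obtain ⟨c', hc', rfl⟩ := hc
    have hxc : (c' * ⟨x, hx⟩ : K) ^ 18 = 1 := Subtype.ext (by simpa using h18')
    refine ⟨⟨x, hx⟩ ^ 18, ?_, rfl⟩
    refine (QuotientGroup.eq_one_iff (N := N) _).1 ?_
    have e1 : ((c' * ⟨x, hx⟩ : K) : K ⧸ N) = ((⟨x, hx⟩ : K) : K ⧸ N) := by
      rw [QuotientGroup.mk_mul, (QuotientGroup.eq_one_iff c').2 hc', one_mul]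
    rw [QuotientGroup.mk_pow, ← e1, ← QuotientGroup.mk_pow, hxc, QuotientGroup.mk_one]
  obtain ⟨y, hy, hyv⟩ := h18 z (hTK hzT)
  have hz18 : z ^ 18 = v := by
    rw [show 18 = 2 * 9 from rfl, pow_mul, pow_two, hzv, show 9 = 2 * 4 + 1 from rfl, pow_succ, pow_mul,
      pow_two, hvv, one_pow, one_mul]
  have hy2 : orderOf y = 2 := orderOf_eq_prime (Subtype.ext (by
    rw [SubgroupClass.coe_pow, show (y : G) = v from hyv.trans hz18, pow_two]; exact hvv))
    fun e => hv1 ((hyv.trans hz18).symm.trans (congrArg Subtype.val e))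
  have := N.orderOf_dvd_natCard hy
  rw [hy2] at this
  exact absurd (even_iff_two_dvd.2 this) (Nat.not_even_iff_odd.2 hNodd)

end Cfsg.Agent.SymNineThree
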