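import Cfsg.Agent.Lib.SymNineThree.SignTriples
import Cfsg.Agent.Lib.SymNineThree.TwoB
import Cfsg.Agent.Lib.SymNineThree.SixParity
import Cfsg.Agent.Lib.SymNineThree.Odd

/-!
# The characterisation of the symmetric group of degree nine

* `Ctx.conclusion` : `J` is normal or the group is symmetric of degree nine
* `conclusion_of_centralizer` : the same from the centralizer of an element of order three
-/

set_option autoImplicit false
set_option synthInstance.maxSize 8000
set_option synthInstance.maxHeartbeats 200000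

namespace Cfsg.Agent.SymNineThree

open Cfsg Subgroup
open ThreeCubedSymFour (V3)
open Multiplicative (ofAdd toAdd)

universe u

theorem negOne_split :
    eA * (Mon.perm 1 false * eA * (Mon.perm 1 false)⁻¹) *
      (Mon.perm 2 false * eA * (Mon.perm 2 false)⁻¹) = negOne ∧
    inKind 0 negOne = false ∧ inKind 2 negOne = false := by decide +kernel

variable {G : Type u} [Group G] [Finite G] {W : Subgroup Mon} {j : Multiplicative V3 →* G} {s : W →* G}
  {k : Fin 4}

theorem Ctx.conclusion (E : Ctx W j s k) :
    normalizer (j.range : Set G) = ⊤ ∨ Nonempty (G ≃* Equiv.Perm (Fin 9)) := by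
  obtain ⟨hneg, hk0, hk2⟩ := negOne_split
  have hodd : k = 3 → ∀ φ : G →* Multiplicative (ZMod 2), φ (el j s 0 tau) = bitVal true →
      φ (el j s 0 eA) ≠ 1 → normalizer (j.range : Set G) = ⊤ ∨ Nonempty (G ≃* Equiv.Perm (Fin 9)) := by
    rintro rfl φ ht hA
    exact E.conclusion_of_odd φ ht hA
  by_cases hsmall : ∀ v : V3, v ≠ 0 → centralizer ({el j s v 1} : Set G) ≤ normalizer (j.range : Set G)
  · obtain ⟨φ, ht, hex⟩ := E.exists_parity hsmall
    by_cases heven : inKind k negOne = true → φ (el j s 0 negOne) = 1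
    · obtain ⟨K2, P, hP⟩ := E.exists_plain φ (E.parity_values φ ht heven)
      refine Or.inl (hP ?_)
      by_cases hk : k = 3
      · subst hk
        exact P.le_normalizer_signs hsmall
      · exact P.le_normalizer hk hsmall
    · push Not at heven
      obtain ⟨hin, hu⟩ := heven
      obtain rfl | rfl | rfl | rfl : k = 0 ∨ k = 1 ∨ k = 2 ∨ k = 3 := by clear * - k; revert k; decide
      · rw [hk0] at hin; exact absurd hin Bool.false_ne_true
      · exfalso
        obtain ⟨g, hg | ⟨-, hg⟩⟩ := hex negOne (E.mem rfl) rfl (by decide +kernel) hu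
        · exact E.not_odd_central hsmall φ ht hu hg
        · refine hu ?_
          have e := congrArg φ hg
          rw [map_mul, map_mul, map_inv, mul_comm (φ g)⁻¹, inv_mul_cancel_right,
            ← E.el_zero_mul (E.mem rfl) (tau_mem E.toSetting), map_mul, ht] at e
          exact absurd (mul_eq_left.1 e.symm) bitVal_true_ne
      · rw [hk2] at hin; exact absurd hin Bool.false_ne_true
      · refine hodd rfl φ ht fun hA => hu ?_
        have hW : ∀ m : Mon, m ∈ W := fun m => E.mem rfl
        have hc : ∀ r, φ (el j s 0 (Mon.perm r false * eA * (Mon.perm r false)⁻¹)) = 1 := fun r => by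
          rw [← E.el_conj_mon (hW _) (hW _), map_mul, map_mul, hA, mul_one, map_inv, mul_inv_cancel]
        rw [← hneg, ← E.el_zero_mul (hW _) (hW _), ← E.el_zero_mul (hW _) (hW _), map_mul, map_mul, hA,
          hc, hc, mul_one, mul_one]
  · have hk : k = 3 := by
      by_contra hk
      exact hsmall fun v hv => (E.cent_or_axis hv).resolve_right fun h => hk h.1
    subst hk
    rcases E.exists_six with h | ⟨ι, c, X⟩
    · exact absurd h hsmall
    · obtain ⟨φ, ht, hA⟩ := X.exists_parity
      exact hodd rfl φ ht hA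

theorem conclusion_of_centralizer {G : Type u} [Group G] [Finite G] (x : G)
    (eC : centralizer ({x} : Set G) ≃* centralizer ({S3376.threeCycles} : Set (Equiv.Perm (Fin 9))))
    (hx : orderOf x = 3)
    (J : Subgroup G) (hJC : J ≤ centralizer ({x} : Set G)) (hJcomm : IsMulCommutative J)
    (hJexp : ∀ g ∈ J, g ^ 3 = 1) (hJcard : Nat.card J = 27)
    (hJsig : ∀ K : Subgroup G, (Nat.card K).Coprime 3 →
      (∀ a ∈ J, K.map (MulAut.conj a).toMonoidHom = K) → K = ⊥) :
    J.Normal ∨ Nonempty (G ≃* Equiv.Perm (Fin 9)) := by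
  obtain ⟨W, j, s, hS, rfl⟩ := exists_setting x eC hx J hJC hJcomm hJexp hJcard hJsig
  obtain ⟨k, hk⟩ := exists_kind W hS.perm
  exact ((⟨hS, hk⟩ : Ctx W j s k).conclusion).imp normalizer_eq_top_iff.1 id

end Cfsg.Agent.SymNineThree
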