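import Cfsg.Agent.Lib.ThreeCubedSymFour.Model

/-!
# Monomial matrices of degree three over three elements

* `Mon`: the monomial group of order 48, `act`: its action on `V3`
* named elements: `tau`, `rot`, `eA`, `eBC`, `negOne`
-/

set_option autoImplicit false

namespace Cfsg.Agent.SymNineThree

open ThreeCubedSymFour (V3 permTriple)

/-- A monomial matrix with entries `±1`: `r` rotates, `w` swaps the last two coordinates, then the signs. -/
structure Mon where
  r : ZMod 3
  w : Bool
  s : Bool
  t : Bool
  u : Bool
  deriving DecidableEq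

/-- The encoding of `Mon` as a product. -/
def Mon.equivProd : Mon ≃ ZMod 3 × Bool × Bool × Bool × Bool where
  toFun m := (m.r, m.w, m.s, m.t, m.u)
  invFun p := ⟨p.1, p.2.1, p.2.2.1, p.2.2.2.1, p.2.2.2.2⟩
  left_inv _ := rfl
  right_inv _ := rfl

instance instFintypeMon : Fintype Mon := Fintype.ofEquiv _ Mon.equivProd.symm

/-- Multiplication of monomial matrices. -/
def Mon.mulFun (g h : Mon) : Mon :=
  let e := permTriple g.r g.w (h.s, h.t, h.u)
  ⟨if g.w then g.r - h.r else g.r + h.r, xor g.w h.w, xor g.s e.1, xor g.t e.2.1, xor g.u e.2.2⟩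

/-- The inverse of a monomial matrix. -/
def Mon.invFun' (g : Mon) : Mon :=
  let r' := if g.w then g.r else -g.r
  let e := permTriple r' g.w (g.s, g.t, g.u)
  ⟨r', g.w, e.1, e.2.1, e.2.2⟩

instance instMulMon : Mul Mon := ⟨Mon.mulFun⟩
instance instOneMon : One Mon := ⟨⟨0, false, false, false, false⟩⟩
instance instInvMon : Inv Mon := ⟨Mon.invFun'⟩

/-- The action on the space. -/
def act (g : Mon) (v : V3) : V3 :=
  let y := permTriple g.r g.w v
  (if g.s then -y.1 else y.1, if g.t then -y.2.1 else y.2.1, if g.u then -y.2.2 else y.2.2)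

theorem act_ext : ∀ g h : Mon, act g (1, 0, 0) = act h (1, 0, 0) → act g (0, 1, 0) = act h (0, 1, 0) →
    act g (0, 0, 1) = act h (0, 0, 1) → g = h := by decide +kernel

theorem act_one : ∀ v, act 1 v = v := by decide +kernel

theorem act_mul_basis : ∀ g h : Mon, act (g * h) (1, 0, 0) = act g (act h (1, 0, 0)) ∧
    act (g * h) (0, 1, 0) = act g (act h (0, 1, 0)) ∧
    act (g * h) (0, 0, 1) = act g (act h (0, 0, 1)) := by decide +kernel

theorem act_add (g : Mon) (v w : V3) : act g (v + w) = act g v + act g w := by
  obtain ⟨r, w', s, t, u⟩ := g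
  obtain ⟨v1, v2, v3⟩ := v
  obtain ⟨w1, w2, w3⟩ := w
  simp only [act, permTriple, Prod.mk_add_mk]
  refine Prod.ext ?_ (Prod.ext ?_ ?_) <;>
    cases w' <;> cases s <;> cases t <;> cases u <;> simp only [] <;>
    split_ifs <;> simp [neg_add, add_comm]

/-- The action as an additive map. -/
def actAdd (g : Mon) : V3 →+ V3 where
  toFun := act g
  map_zero' := by
    have h := act_add g 0 0
    rw [add_zero] at h
    exact left_eq_add.1 h
  map_add' := act_add g

theorem decomp (v : V3) : v = v.1.val • (1, 0, 0) + v.2.1.val • (0, 1, 0) + v.2.2.val • (0, 0, 1) := by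
  revert v; decide +kernel

theorem addHom_ext {f g : V3 →+ V3} (h1 : f (1, 0, 0) = g (1, 0, 0)) (h2 : f (0, 1, 0) = g (0, 1, 0))
    (h3 : f (0, 0, 1) = g (0, 0, 1)) : f = g := by
  refine AddMonoidHom.ext fun v => ?_
  have e := decomp v
  generalize v.1.val = a, v.2.1.val = b, v.2.2.val = c at e
  subst e
  simp only [map_add, map_nsmul, h1, h2, h3]

theorem act_mul (g h : Mon) (v : V3) : act (g * h) v = act g (act h v) := by
  obtain ⟨h1, h2, h3⟩ := act_mul_basis g h
  exact congrFun (congrArg DFunLike.coe
    (addHom_ext (f := actAdd (g * h)) (g := (actAdd g).comp (actAdd h)) h1 h2 h3)) v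

instance instGroupMon : Group Mon :=
  Group.ofLeftAxioms
    (fun a b c => act_ext _ _ (by simp only [act_mul]) (by simp only [act_mul]) (by simp only [act_mul]))
    (by decide +kernel) (by decide +kernel)

/-- A permutation matrix. -/
def Mon.perm (r : ZMod 3) (w : Bool) : Mon := ⟨r, w, false, false, false⟩

/-- The exchange of the last two coordinates. -/
def tau : Mon := ⟨0, true, false, false, false⟩
/-- The rotation. -/
def rot : Mon := ⟨1, false, false, false, false⟩
/-- The first sign. -/
def eA : Mon := ⟨0, false, true, false, false⟩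
/-- The last two signs. -/
def eBC : Mon := ⟨0, false, false, true, true⟩
/-- The central sign. -/
def negOne : Mon := ⟨0, false, true, true, true⟩

/-- The point of the block sum. -/
def ones : V3 := (1, 1, 1)

theorem act_negOne : ∀ v, act negOne v = -v := by decide +kernel

theorem negOne_central : ∀ g : Mon, negOne * g = g * negOne := by decide +kernel

end Cfsg.Agent.SymNineThree
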