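import Cfsg.Agent.Lib.SymNineThree.Kernel

/-!
# The stabilisers of the points

* `stab`, `normMap` : stabilisers in the four automizers and their sums
* `point_patterns` : the stabilisers of single points
* `planeSub`, `Ctx.mem_plane` : kernels of the sums inside `J`
-/

set_option autoImplicit false
set_option synthInstance.maxSize 8000
set_option synthInstance.maxHeartbeats 200000

namespace Cfsg.Agent.SymNineThree

open Cfsg Subgroup
open ThreeCubedSymFour (V3)
open Multiplicative (ofAdd toAdd)

/-- The pointwise stabiliser of two points. -/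
def stab (k : Fin 4) (v p : V3) : Finset Mon :=
  Finset.univ.filter fun m => inKind k m = true ∧ act m v = v ∧ act m p = p

/-- The sum over the stabiliser. -/
def normFun (k : Fin 4) (v p u : V3) : V3 := ∑ m ∈ stab k v p, act m u

/-- The zeros of the sum. -/
def normKer (k : Fin 4) (v p : V3) : Finset V3 := Finset.univ.filter fun u => normFun k v p u = 0

/-- Trivial or generated by a reflection. -/
def Simple (k : Fin 4) (v p : V3) : Prop :=
  (stab k v p).card = 1 ∨ ((stab k v p).card = 2 ∧ (normKer k v p).card = 3)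

instance instDecidableSimple (k : Fin 4) (v p : V3) : Decidable (Simple k v p) := by
  unfold Simple; infer_instance

/-- Two coordinates vanish. -/
def Axis (v : V3) : Prop :=
  (v.2.1 = 0 ∧ v.2.2 = 0) ∨ (v.1 = 0 ∧ v.2.2 = 0) ∨ (v.1 = 0 ∧ v.2.1 = 0)

instance instDecidableAxis (v : V3) : Decidable (Axis v) := by unfold Axis; infer_instance

theorem point_patterns : ∀ k : Fin 4, ∀ v : V3, v ≠ 0 →
    (∃ m, inKind k m = true ∧ (act m v = ones ∨ act m v = -ones)) ∨ (k = 3 ∧ Axis v) ∨ Simple k v v ∨
    ((stab k v v).card = 2 ∧ (normKer k v v).card = 9 ∧ normFun k v v v ≠ 0) ∨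
    ((stab k v v).card = 4 ∧ (normKer k v v).card = 9 ∧ normFun k v v v ≠ 0 ∧
      (∀ m ∈ stab k v v, m * m = 1) ∧ ∀ p ∈ normKer k v v, p ≠ 0 → Simple k v p) := by
  decide +kernel

variable {k : Fin 4} {v p : V3}

theorem mem_stab {m : Mon} : m ∈ stab k v p ↔ inKind k m = true ∧ act m v = v ∧ act m p = p := by
  simp [stab]

theorem one_mem_stab : (1 : Mon) ∈ stab k v p :=
  mem_stab.2 ⟨inKind_one k, act_one v, act_one p⟩

theorem mul_mem_stab {m n : Mon} (hm : m ∈ stab k v p) (hn : n ∈ stab k v p) : m * n ∈ stab k v p := by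
  obtain ⟨h1, h2, h3⟩ := mem_stab.1 hm
  obtain ⟨g1, g2, g3⟩ := mem_stab.1 hn
  exact mem_stab.2 ⟨inKind_mul k m n h1 g1, by rw [act_mul, g2, h2], by rw [act_mul, g3, h3]⟩

theorem inv_mem_stab {m : Mon} (hm : m ∈ stab k v p) : m⁻¹ ∈ stab k v p := by
  obtain ⟨h1, h2, h3⟩ := mem_stab.1 hm
  refine mem_stab.2 ⟨inKind_inv k m h1, ?_, ?_⟩
  · conv_lhs => rw [← h2, ← act_mul, inv_mul_cancel, act_one]
  · conv_lhs => rw [← h3, ← act_mul, inv_mul_cancel, act_one]

/-- The sum as a homomorphism. -/
def normMap (k : Fin 4) (v p : V3) : V3 →+ V3 :=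
  AddMonoidHom.mk' (normFun k v p) fun a b => by
    simp only [normFun, act_add, Finset.sum_add_distrib]

theorem normMap_apply (u : V3) : normMap k v p u = normFun k v p u := rfl

theorem mem_normKer {u : V3} : u ∈ normKer k v p ↔ normMap k v p u = 0 := by
  simp [normKer, normMap_apply]

theorem normMap_act {m : Mon} (hm : m ∈ stab k v p) (u : V3) :
    normMap k v p (act m u) = normMap k v p u := by
  rw [normMap_apply, normMap_apply, normFun, normFun]
  refine Finset.sum_nbij' (fun n => n * m) (fun n => n * m⁻¹) (fun n hn => mul_mem_stab hn hm)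
    (fun n hn => mul_mem_stab hn (inv_mem_stab hm)) (fun n _ => mul_inv_cancel_right n m)
    (fun n _ => inv_mul_cancel_right n m) fun n _ => (act_mul n m u).symm

theorem eq_one_of_small (h : (stab k v p).card ≤ 2) {m : Mon} (hm : m ∈ stab k v p)
    (h3 : m * m * m = 1) : m = 1 := by
  by_contra h1
  have hne : m * m ≠ 1 := fun e => h1 (by rwa [e, one_mul] at h3)
  have hsub : ({1, m, m * m} : Finset Mon) ⊆ stab k v p := by
    intro x hx
    simp only [Finset.mem_insert, Finset.mem_singleton] at hx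
    rcases hx with rfl | rfl | rfl
    exacts [one_mem_stab, hm, mul_mem_stab hm hm]
  have := Finset.card_le_card hsub
  rw [Finset.card_eq_three.2 ⟨1, m, m * m, Ne.symm h1, Ne.symm hne, fun e => h1 (left_eq_mul.1 e), rfl⟩]
    at this
  omega

section Plane

variable {G : Type*} [Group G] {W : Subgroup Mon} {j : Multiplicative V3 →* G} {s : W →* G}

/-- The zeros of a linear map inside `J`. -/
def planeSub (j : Multiplicative V3 →* G) (F : V3 →+ V3) : Subgroup G :=
  (AddMonoidHom.toMultiplicative F).ker.map j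

theorem planeSub_le (F : V3 →+ V3) : planeSub j F ≤ j.range := by
  rintro _ ⟨u, -, rfl⟩
  exact ⟨u, rfl⟩

theorem Setting.mem_planeSub (E : Setting W j s) {F : V3 →+ V3} {u : V3} :
    el j s u 1 ∈ planeSub j F ↔ F u = 0 := by
  rw [el_one_right]
  constructor
  · rintro ⟨w, hw, e⟩
    obtain rfl := E.inj e
    exact congrArg toAdd (MonoidHom.mem_ker.1 hw)
  · intro h
    exact ⟨ofAdd u, MonoidHom.mem_ker.2 (congrArg ofAdd h), rfl⟩

theorem Setting.exists_planeSub (E : Setting W j s) {F : V3 →+ V3} {g : G} (hg : g ∈ planeSub j F) :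
    ∃ u, F u = 0 ∧ g = el j s u 1 := by
  obtain ⟨u, rfl⟩ := exists_el (s := s) (planeSub_le F hg)
  exact ⟨u, E.mem_planeSub.1 hg, rfl⟩

theorem Setting.card_planeSub (E : Setting W j s) (F : V3 →+ V3) :
    Nat.card (planeSub j F) = (Finset.univ.filter fun u : V3 => F u = 0).card := by
  rw [planeSub, card_map_of_injective E.inj, ← Fintype.card_subtype, ← Nat.card_eq_fintype_card]
  exact Nat.card_congr ⟨fun u => ⟨u.1.toAdd, congrArg toAdd (MonoidHom.mem_ker.1 u.2)⟩,
    fun u => ⟨ofAdd u.1, MonoidHom.mem_ker.2 (congrArg ofAdd u.2)⟩, fun _ => rfl, fun _ => rfl⟩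

end Plane

end Cfsg.Agent.SymNineThree
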