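import Cfsg.Agent.Lib.SymNineThree.IndexTwo
import Cfsg.Agent.Lib.SymNineThree.NoInverter
import Cfsg.Agent.Lib.ThreeCubed.Model
import Cfsg.Agent.S3701

/-!
# The parity is the sign of the permutation

* `Plain E K2` : a subnormal subgroup meeting `N(J)` in `J` and the diagonal
* `Ctx.exists_plain` : it exists, and `J` is normal if it lies in `N(J)`
* `Plain.le_normalizer` : it lies in `N(J)` unless all signs occur
-/

set_option autoImplicit false
set_option synthInstance.maxSize 8000
set_option synthInstance.maxHeartbeats 200000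

namespace Cfsg.Agent.SymNineThree

open Cfsg Subgroup
open ThreeCubedSymFour (V3)
open Multiplicative (ofAdd toAdd)

/-- The coordinate in the symmetric group of degree three. -/
def coordPerm (a : ZMod 3) (b : Bool) : ThreeCubed.P3 :=
  ThreeCubed.rot ^ a.val * (if b then ThreeCubed.swp else 1)

theorem coordPerm_mul : ∀ a b a' b', coordPerm a b * coordPerm a' b' =
    coordPerm (a + if b then -a' else a') (xor b b') := by decide +kernel

theorem coordPerm_injective : ∀ a b a' b', coordPerm a b = coordPerm a' b' → a = a' ∧ b = b' := by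
  decide +kernel

theorem coordPerm_surjective : ∀ p : ThreeCubed.P3, ∃ a b, coordPerm a b = p := by decide +kernel

theorem coordPerm_sign : ∀ a b, Equiv.Perm.sign (coordPerm a b) = if b then -1 else 1 := by decide +kernel

theorem sign_product : ∀ a b c : Bool,
    (((if a then -1 else 1) * (if b then -1 else 1) * (if c then -1 else 1) : ℤˣ) = 1) ↔
      xor (xor a b) c = false := by decide +kernel

theorem diag_mul : ∀ d d' : Mon, d.r = 0 → d.w = false → d'.r = 0 → d'.w = false →
    (d * d').s = xor d.s d'.s ∧ (d * d').t = xor d.t d'.t ∧ (d * d').u = xor d.u d'.u := by decide +kernel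

theorem diag_ext : ∀ d : Mon, d.r = 0 → d.w = false → d.s = false → d.t = false → d.u = false → d = 1 := by
  decide +kernel

variable {G : Type*} [Group G] {W : Subgroup Mon} {j : Multiplicative V3 →* G} {s : W →* G} {k : Fin 4}

/-- A subgroup meeting `N(J)` in `J` and the diagonal. -/
structure Plain (E : Ctx W j s k) (K2 : Subgroup G) : Prop where
  space : j.range ≤ K2
  form : ∀ v m, m ∈ W → el j s v m ∈ K2 → m.r = 0 ∧ m.w = false
  diag : ∀ v m, m ∈ W → m.r = 0 → m.w = false → el j s v m ∈ K2
  rotate : el j s 0 rot ∈ normalizer (K2 : Set G)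

variable [Finite G]

theorem Ctx.exists_plain (E : Ctx W j s k) (φ : G →* Multiplicative (ZMod 2))
    (hφ : ∀ v m, m ∈ W → φ (el j s v m) = bitVal m.w) :
    ∃ K2 : Subgroup G, Plain E K2 ∧
      (K2 ≤ normalizer (j.range : Set G) → normalizer (j.range : Set G) = ⊤) := by
  have N : NoInverter E.toSetting φ.ker := by
    refine ⟨fun g n hn => MonoidHom.mem_ker.2 (bit_of_three φ hn), fun v m hm hmem _ => ?_⟩
    rw [MonoidHom.mem_ker, hφ v m hm] at hmem
    cases hw : m.w
    · rfl
    · rw [hw] at hmem; exact absurd hmem bitVal_true_ne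
  obtain ⟨K2, hK, hn, hJ, hform, hinv⟩ := N.exists_index_three
  have hker : ∀ v m, m ∈ W → m.w = false → el j s v m ∈ φ.ker := fun v m hm hw =>
    MonoidHom.mem_ker.2 (by rw [hφ v m hm, hw]; rfl)
  refine ⟨K2, ⟨hJ, fun v m hm h => ?_, fun v m hm hr hw => ?_, hn (hker 0 rot (E.perm 1 false) rfl)⟩,
    fun hle => ?_⟩
  · have hw : m.w = false := by
      have h1 := MonoidHom.mem_ker.1 (hK h)
      rw [hφ v m hm] at h1
      cases hw : m.w
      · rfl
      · rw [hw] at h1; exact absurd h1 bitVal_true_ne
    exact ⟨hform v m hm hw h, hw⟩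
  · have e : el j s v m = el j s v 1 * el j s 0 m := by
      rw [E.el_mul (one_mem W) hm, show act 1 (0 : V3) = 0 from (actAdd 1).map_zero, add_zero, one_mul]
    rw [e]
    exact mul_mem (hJ (el_mem_range v)) (hinv _ (hker 0 m hm hw) (E.sm_sq hm (diag_two m hr hw)))
  · have h1 : φ.ker ≤ normalizer (j.range : Set G) := E.le_of_normal hn hJ hle
    refine eq_top_iff.2 (E.le_of_normal (N := φ.ker) ?_ (hJ.trans hK) h1)
    rw [normalizer_eq_top_iff.2 (MonoidHom.normal_ker φ)]

theorem Plain.le_normalizer {E : Ctx W j s k} {K2 : Subgroup G} (P : Plain E K2) (hk : k ≠ 3)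
    (hsmall : ∀ v : V3, v ≠ 0 → centralizer ({el j s v 1} : Set G) ≤ normalizer (j.range : Set G)) :
    K2 ≤ normalizer (j.range : Set G) := by
  classical
  have hdiag : ∀ v m, m ∈ W → el j s v m ∈ K2 → m.r = 0 ∧ m.w = false ∧ inKind k m = true :=
    fun v m hm h => ⟨(P.form v m hm h).1, (P.form v m hm h).2, (E.kind m).1 hm⟩
  have hidx : ¬ 3 ∣ (j.range.subgroupOf K2).index := E.space_index P.space fun w m hm h h3 => by
    obtain ⟨hr, hw, -⟩ := hdiag w m hm h
    rwa [diag_two m hr hw, one_mul] at h3
  obtain rfl | rfl | rfl : k = 0 ∨ k = 1 ∨ k = 2 := by clear * - k hk; revert k; decide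
  · refine (E.le_space_of_trivial P.space fun w m hm h => ?_).trans le_normalizer
    obtain ⟨hr, hw, hkm⟩ := hdiag w m hm h
    have key : ∀ m : Mon, m.r = 0 → m.w = false → inKind 0 m = true → m = 1 := by decide +kernel
    exact key m hr hw hkm
  · have hcase : ∀ w m, m ∈ W → el j s w m ∈ K2 → m = 1 ∨ m = negOne := fun w m hm h => by
      obtain ⟨hr, hw, hkm⟩ := hdiag w m hm h
      have key : ∀ m : Mon, m.r = 0 → m.w = false → inKind 1 m = true → m = 1 ∨ m = negOne := by
        decide +kernel
      exact key m hr hw hkm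
    have huW : negOne ∈ W := E.mem rfl
    have hu : el j s 0 negOne ∈ K2 := P.diag 0 negOne huW rfl rfl
    have hloc : Loc K2 j.range ⊥ := by
      refine ⟨P.space, E.space_comm, fun p hp => E.space_cube hp, ?_, hidx, bot_le,
        fun g _ => by rw [normalizer_eq_top_iff.2 (inferInstance)]; exact mem_top g,
        fun z hz p _ => by rw [mem_bot.1 hz, one_mul, mul_one], by simp,
        fun g _ hg => ⟨g, ?_, 1, one_mem _, (mul_one g).symm⟩, E.sig.mono le_top⟩
      · intro hc
        obtain ⟨g, hg⟩ := hc.exists_generator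
        have h1 := orderOf_eq_card_of_forall_mem_zpowers hg
        rw [E.card_space] at h1
        have h2 : g ^ 3 = 1 := Subtype.ext (by simpa using E.space_cube g.2)
        have := orderOf_dvd_of_pow_eq_one h2
        rw [h1] at this
        norm_num at this
      · exact E.cent_space fun u => (hg _ (el_mem_range u)).symm
    refine hloc.le_normalizer_inverted hu (fun p hp => ?_) (E.sm_sq huW (by decide +kernel)) fun n hn hnN => ?_
    · obtain ⟨u, rfl⟩ := exists_el (s := s) hp
      rw [E.el_conj huW, act_negOne, E.el_inv (one_mem W), inv_one, act_one]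
    · obtain ⟨w, m, hm, rfl⟩ := E.exists_normal_form hnN
      rcases hcase w m hm hn with rfl | rfl
      · exact Or.inl ⟨_, el_mem_range (s := s) w, 1, one_mem _, (mul_one _).symm⟩
      · refine Or.inr ⟨_, el_mem_range (s := s) w, 1, one_mem _, ?_⟩
        rw [mul_one, E.el_mul hm hm, act_negOne, neg_zero, add_zero, show negOne * negOne = 1 by decide +kernel]
  · set H' := (normalizer (j.range : Set G)).subgroupOf K2
    set T := j.range.subgroupOf K2
    have hmem : ∀ g : H', ∃ v m, m ∈ W ∧ m.r = 0 ∧ m.w = false ∧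
        xor (xor m.s m.t) m.u = false ∧ ((g : K2) : G) = el j s v m := by
      intro g
      obtain ⟨v, m, hm, e⟩ := E.exists_normal_form (mem_subgroupOf.1 g.2)
      obtain ⟨hr, hw, hkm⟩ := hdiag v m hm (e ▸ (g : K2).2)
      refine ⟨v, m, hm, hr, hw, ?_, e⟩
      simpa [inKind] using hkm
    choose fv fm hfm hr hw hx hf using hmem
    let f : H' →* (Fin 3 → ThreeCubed.P3) := MonoidHom.mk'
      (fun g => ![coordPerm (fv g).1 (fm g).s, coordPerm (fv g).2.1 (fm g).t, coordPerm (fv g).2.2 (fm g).u])
      fun a b => by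
        have e := hf (a * b)
        rw [Subgroup.coe_mul, Subgroup.coe_mul, hf a, hf b, E.el_mul (hfm a) (hfm b)] at e
        obtain ⟨e1, e2⟩ := E.el_injective (mul_mem (hfm a) (hfm b)) (hfm _) e
        obtain ⟨h1, h2, h3⟩ := diag_mul _ _ (hr a) (hw a) (hr b) (hw b)
        have hact : ∀ (d : Mon) (v : V3), d.r = 0 → d.w = false → act d v =
            ((if d.s then -v.1 else v.1), (if d.t then -v.2.1 else v.2.1), (if d.u then -v.2.2 else v.2.2)) := by
          rintro ⟨r, w, a, b, c⟩ v hr hw
          simp only at hr hw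
          subst hr hw
          rfl
        beta_reduce
        rw [← e1, ← e2, hact _ _ (hr a) (hw a), h1, h2, h3]
        funext i
        fin_cases i <;> simp [coordPerm_mul]
    have hf1 : ∀ g, f g = ![coordPerm (fv g).1 (fm g).s, coordPerm (fv g).2.1 (fm g).t,
        coordPerm (fv g).2.2 (fm g).u] := fun g => rfl
    have hrange : ∀ g, f g ∈ ThreeCubed.tripleSub := fun g => by
      rw [ThreeCubed.mem_tripleSub, Fin.prod_univ_three, hf1]
      simp only [Matrix.cons_val_zero, Matrix.cons_val_one, Matrix.cons_val_two, Matrix.head_cons,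
        Matrix.tail_cons, coordPerm_sign]
      exact (sign_product _ _ _).2 (hx g)
    have hbij : Function.Bijective (f.codRestrict ThreeCubed.tripleSub hrange) := by
      constructor
      · rw [injective_iff_map_eq_one]
        intro g hg
        have hg' : f g = 1 := congrArg Subtype.val hg
        rw [hf1] at hg'
        have h1 : coordPerm 0 false = 1 := by decide +kernel
        obtain ⟨a1, b1⟩ := coordPerm_injective _ _ _ _ ((congrFun hg' 0).trans h1.symm)
        obtain ⟨a2, b2⟩ := coordPerm_injective _ _ _ _ ((congrFun hg' 1).trans h1.symm)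
        obtain ⟨a3, b3⟩ := coordPerm_injective _ _ _ _ ((congrFun hg' 2).trans h1.symm)
        refine Subtype.ext (Subtype.ext ?_)
        rw [hf g, diag_ext _ (hr g) (hw g) b1 b2 b3, show fv g = 0 from Prod.ext a1 (Prod.ext a2 a3),
          el_zero_one]
        rfl
      · rintro ⟨p, hp⟩
        obtain ⟨a1, b1, e1⟩ := coordPerm_surjective (p 0)
        obtain ⟨a2, b2, e2⟩ := coordPerm_surjective (p 1)
        obtain ⟨a3, b3, e3⟩ := coordPerm_surjective (p 2)
        set m : Mon := ⟨0, false, b1, b2, b3⟩
        have hbx : xor (xor b1 b2) b3 = false := by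
          refine (sign_product _ _ _).1 ?_
          rw [ThreeCubed.mem_tripleSub, Fin.prod_univ_three, ← e1, ← e2, ← e3, coordPerm_sign,
            coordPerm_sign, coordPerm_sign] at hp
          exact hp
        have hmW : m ∈ W := E.mem (by simp [inKind, m, hbx])
        have hg : el j s (a1, a2, a3) m ∈ K2 := P.diag _ m hmW rfl rfl
        let g : H' := ⟨⟨_, hg⟩, mem_subgroupOf.2 (E.el_mem_normalizer hmW _)⟩
        refine ⟨g, Subtype.ext ?_⟩
        show f g = p
        obtain ⟨h1, h2⟩ := E.el_injective (hfm g) hmW (hf g).symm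
        rw [hf1, h1, h2]
        funext i
        fin_cases i <;> simp [e1, e2, e3, m]
    have hTH : T ≤ H' := fun g hg => mem_subgroupOf.2 (le_normalizer (mem_subgroupOf.1 hg))
    have hT : Nat.card T = 27 := by
      rw [Nat.card_congr (subgroupOfEquivOfLe P.space).toEquiv, E.card_space]
    have hN : normalizer (T : Set K2) = H' := by
      ext g
      rw [mem_normalizer_iff, mem_subgroupOf]
      constructor
      · intro h
        refine mem_normalizer_iff.2 fun x => ⟨fun hx => ?_, fun hx => ?_⟩
        · have := (h ⟨x, P.space hx⟩).1 (mem_subgroupOf.2 hx)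
          simpa [T, mem_subgroupOf] using this
        · have hxK : x ∈ K2 := by
            have := K2.mul_mem (K2.mul_mem (K2.inv_mem g.2) (P.space hx)) g.2
            simpa [mul_assoc] using this
          have := (h ⟨x, hxK⟩).2 (mem_subgroupOf.2 (by simpa using hx))
          exact mem_subgroupOf.1 this
      · intro h x
        have := mem_normalizer_iff.1 h (x : G)
        simpa [T, mem_subgroupOf] using this
    have hC : ∀ t ∈ T, t ≠ 1 → centralizer ({t} : Set K2) ≤ H' := by
      intro t ht ht1 g hg
      obtain ⟨u, hu⟩ := exists_el (s := s) (mem_subgroupOf.1 ht)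
      refine mem_subgroupOf.2 (hsmall u ?_ ?_)
      · rintro rfl
        exact ht1 (Subtype.ext (by rw [hu, el_zero_one]; rfl))
      · rw [← hu]
        exact mem_centralizer_singleton_iff.2 (congrArg Subtype.val (mem_centralizer_singleton_iff.1 hg))
    have htop := S3701.result H' ⟨(MulEquiv.ofBijective _ hbij).trans ThreeCubed.closure_equiv⟩ T hTH hT hN hC
    exact fun g hg => mem_subgroupOf.1 (htop ▸ mem_top (⟨g, hg⟩ : K2))

end Cfsg.Agent.SymNineThree
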