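import Cfsg.Agent.Lib.SymNineThree.PlainCase

/-!
# All signs with even central sign

* `Plain.cent_single` : the centralizers of the single signs in `K2`
* `Plain.single_fusion` : their fusion in `K2`
* `Plain.le_normalizer_signs` : `K2` lies in `N(J)`
-/

set_option autoImplicit false
set_option synthInstance.maxSize 8000
set_option synthInstance.maxHeartbeats 200000

namespace Cfsg.Agent.SymNineThree

open Cfsg Subgroup
open ThreeCubedSymFour (V3)
open Multiplicative (ofAdd toAdd)

/-- A sign in one coordinate. -/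
def single (i : ZMod 3) : Mon := ⟨0, false, decide (i = 0), decide (i = 1), decide (i = 2)⟩

theorem single_facts : single 0 = eA ∧
    (∀ i, (single i).r = 0 ∧ (single i).w = false ∧ single i * single i = 1 ∧
      Mon.perm i false * eA * (Mon.perm i false)⁻¹ = single i) ∧
    (∀ u : V3, act eA u = u → act eA u = u ∧ u.1 = 0) ∧
    (Finset.univ.filter fun u : V3 => act eA u = u).card = 9 ∧
    (∀ m : Mon, act m (0, 1, 0) = (0, 1, 0) → act m (0, 0, 1) = (0, 0, 1) → m = 1 ∨ m = eA) ∧
    (∀ i l : ZMod 3, i ≠ l → ∃ u : V3, u ≠ 0 ∧ act (single i) u = u ∧ act (single l) u = -u ∧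
      ∀ m : Mon, m.r = 0 → m.w = false → act m u = u ∨ act m u = -u) := by decide +kernel

theorem diag_cases : ∀ d : Mon, d.r = 0 → d.w = false → d = 1 ∨ d = negOne ∨ (∃ i, d = single i) ∨
    ∃ u : V3, u ≠ 0 ∧ act d u = u ∧ (∀ w, act d w = w → w = 0 ∨ w = u ∨ w = -u) ∧
      ∀ x : Mon, x * x * x = 1 → x * d = d * x → act x u = u → x = 1 := by decide +kernel

theorem diag_comm : ∀ d : Mon, d.r = 0 → d.w = false → d * eA = eA * d ∧ d * d = 1 ∧
    (d = 1 ∨ d = eA ∨ d = single 1 ∨ d = single 2 ∨ d = single 1 * single 2 ∨ d = eA * single 1 ∨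
      d = eA * single 2 ∨ d = eA * (single 1 * single 2)) := by decide +kernel

theorem single_split : ∀ d : Mon, d.r = 0 → d.w = false →
    d = (if d.s then single 0 else 1) * (if d.t then single 1 else 1) * (if d.u then single 2 else 1) := by
  decide +kernel

variable {G : Type*} [Group G] {W : Subgroup Mon} {j : Multiplicative V3 →* G} {s : W →* G}

theorem Ctx.single_mem (E : Ctx W j s 3) (i : ZMod 3) : single i ∈ W := E.mem rfl

theorem Ctx.all_mem (E : Ctx W j s 3) (m : Mon) : m ∈ W := E.mem rfl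

theorem Setting.conj_sm (E : Setting W j s) {c d : Mon} (hc : c ∈ W) (hd : d ∈ W) :
    el j s 0 c * el j s 0 d * (el j s 0 c)⁻¹ = el j s 0 (c * d * c⁻¹) := by
  rw [E.el_inv hc, show act c⁻¹ (0 : V3) = 0 from (actAdd _).map_zero, neg_zero, E.el_mul hc hd,
    show act c (0 : V3) = 0 from (actAdd _).map_zero, add_zero, E.el_mul (mul_mem hc hd) (inv_mem hc),
    show act (c * d) (0 : V3) = 0 from (actAdd _).map_zero, add_zero]

variable [Finite G] {E : Ctx W j s 3} {K2 : Subgroup G}

theorem Plain.cent_eA (P : Plain E K2)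
    (hsmall : ∀ v : V3, v ≠ 0 → centralizer ({el j s v 1} : Set G) ≤ normalizer (j.range : Set G)) :
    centralizer ({el j s 0 eA} : Set G) ⊓ K2 ≤ normalizer (j.range : Set G) := by
  obtain ⟨h0, hsing, -, h9, hpt, -⟩ := single_facts
  set e := el j s 0 eA
  set C := centralizer ({e} : Set G) ⊓ K2 with hC
  set Q := planeSub j (fixMap eA) with hQ
  set Z := zpowers e with hZ
  have hAW : eA ∈ W := E.all_mem _
  have he2 : e * e = 1 := E.sm_sq hAW (by decide +kernel)
  have hQmem : ∀ u, el j s u 1 ∈ Q ↔ act eA u = u := fun u => E.mem_planeSub.trans fixMap_eq_zero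
  have hQC : Q ≤ C := fun g hg => by
    obtain ⟨u, hu, rfl⟩ := E.exists_planeSub hg
    exact ⟨mem_centralizer_singleton_iff.2 ((E.el_comm_space hAW).2 (fixMap_eq_zero.1 hu)).symm,
      P.space (el_mem_range u)⟩
  have hQ3 : IsPGroup 3 Q := E.space_isPGroup.to_le (planeSub_le _)
  have hQcomm : IsMulCommutative Q := ⟨⟨fun a b => Subtype.ext (congrArg Subtype.val
    (E.space_comm.is_comm.comm ⟨a, planeSub_le _ a.2⟩ ⟨b, planeSub_le _ b.2⟩) :)⟩⟩
  have hQ9 : Nat.card Q = 9 := by
    rw [hQ, E.card_planeSub, ← h9]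
    exact congrArg Finset.card (Finset.filter_congr fun u _ => fixMap_eq_zero)
  have hQnc : ¬ IsCyclic Q := by
    intro hc
    obtain ⟨g, hg⟩ := hc.exists_generator
    have h1 := orderOf_eq_card_of_forall_mem_zpowers hg
    rw [hQ9] at h1
    have h2 : g ^ 3 = 1 := Subtype.ext (by simpa using E.space_cube (planeSub_le _ g.2))
    have := orderOf_dvd_of_pow_eq_one h2
    rw [h1] at this
    norm_num at this
  have hform : ∀ {g}, g ∈ C → g ∈ normalizer (j.range : Set G) →
      ∃ w m, m.r = 0 ∧ m.w = false ∧ act eA w = w ∧ g = el j s w m := by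
    intro g hg hN
    obtain ⟨w, m, hm, rfl⟩ := E.exists_normal_form hN
    obtain ⟨hr, hw⟩ := P.form w m hm hg.2
    have hc := mem_centralizer_singleton_iff.1 hg.1
    rw [E.el_comm_iff hm hAW, show act m (0 : V3) = 0 from (actAdd m).map_zero, add_zero, zero_add] at hc
    exact ⟨w, m, hr, hw, hc.1.symm, rfl⟩
  have hcentQ : ∀ {g}, (∀ q ∈ Q, g * q = q * g) → ∃ w m, (m = 1 ∨ m = eA) ∧ g = el j s w m := by
    intro g hg
    have hq : ∀ u, act eA u = u → g * el j s u 1 = el j s u 1 * g := fun u hu => hg _ ((hQmem u).2 hu)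
    obtain ⟨w, m, hm, rfl⟩ := E.exists_normal_form (hsmall (0, 1, 1) (by decide +kernel)
      (mem_centralizer_singleton_iff.2 (hq _ (by decide +kernel))))
    exact ⟨w, m, hpt m ((E.el_comm_space hm).1 (hq _ (by decide +kernel)))
      ((E.el_comm_space hm).1 (hq _ (by decide +kernel))), rfl⟩
  have hNQ : normalizer (Q : Set G) ≤ normalizer (j.range : Set G) := fun g hg =>
    E.map_conj_space fun p hp => by
      obtain ⟨w, m, -, e'⟩ := hcentQ (g := g * p * g⁻¹) fun q hq => by
        have hq' : g⁻¹ * q * g ∈ Q := (mem_normalizer_iff.1 hg _).2 (by simpa [mul_assoc] using hq)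
        have hc : Commute p (g⁻¹ * q * g) :=
          (congrArg Subtype.val (E.space_comm.is_comm.comm ⟨p, hp⟩ ⟨_, planeSub_le _ hq'⟩) :)
        have := (hc.map (MulAut.conj g).toMonoidHom).eq
        simpa [mul_assoc] using this
      rw [e']
      exact E.el_mem_normalizer (E.all_mem m) w
  have hQN : ∀ {g}, g ∈ C → g ∈ normalizer (j.range : Set G) → g ∈ normalizer (Q : Set G) := by
    intro g hg hN
    obtain ⟨w, m, hr, hw, -, rfl⟩ := hform hg hN
    refine mem_normalizer_iff_map_conj_eq.2 (eq_of_le_of_card_ge ?_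
      (by rw [card_map_of_injective (MulAut.conj (el j s w m)).injective]))
    rintro _ ⟨q, hq, rfl⟩
    obtain ⟨u, hu, rfl⟩ := E.exists_planeSub hq
    show el j s w m * el j s u 1 * (el j s w m)⁻¹ ∈ Q
    rw [E.el_conj (E.all_mem m)]
    exact (hQmem _).2 (by rw [← act_mul, ← (diag_comm m hr hw).1, act_mul, fixMap_eq_zero.1 hu])
  have hZcases : ∀ z ∈ Z, z = 1 ∨ z = e := fun z hz => by
    obtain ⟨i, rfl⟩ := mem_zpowers_iff.1 hz
    rcases Int.even_or_odd i with ⟨l, rfl⟩ | ⟨l, rfl⟩
    · left; rw [← two_mul, zpow_mul, zpow_two, he2, one_zpow]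
    · right; rw [zpow_add_one, zpow_mul, zpow_two, he2, one_zpow, one_mul]
  have hZcent : ∀ z ∈ Z, ∀ p ∈ Q, z * p = p * z := fun z hz p hp => by
    rcases hZcases z hz with rfl | rfl
    · rw [one_mul, mul_one]
    · exact (mem_centralizer_singleton_iff.1 (hQC hp).1).symm
  have hmemZ : ∀ {m}, (m = 1 ∨ m = eA) → el j s 0 m ∈ Z := by
    rintro m (rfl | rfl)
    · rw [el_zero_one]; exact one_mem _
    · exact mem_zpowers _
  have heC : e ∈ C := ⟨mem_centralizer_singleton_iff.2 rfl,
    P.diag 0 eA hAW (by decide +kernel) (by decide +kernel)⟩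
  have hSig : Sig Q C Z := sig_of_points hQ3 hQcomm hQnc fun a ha ha1 K hK hQK hcop g hg => by
    obtain ⟨u, -, rfl⟩ := E.exists_planeSub ha
    have hN := hsmall u (fun e' => ha1 (by rw [e', el_zero_one])) hg.2
    have hcent := le_of_commutator hQK hQ3 hcop hg.1 (hQN (hK hg.1) hN)
    obtain ⟨w, m, hm, rfl⟩ := hcentQ (g := g) fun q hq => (hcent q hq).symm
    obtain ⟨w', m', -, -, hw', e'⟩ := hform (hK hg.1) hN
    obtain ⟨rfl, rfl⟩ := E.el_injective (E.all_mem m) (E.all_mem m') e'
    have hsq : el j s w m * el j s w m = el j s (w + w) 1 := by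
      rw [E.el_mul (E.all_mem m) (E.all_mem m)]
      rcases hm with rfl | rfl
      · rw [act_one, one_mul]
      · rw [hw', show eA * eA = 1 by decide +kernel]
    have h1 : el j s (w + w) 1 = 1 := by
      refine orderOf_eq_one_iff.1 (Nat.eq_one_of_dvd_coprimes hcop.symm ?_ ?_)
      · exact orderOf_dvd_of_pow_eq_one (E.space_cube (el_mem_range _))
      · rw [← hsq]; exact Subgroup.orderOf_dvd_natCard K (K.mul_mem hg.1 hg.1)
    have key : ∀ w : V3, w + w = 0 → w = 0 := by decide +kernel
    rw [key w ((E.el_eq_one_iff (one_mem W)).1 h1).1]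
    exact hmemZ hm
  have hloc : Loc C Q Z := by
    refine ⟨hQC, hQcomm, fun p hp => E.space_cube (planeSub_le _ hp), hQnc, ?_, zpowers_le.2 heC, ?_,
      hZcent, ?_, fun g hg hgQ => ?_, hSig⟩
    · refine not_dvd_index_of_normalizer hQC hQ3 fun g hg hgQ n hn => ?_
      obtain ⟨w, m, hr, hw, hfix, rfl⟩ := hform hg (hNQ hgQ)
      have h3 := E.cube_of_el (E.all_mem m) hn
      rw [pow_succ, pow_two, (diag_comm m hr hw).2.1, one_mul] at h3
      subst h3
      exact (hQmem w).2 hfix
    · intro c hc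
      refine mem_normalizer_iff.2 fun z => ?_
      have hcz : ∀ z ∈ Z, c * z * c⁻¹ = z := fun z hz => by
        rcases hZcases z hz with rfl | rfl
        · group
        · rw [mem_centralizer_singleton_iff.1 hc.1, mul_inv_cancel_right]
      refine ⟨fun hz => (hcz z hz).symm ▸ hz, fun hz => ?_⟩
      have h2 : c * z * c⁻¹ = z := mul_left_cancel (mul_right_cancel (hcz _ hz))
      rwa [h2] at hz
    · refine Nat.Coprime.coprime_dvd_left ?_ (show Nat.Coprime 2 3 by norm_num)
      rw [hZ, Nat.card_zpowers]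
      exact orderOf_dvd_of_pow_eq_one (by rw [pow_two, he2])
    · obtain ⟨w, m, hm, rfl⟩ := hcentQ (g := g) fun q hq => (hgQ q hq).symm
      obtain ⟨w', m', -, -, hw', e'⟩ := hform hg (E.el_mem_normalizer (E.all_mem m) w)
      obtain ⟨rfl, rfl⟩ := E.el_injective (E.all_mem m) (E.all_mem m') e'
      refine ⟨el j s w 1, (hQmem w).2 hw', el j s 0 m, hmemZ hm, ?_⟩
      rw [E.el_mul (one_mem W) (E.all_mem m), show act 1 (0 : V3) = 0 from (actAdd 1).map_zero, add_zero,
        one_mul]
  suffices C ≤ normalizer (Q : Set G) from fun c hc => hNQ (this hc)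
  have hxC : ∀ i, el j s 0 (single i) ∈ C ∧ el j s 0 (single i) ∈ normalizer (Q : Set G) := fun i => by
    obtain ⟨hr, hw, -, -⟩ := hsing i
    have h1 : el j s 0 (single i) ∈ C := by
      refine ⟨mem_centralizer_singleton_iff.2 ?_, P.diag 0 _ (E.all_mem _) hr hw⟩
      rw [E.el_comm_iff (E.all_mem _) hAW]
      exact ⟨by rw [show act (single i) (0 : V3) = 0 from (actAdd _).map_zero,
        show act eA (0 : V3) = 0 from (actAdd _).map_zero], (diag_comm _ hr hw).1⟩
    exact ⟨h1, hQN h1 (E.el_mem_normalizer (E.all_mem _) 0)⟩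
  have hab : el j s 0 (single 1) * el j s 0 (single 2) = el j s 0 (single 1 * single 2) := by
    rw [E.el_mul (E.all_mem _) (E.all_mem _),
      show act (single 1) (0 : V3) = 0 from (actAdd _).map_zero, add_zero]
  refine hloc.le_normalizer_klein hQ9 (hxC 1).1 (hxC 2).1 (hxC 1).2 (hxC 2).2 (fun p hp z hz => ?_)
    (fun n hn hnQ => ?_) (fun n hn hnQ => ?_) fun p hp hp1 g hg hgp => ?_
  · obtain ⟨u, -, rfl⟩ := E.exists_planeSub hp
    have hne : ∀ x, (x = single 1 ∨ x = single 2 ∨ x = single 1 * single 2) →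
        el j s 0 x ≠ el j s u 1 * z := by
      intro x hx e'
      have key : ∀ x, (x = single 1 ∨ x = single 2 ∨ x = single 1 * single 2) → x ≠ 1 ∧ x ≠ eA := by
        decide +kernel
      rcases hZcases z hz with rfl | rfl
      · rw [mul_one] at e'
        exact (key x hx).1 (E.el_injective (E.all_mem x) (one_mem W) e').2
      · rw [E.el_mul (one_mem W) hAW, one_mul] at e'
        exact (key x hx).2 (E.el_injective (E.all_mem x) hAW e').2
    rw [hab]
    exact ⟨hne _ (Or.inl rfl), hne _ (Or.inr (Or.inl rfl)), hne _ (Or.inr (Or.inr rfl))⟩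
  · obtain ⟨w, m, hr, hw, hfix, rfl⟩ := hform hn (hNQ hnQ)
    refine ⟨el j s (w + act m w) 1, (hQmem _).2 ?_, 1, one_mem _, ?_⟩
    · rw [act_add, ← act_mul, ← (diag_comm m hr hw).1, act_mul, hfix]
    · rw [mul_one, E.el_mul (E.all_mem m) (E.all_mem m), (diag_comm m hr hw).2.1]
  · obtain ⟨w, m, hr, hw, hfix, rfl⟩ := hform hn (hNQ hnQ)
    have hsplit : ∀ x y, x * y = m → x * eA = eA * x → x * x = 1 → (y = 1 ∨ y = eA) →
        ∃ p ∈ Q, ∃ z ∈ Z, el j s w m = el j s 0 x * (p * z) := by
      intro x y hxy hxc hx2 hy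
      refine ⟨el j s (act x w) 1, (hQmem _).2 (by rw [← act_mul, ← hxc, act_mul, hfix]), _, hmemZ hy, ?_⟩
      rw [E.el_mul (one_mem W) (E.all_mem y), show act 1 (0 : V3) = 0 from (actAdd 1).map_zero, add_zero,
        one_mul, E.el_mul (E.all_mem x) (E.all_mem y), ← act_mul, hx2, act_one, zero_add, hxy]
    have hone : ∀ y, (y = 1 ∨ y = eA) → y = m → ∃ p ∈ Q, ∃ z ∈ Z, el j s w m = p * z := by
      intro y hy hym
      obtain ⟨p, hp, z, hz, e'⟩ := hsplit 1 y (by rw [one_mul, hym]) (by rw [one_mul, mul_one]) (one_mul 1) hy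
      exact ⟨p, hp, z, hz, by rw [e', el_zero_one, one_mul]⟩
    obtain ⟨-, -, hm⟩ := diag_comm m hr hw
    have key : single 1 * eA = eA * single 1 ∧ single 2 * eA = eA * single 2 ∧
        single 1 * single 2 * eA = eA * (single 1 * single 2) ∧ single 1 * single 1 = 1 ∧
        single 2 * single 2 = 1 ∧ single 1 * single 2 * (single 1 * single 2) = 1 := by decide +kernel
    obtain ⟨k1, k2, k3, q1, q2, q3⟩ := key
    rcases hm with hm | hm | hm | hm | hm | hm | hm | hm
    · exact Or.inl (hone 1 (Or.inl rfl) hm.symm)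
    · exact Or.inl (hone eA (Or.inr rfl) hm.symm)
    · exact Or.inr (Or.inl (hsplit (single 1) 1 (by rw [mul_one, hm]) k1 q1 (Or.inl rfl)))
    · exact Or.inr (Or.inr (Or.inl (hsplit (single 2) 1 (by rw [mul_one, hm]) k2 q2 (Or.inl rfl))))
    · exact Or.inr (Or.inr (Or.inr (hab ▸ hsplit _ 1 (by rw [mul_one, hm]) k3 q3 (Or.inl rfl))))
    · exact Or.inr (Or.inl (hsplit (single 1) eA (by rw [k1, hm]) k1 q1 (Or.inr rfl)))
    · exact Or.inr (Or.inr (Or.inl (hsplit (single 2) eA (by rw [k2, hm]) k2 q2 (Or.inr rfl))))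
    · exact Or.inr (Or.inr (Or.inr (hab ▸ hsplit _ eA (by rw [k3, hm]) k3 q3 (Or.inr rfl))))
  · obtain ⟨u, -, rfl⟩ := E.exists_planeSub hp
    exact hQN hg (hsmall u (fun e' => hp1 (by rw [e', el_zero_one])) (mem_centralizer_singleton_iff.2 hgp))

theorem Plain.cent_single (P : Plain E K2)
    (hsmall : ∀ v : V3, v ≠ 0 → centralizer ({el j s v 1} : Set G) ≤ normalizer (j.range : Set G))
    (i : ZMod 3) : centralizer ({el j s 0 (single i)} : Set G) ⊓ K2 ≤ normalizer (j.range : Set G) := by
  intro g hg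
  set c := el j s 0 (Mon.perm i false)
  have hcK : c ∈ normalizer (K2 : Set G) := by
    have key : ∀ i : ZMod 3, Mon.perm i false = 1 ∨ Mon.perm i false = rot ∨ Mon.perm i false = rot * rot := by
      decide +kernel
    rcases key i with e | e | e <;> simp only [c, e]
    · rw [el_zero_one]; exact one_mem _
    · exact P.rotate
    · have : el j s 0 (rot * rot) = el j s 0 rot * el j s 0 rot := by
        rw [E.el_mul (E.all_mem _) (E.all_mem _), show act rot (0 : V3) = 0 from (actAdd _).map_zero, add_zero]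
      rw [this]; exact mul_mem P.rotate P.rotate
  have hc : c * el j s 0 eA * c⁻¹ = el j s 0 (single i) := by
    rw [E.conj_sm (E.all_mem _) (E.all_mem _), (single_facts.2.1 i).2.2.2]
  have h1 : c⁻¹ * g * c ∈ centralizer ({el j s 0 eA} : Set G) ⊓ K2 := by
    refine ⟨mem_centralizer_singleton_iff.2 ?_,
      (mem_normalizer_iff.1 hcK (c⁻¹ * g * c)).2 (by simpa [mul_assoc] using hg.2)⟩
    have h2 : Commute g (c * el j s 0 eA * c⁻¹) := by rw [hc]; exact mem_centralizer_singleton_iff.1 hg.1
    have h3 := (h2.map (MulAut.conj c⁻¹).toMonoidHom).eq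
    simpa [mul_assoc] using h3
  have h3 := P.cent_eA hsmall h1
  have hcN : c ∈ normalizer (j.range : Set G) := E.el_mem_normalizer (E.all_mem _) 0
  have := mul_mem (mul_mem hcN h3) (inv_mem hcN)
  simpa [mul_assoc] using this

/-- Conjugates in `K2` of a single sign. -/
theorem Plain.single_fusion (P : Plain E K2)
    (hsmall : ∀ v : V3, v ≠ 0 → centralizer ({el j s v 1} : Set G) ≤ normalizer (j.range : Set G))
    {i : ZMod 3} {g : G} (hg : g ∈ K2) {v : V3} {d : Mon}
    (h : g⁻¹ * el j s 0 (single i) * g = el j s v d) (hd : d ≠ negOne) :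
    d = single i ∧ el j s v d = el j s (-v) 1 * el j s 0 (single i) * (el j s (-v) 1)⁻¹ := by
  obtain ⟨-, hsing, -, -, -, hsep⟩ := single_facts
  obtain ⟨hri, hwi, hi2, hci⟩ := hsing i
  have he2 : el j s v d * el j s v d = 1 := by
    rw [← h]
    calc g⁻¹ * el j s 0 (single i) * g * (g⁻¹ * el j s 0 (single i) * g)
        = g⁻¹ * (el j s 0 (single i) * el j s 0 (single i)) * g := by group
      _ = 1 := by rw [E.sm_sq (E.all_mem _) hi2]; group
  have hdK : el j s v d ∈ K2 := by
    rw [← h]
    exact mul_mem (mul_mem (inv_mem hg) (P.diag 0 _ (E.all_mem _) hri hwi)) hg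
  obtain ⟨hr, hw⟩ := P.form v d (E.all_mem d) hdK
  obtain ⟨-, hconj⟩ := E.involution_form (E.all_mem d) he2
  suffices hdi : d = single i by subst hdi; exact ⟨rfl, hconj⟩
  set a := el j s (-v) 1
  -- the plane of the sign inside the centralizer of the conjugate
  have himg : ∀ u, act (single i) u = u → ∃ u', act d u' = u' ∧
      (g * a)⁻¹ * el j s u 1 * (g * a) = el j s u' 1 := by
    intro u hu
    set y := (g * a)⁻¹ * el j s u 1 * (g * a)
    have hyC : Commute y ((g * a)⁻¹ * el j s 0 (single i) * (g * a)) := by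
      have := ((show Commute (el j s u 1) (el j s 0 (single i)) from
        ((E.el_comm_space (E.all_mem _)).2 hu).symm).map (MulAut.conj (g * a)⁻¹).toMonoidHom).eq
      show _ * _ = _ * _
      simpa [y, mul_assoc] using this
    have hd0 : (g * a)⁻¹ * el j s 0 (single i) * (g * a) = el j s 0 d := by
      calc (g * a)⁻¹ * el j s 0 (single i) * (g * a) = a⁻¹ * (g⁻¹ * el j s 0 (single i) * g) * a := by group
        _ = a⁻¹ * (a * el j s 0 d * a⁻¹) * a := by rw [h, hconj]
        _ = _ := by group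
    rw [hd0] at hyC
    have hyK : y ∈ K2 := mul_mem (mul_mem (inv_mem (mul_mem hg (P.space (el_mem_range _))))
      (P.space (el_mem_range u))) (mul_mem hg (P.space (el_mem_range _)))
    have hy3 : y ^ 3 = 1 := by
      have h1 : y = (g * a)⁻¹ * el j s u 1 * ((g * a)⁻¹)⁻¹ := by rw [inv_inv]
      rw [h1, conj_pow, E.space_cube (el_mem_range u), mul_one, mul_inv_cancel]
    have hd1 : d ≠ 1 := by
      rintro rfl
      have h1 : el j s 0 (single i) = 1 := by
        have h2 : (g * a)⁻¹ * el j s 0 (single i) * (g * a) = 1 := by rw [hd0, el_zero_one]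
        calc el j s 0 (single i) = (g * a) * ((g * a)⁻¹ * el j s 0 (single i) * (g * a)) * (g * a)⁻¹ := by group
          _ = 1 := by rw [h2]; group
      have key : ∀ i, single i ≠ 1 := by decide +kernel
      exact key i ((E.el_eq_one_iff (E.all_mem _)).1 h1).2
    have hN : y ∈ normalizer (j.range : Set G) := by
      rcases diag_cases d hr hw with e | e | ⟨l, rfl⟩ | ⟨u0, hu0, hfix, hline, hthree⟩
      · exact absurd e hd1
      · exact absurd e hd
      · exact P.cent_single hsmall l ⟨mem_centralizer_singleton_iff.2 hyC.eq, hyK⟩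
      · exfalso
        refine E.not_nine_of_line (E.all_mem d) hfix hu0 (hsmall _ hu0) hline (fun x _ => hthree x) ?_
        have h9 : 9 ∣ Nat.card (centralizer ({el j s 0 eA} : Set G)) := by
          have hcard : Nat.card (planeSub j (fixMap eA)) = 9 := by
            rw [E.card_planeSub, ← single_facts.2.2.2.1]
            exact congrArg Finset.card (Finset.filter_congr fun u _ => fixMap_eq_zero)
          rw [← hcard]
          refine card_dvd_of_le fun p hp => ?_
          obtain ⟨u, hu, rfl⟩ := E.exists_planeSub hp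
          exact mem_centralizer_singleton_iff.2 ((E.el_comm_space (E.all_mem _)).2 (fixMap_eq_zero.1 hu)).symm
        set c := (g * a)⁻¹ * el j s 0 (Mon.perm i false)
        have hc : c * el j s 0 eA * c⁻¹ = el j s 0 d := by
          rw [← hd0, ← hci, ← E.conj_sm (E.all_mem _) (E.all_mem _)]
          simp only [c]; group
        have hcard' : Nat.card (centralizer ({el j s 0 eA} : Set G)) ∣
            Nat.card (centralizer ({el j s 0 d} : Set G)) := by
          rw [← card_map_of_injective (f := (MulAut.conj c).toMonoidHom) (MulAut.conj c).injective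
            (K := centralizer ({el j s 0 eA} : Set G))]
          refine card_dvd_of_le ?_
          rintro _ ⟨p, hp, rfl⟩
          rw [← hc]
          exact mem_centralizer_singleton_iff.2
            ((show Commute p (el j s 0 eA) from mem_centralizer_singleton_iff.1 hp).map
              (MulAut.conj c).toMonoidHom).eq
        exact h9.trans hcard'
    obtain ⟨w, m, hm, e⟩ := E.exists_normal_form hN
    obtain ⟨hrm, hwm⟩ := P.form w m hm (e ▸ hyK)
    have hm1 : m = 1 := by
      have h3 := E.cube_of_el hm (v := w) (n := 1) (by rw [pow_one, ← e, hy3])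
      rwa [pow_succ, pow_two, diag_two m hrm hwm, one_mul] at h3
    subst hm1
    refine ⟨w, ?_, e⟩
    rw [e] at hyC
    exact (E.el_comm_space (E.all_mem d)).1 hyC.eq.symm
  rcases diag_cases d hr hw with e | e | ⟨l, rfl⟩ | ⟨u0, hu0, hfix, hline, hthree⟩
  · exfalso
    subst e
    have h1 : el j s 0 (single i) = 1 := by
      have h2 : g⁻¹ * el j s 0 (single i) * g = 1 := by
        rw [h, hconj, el_zero_one]; group
      calc el j s 0 (single i) = g * (g⁻¹ * el j s 0 (single i) * g) * g⁻¹ := by group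
        _ = 1 := by rw [h2]; group
    have key : ∀ i, single i ≠ 1 := by decide +kernel
    exact key i ((E.el_eq_one_iff (E.all_mem _)).1 h1).2
  · exact absurd e hd
  · by_contra hne
    have hil : i ≠ l := fun e => hne (by rw [e])
    obtain ⟨u, hu0, hui, hul, hpres⟩ := hsep i l hil
    obtain ⟨u', hu', e⟩ := himg u hui
    have hgK : (g * a)⁻¹ ∈ K2 := inv_mem (mul_mem hg (P.space (el_mem_range _)))
    obtain ⟨w, m, hm, hmK, hmu⟩ := E.fusion P.space hgK (u := u) (v := u') (by rw [inv_inv, e])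
    obtain ⟨hrm, hwm⟩ := P.form w m hm hmK
    rcases hpres m hrm hwm with e' | e' <;> rw [e'] at hmu <;> subst hmu
    · rw [hul] at hu'
      have key : ∀ u : V3, -u = u → u = 0 := by decide +kernel
      exact hu0 (key u hu')
    · rw [show act (single l) (-u) = -act (single l) u from (actAdd _).map_neg u, hul, neg_neg] at hu'
      have key : ∀ u : V3, u = -u → u = 0 := by decide +kernel
      exact hu0 (key u hu')
  · exfalso
    have key : ∀ i, ∃ u v : V3, act (single i) u = u ∧ act (single i) v = v ∧ u ≠ 0 ∧ v ≠ 0 ∧ u ≠ v ∧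
        u ≠ -v := by decide +kernel
    obtain ⟨u, v', hu, hv', hu1, hv1, hne, hne'⟩ := key i
    obtain ⟨x, hx, ex⟩ := himg u hu
    obtain ⟨y, hy, ey⟩ := himg v' hv'
    have hinj : ∀ p q, (g * a)⁻¹ * el j s p 1 * (g * a) = (g * a)⁻¹ * el j s q 1 * (g * a) → p = q :=
      fun p q e => (E.el_injective (one_mem W) (one_mem W) (mul_left_cancel (mul_right_cancel e))).1
    have hneg : ∀ p p', (g * a)⁻¹ * el j s p 1 * (g * a) = el j s p' 1 →
        (g * a)⁻¹ * el j s (-p) 1 * (g * a) = el j s (-p') 1 := by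
      intro p p' e
      have hn : ∀ q, el j s (-q) 1 = (el j s q 1)⁻¹ := fun q => by rw [E.el_inv (one_mem W), inv_one, act_one]
      rw [hn, hn, ← e]
      group
    have h0 : (g * a)⁻¹ * el j s (0 : V3) 1 * (g * a) = el j s (0 : V3) 1 := by rw [el_zero_one]; group
    have hx0 : x ≠ 0 := fun e => hu1 (hinj u 0 (by rw [ex, h0, e]))
    have hy0 : y ≠ 0 := fun e => hv1 (hinj v' 0 (by rw [ey, h0, e]))
    rcases hline x hx with e1 | e1 | e1 <;> rcases hline y hy with e2 | e2 | e2
    all_goals first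
      | exact hx0 e1
      | exact hy0 e2
      | skip
    all_goals
      rcases (show x = y ∨ x = -y by simp [e1, e2]) with e3 | e3
      · exact hne (hinj _ _ (by rw [ex, ey, e3]))
      · exact hne' (hinj _ _ (by rw [ex, hneg _ _ ey, e3]))

/-- `K2` lies in `N(J)`. -/
theorem Plain.le_normalizer_signs (P : Plain E K2)
    (hsmall : ∀ v : V3, v ≠ 0 → centralizer ({el j s v 1} : Set G) ≤ normalizer (j.range : Set G)) :
    K2 ≤ normalizer (j.range : Set G) := by
  classical
  set M := normalizer (j.range : Set G) ⊓ K2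
  have hM2 : M ≤ K2 := inf_le_right
  obtain ⟨μ, hμ⟩ := E.exists_mu
  set μ' : M →* Mon := μ.comp (inclusion inf_le_left)
  have hμv : ∀ v m, ∀ h : el j s v m ∈ M, μ' ⟨_, h⟩ = m := fun v m h => hμ v m (E.all_mem m) h.1
  have hμd : ∀ g : M, (μ' g).r = 0 ∧ (μ' g).w = false := fun g => by
    obtain ⟨v, m, hm, e⟩ := E.exists_normal_form g.2.1
    rw [show g = ⟨el j s v m, e ▸ g.2⟩ from Subtype.ext e, hμv]
    exact P.form v m hm (e ▸ g.2.2)
  let θ₁ : M →* Multiplicative (ZMod 2) := MonoidHom.mk' (fun g => bitVal (xor (μ' g).s (μ' g).t))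
    fun a b => by
      obtain ⟨h1, h2, -⟩ := diag_mul _ _ (hμd a).1 (hμd a).2 (hμd b).1 (hμd b).2
      rw [map_mul, h1, h2, ← bitVal_xor]
      congr 1
      generalize (μ' a).s = p, (μ' b).s = q, (μ' a).t = x, (μ' b).t = y
      revert p q x y; decide
  let θ₂ : M →* Multiplicative (ZMod 2) := MonoidHom.mk' (fun g => bitVal (xor (μ' g).s (μ' g).u))
    fun a b => by
      obtain ⟨h1, -, h2⟩ := diag_mul _ _ (hμd a).1 (hμd a).2 (hμd b).1 (hμd b).2
      rw [map_mul, h1, h2, ← bitVal_xor]
      congr 1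
      generalize (μ' a).s = p, (μ' b).s = q, (μ' a).u = x, (μ' b).u = y
      revert p q x y; decide
  obtain ⟨-, hsing, -⟩ := single_facts
  have hsM : ∀ i, el j s 0 (single i) ∈ M := fun i =>
    ⟨E.el_mem_normalizer (E.all_mem _) 0, P.diag 0 _ (E.all_mem _) (hsing i).1 (hsing i).2.1⟩
  have hval : ∀ (θ : M →* Multiplicative (ZMod 2)) (f : Mon → Bool),
      (∀ g, θ g = bitVal (f (μ' g))) → f negOne = false →
      ∀ i, transferHom hM2 θ ⟨el j s 0 (single i), hM2 (hsM i)⟩ = bitVal (f (single i)) := by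
    intro θ f hθ hneg i
    rw [transferHom_apply hM2 θ (hsM i) (E.sm_sq (E.all_mem _) (hsing i).2.2.1) fun g hg h hne => ?_]
    · have hle : centralizer ({el j s 0 (single i)} : Set G) ⊓ K2 ≤ M :=
        le_inf (P.cent_single hsmall i) inf_le_right
      rw [relIndex_eq_one.2 hle, pow_one, hθ, hμv]
    · obtain ⟨v, d, hd, e⟩ := E.exists_normal_form h.1
      have hdneg : d ≠ negOne := by
        rintro rfl
        refine hne ?_
        rw [show (⟨_, h⟩ : M) = ⟨el j s v negOne, e ▸ h⟩ from Subtype.ext e, hθ, hμv, hneg]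
        rfl
      obtain ⟨-, hconj⟩ := P.single_fusion hsmall hg e hdneg
      refine ⟨(el j s (-v) 1)⁻¹, M.inv_mem ⟨E.el_mem_normalizer (one_mem W) _, P.space (el_mem_range _)⟩, ?_⟩
      rw [inv_inv, e, hconj]
  have h₁ := hval θ₁ (fun m => xor m.s m.t) (fun g => rfl) rfl
  have h₂ := hval θ₂ (fun m => xor m.s m.u) (fun g => rfl) rfl
  set φ₁ := transferHom hM2 θ₁
  set φ₂ := transferHom hM2 θ₂
  set K4 := (φ₁.ker ⊓ φ₂.ker).map K2.subtype
  have hn : K2 ≤ normalizer (K4 : Set G) := fun g hg => by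
    have hN : (φ₁.ker ⊓ φ₂.ker).Normal := inferInstance
    refine mem_normalizer_iff_map_conj_eq.2 (eq_of_le_of_card_ge ?_
      (le_of_eq (card_map_of_injective (K := K4) (MulAut.conj g).injective).symm))
    rintro _ ⟨_, ⟨x, hx, rfl⟩, rfl⟩
    exact ⟨_, hN.conj_mem x hx ⟨g, hg⟩, rfl⟩
  have hJ4 : j.range ≤ K4 := fun g hg => by
    refine ⟨⟨g, P.space hg⟩, ⟨MonoidHom.mem_ker.2 ?_, MonoidHom.mem_ker.2 ?_⟩, rfl⟩
    · exact bit_of_three φ₁ (n := 1) (Subtype.ext (by simpa using E.space_cube hg))
    · exact bit_of_three φ₂ (n := 1) (Subtype.ext (by simpa using E.space_cube hg))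
  have hmem4 : ∀ v d, (hd : el j s v d ∈ K2) → (el j s v d ∈ K4 ↔
      xor d.s d.t = false ∧ xor d.s d.u = false) := by
    intro v d hd
    obtain ⟨hr, hw⟩ := P.form v d (E.all_mem d) hd
    have hone : ∀ (b : Bool) (i), el j s 0 (if b then single i else 1) ∈ K2 := fun b i => by
      cases b
      · rw [if_neg (by simp), el_zero_one]; exact one_mem _
      · exact hM2 (hsM i)
    have hval' : ∀ (φ : K2 →* Multiplicative (ZMod 2)) (f : Mon → Bool),
        (∀ i, φ ⟨el j s 0 (single i), hM2 (hsM i)⟩ = bitVal (f (single i))) →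
        φ ⟨_, hd⟩ = bitVal (d.s && f (single 0)) * bitVal (d.t && f (single 1)) *
          bitVal (d.u && f (single 2)) := by
      intro φ f hf
      have e : (⟨el j s v d, hd⟩ : K2) = ⟨el j s v 1, P.space (el_mem_range v)⟩ *
          (⟨_, hone d.s 0⟩ * ⟨_, hone d.t 1⟩ * ⟨_, hone d.u 2⟩) := by
        refine Subtype.ext ?_
        show el j s v d = el j s v 1 * (el j s 0 (if d.s then single 0 else 1) *
          el j s 0 (if d.t then single 1 else 1) * el j s 0 (if d.u then single 2 else 1))
        rw [E.el_mul (E.all_mem _) (E.all_mem _),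
          show ∀ m, act m (0 : V3) = 0 from fun m => (actAdd m).map_zero, add_zero,
          E.el_mul (E.all_mem _) (E.all_mem _),
          show ∀ m, act m (0 : V3) = 0 from fun m => (actAdd m).map_zero, add_zero,
          E.el_mul (one_mem W) (E.all_mem _),
          show ∀ m, act m (0 : V3) = 0 from fun m => (actAdd m).map_zero, add_zero, one_mul,
          ← single_split d hr hw]
      have hbit : ∀ (b : Bool) (i), φ ⟨_, hone b i⟩ = bitVal (b && f (single i)) := fun b i => by
        cases b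
        · rw [Bool.false_and, show (⟨_, hone false i⟩ : K2) = 1 from Subtype.ext (el_zero_one (j := j) (s := s)), map_one]
          rfl
        · rw [Bool.true_and]; exact hf i
      rw [e, map_mul, map_mul, map_mul, bit_of_three φ (n := 1) (Subtype.ext (by
        simpa using E.space_cube (el_mem_range (s := s) v))), one_mul, hbit, hbit, hbit]
    have e1 := hval' φ₁ (fun m => xor m.s m.t) h₁
    have e2 := hval' φ₂ (fun m => xor m.s m.u) h₂
    have key : ∀ a b c : Bool,
        (bitVal (a && xor (single 0).s (single 0).t) * bitVal (b && xor (single 1).s (single 1).t) *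
          bitVal (c && xor (single 2).s (single 2).t) = 1 ∧
        bitVal (a && xor (single 0).s (single 0).u) * bitVal (b && xor (single 1).s (single 1).u) *
          bitVal (c && xor (single 2).s (single 2).u) = 1) ↔ (xor a b = false ∧ xor a c = false) := by
      decide +kernel
    rw [← key d.s d.t d.u, ← e1, ← e2]
    constructor
    · rintro ⟨x, hx, e⟩
      obtain rfl : x = ⟨_, hd⟩ := Subtype.ext e
      exact ⟨hx.1, hx.2⟩
    · rintro ⟨ha, hb⟩
      exact ⟨⟨_, hd⟩, ⟨ha, hb⟩, rfl⟩
  have huW : negOne ∈ W := E.all_mem _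
  have huK : el j s 0 negOne ∈ K2 := P.diag 0 negOne huW rfl rfl
  have hu4 : el j s 0 negOne ∈ K4 := (hmem4 0 negOne huK).2 ⟨rfl, rfl⟩
  have hcase : ∀ w m, el j s w m ∈ K4 → m = 1 ∨ m = negOne := by
    intro w m h
    have hK : el j s w m ∈ K2 := map_subtype_le _ h
    obtain ⟨hr, hw⟩ := P.form w m (E.all_mem m) hK
    have key : ∀ m : Mon, m.r = 0 → m.w = false → xor m.s m.t = false → xor m.s m.u = false →
        m = 1 ∨ m = negOne := by decide +kernel
    exact key m hr hw ((hmem4 w m hK).1 h).1 ((hmem4 w m hK).1 h).2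
  have hloc : Loc K4 j.range ⊥ := by
    refine ⟨hJ4, E.space_comm, fun p hp => E.space_cube hp, ?_, E.space_index hJ4 fun w m hm h h3 => ?_,
      bot_le, fun g _ => by rw [normalizer_eq_top_iff.2 (inferInstance)]; exact mem_top g,
      fun z hz p _ => by rw [mem_bot.1 hz, one_mul, mul_one], by simp,
      fun g _ hg => ⟨g, E.cent_space fun u => (hg _ (el_mem_range u)).symm, 1, one_mem _, (mul_one g).symm⟩,
      E.sig.mono le_top⟩
    · intro hc
      obtain ⟨g, hg⟩ := hc.exists_generator
      have h1 := orderOf_eq_card_of_forall_mem_zpowers hg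
      rw [E.card_space] at h1
      have h2 : g ^ 3 = 1 := Subtype.ext (by simpa using E.space_cube g.2)
      have := orderOf_dvd_of_pow_eq_one h2
      rw [h1] at this
      norm_num at this
    · rcases hcase w m h with rfl | rfl
      · rfl
      · rwa [show negOne * negOne = 1 by decide +kernel, one_mul] at h3
  have h4 : K4 ≤ normalizer (j.range : Set G) := by
    refine hloc.le_normalizer_inverted hu4 (fun p hp => ?_) (E.sm_sq huW (by decide +kernel)) fun n hn hnN => ?_
    · obtain ⟨u, rfl⟩ := exists_el (s := s) hp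
      rw [E.el_conj huW, act_negOne, E.el_inv (one_mem W), inv_one, act_one]
    · obtain ⟨w, m, hm, rfl⟩ := E.exists_normal_form hnN
      rcases hcase w m hn with rfl | rfl
      · exact Or.inl ⟨_, el_mem_range (s := s) w, 1, one_mem _, (mul_one _).symm⟩
      · refine Or.inr ⟨_, el_mem_range (s := s) w, 1, one_mem _, ?_⟩
        rw [mul_one, E.el_mul hm hm, act_negOne, neg_zero, add_zero, show negOne * negOne = 1 by decide +kernel]
  exact E.le_of_normal hn hJ4 h4

end Cfsg.Agent.SymNineThree
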