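import Cfsg.Agent.Lib.SymNineThree.SixClasses

/-!
# The three signs commuting with the exchange

* `axPart`, `Six.dec_normalizer`, `Six.dec_unique` : the normalizer of the first axis
* `tripleGrp`, `tripleCent` : the group of the three signs and its centralizer
* `Six.tripleCent_le` : the centralizer normalizes the axis
-/

set_option autoImplicit false
set_option synthInstance.maxSize 8000
set_option synthInstance.maxHeartbeats 200000

namespace Cfsg.Agent.SymNineThree

open Cfsg Subgroup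
open ThreeCubedSymFour (V3)
open Multiplicative (ofAdd toAdd)
open Equiv (Perm swap)

/-- The automizer part of the axis. -/
def axMon (ε : Bool) : Mon := if ε then eA else 1

theorem axMon_facts : (∀ ε ε', axMon ε * axMon ε' = axMon (xor ε ε')) ∧
    (∀ (ε : Bool) (x : ZMod 3), ∃ x' : ZMod 3, act (axMon ε) (x • axA) = x' • axA) ∧
    act eA axA = -axA ∧ act tau axA = axA ∧
    (∀ u : V3, act tau u = u → u = u.1.val • axA + u.2.1.val • (0, 1, 1)) ∧
    (∀ u : V3, act tau u = u → u ≠ 0 → u.2.1 ≠ 0 → ¬ Axis u) ∧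
    ((0, 1, 0) + (0, 0, 1) : V3) = (0, 1, 1) ∧ act tau ((0, 1, 1) : V3) = (0, 1, 1) ∧
    (∀ x : ZMod 3, x • axA + x • axA = 0 → x = 0) ∧ (∀ x : ZMod 3, x • axA = x.val • axA) := by
  decide +kernel

variable {G : Type*} [Group G] {W : Subgroup Mon} {j : Multiplicative V3 →* G} {s : W →* G}

/-- An element of the normalizer of the axis outside the kernel. -/
noncomputable def axPart (j : Multiplicative V3 →* G) (s : W →* G) (x : ZMod 3) (ε : Bool) : G :=
  el j s (x • axA) (axMon ε)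

theorem Setting.el_nsmul (E : Setting W j s) (n : ℕ) (v : V3) : el j s (n • v) 1 = el j s v 1 ^ n := by
  induction n with
  | zero => rw [zero_nsmul, el_zero_one, pow_zero]
  | succ n ih => rw [succ_nsmul, pow_succ, ← ih, E.el_mul (one_mem W) (one_mem W), act_one, mul_one]

variable {E : Ctx W j s 3} {ι : Perm (Fin 6) →* G} {c : Bool}

theorem Six.axPart_comm (X : Six E ι c) (x : ZMod 3) (ε : Bool) (σ : Perm (Fin 6)) :
    Commute (axPart j s x ε) (ι σ) := by
  have e : axPart j s x ε = el j s axA 1 ^ x.val * el j s 0 (axMon ε) := by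
    rw [← E.el_nsmul, E.el_mul (one_mem W) (E.mem rfl), act_one, add_zero, one_mul,
      ← axMon_facts.2.2.2.2.2.2.2.2.2]
    rfl
  rw [e]
  refine Commute.mul_left ((show Commute (el j s axA 1) (ι σ) from
    (mem_centralizer_singleton_iff.1 (X.cent σ)).symm).pow_left _) ?_
  cases ε
  · rw [show axMon false = 1 from rfl, el_zero_one]; exact Commute.one_left _
  · exact X.comm_e σ

theorem Six.axPart_range (X : Six E ι c) {x : ZMod 3} {ε : Bool} {σ : Perm (Fin 6)}
    (h : axPart j s x ε = ι σ) : σ = 1 ∧ x = 0 ∧ ε = false := by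
  have h1 : σ = 1 := center_trivial σ fun i => X.inj (by
    rw [map_mul, map_mul, ← h, (X.axPart_comm x ε _).eq])
  rw [h1, map_one, axPart, E.el_eq_one_iff (E.mem rfl)] at h
  have key : ∀ (x : ZMod 3) (ε : Bool), x • axA = 0 → axMon ε = 1 → x = 0 ∧ ε = false := by decide +kernel
  exact ⟨h1, key x ε h.1 h.2⟩

theorem Six.axPart_mul (X : Six E ι c) (x x' : ZMod 3) (ε ε' : Bool) :
    ∃ x'', axPart j s x ε * axPart j s x' ε' = axPart j s x'' (xor ε ε') := by
  obtain ⟨hmul, hact, -⟩ := axMon_facts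
  obtain ⟨y, hy⟩ := hact ε x'
  refine ⟨x + y, ?_⟩
  rw [axPart, axPart, axPart, E.el_mul (E.mem rfl) (E.mem rfl), hy, hmul, add_smul]

theorem Six.axPart_inv (X : Six E ι c) (x : ZMod 3) (ε : Bool) :
    ∃ x', (axPart j s x ε)⁻¹ = axPart j s x' ε := by
  have key : ∀ (x : ZMod 3) (ε : Bool), (axMon ε)⁻¹ = axMon ε ∧
      ∃ x' : ZMod 3, -act (axMon ε)⁻¹ (x • axA) = x' • axA := by decide +kernel
  obtain ⟨h1, x', h2⟩ := key x ε
  exact ⟨x', by rw [axPart, axPart, E.el_inv (E.mem rfl), h2, h1]⟩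

theorem Six.dec_unique (X : Six E ι c) {x x' : ZMod 3} {ε ε' : Bool} {σ σ' : Perm (Fin 6)}
    (h : axPart j s x ε * ι σ = axPart j s x' ε' * ι σ') : σ = σ' ∧ ε = ε' := by
  obtain ⟨y, hy⟩ := X.axPart_inv x' ε'
  obtain ⟨z, hz⟩ := X.axPart_mul y x ε' ε
  have h1 : axPart j s z (xor ε' ε) = ι (σ' * σ⁻¹) := by
    rw [← hz, ← hy, map_mul, map_inv, eq_mul_inv_iff_mul_eq, mul_assoc, inv_mul_eq_iff_eq_mul]
    exact h
  obtain ⟨h2, -, h3⟩ := X.axPart_range h1
  refine ⟨(mul_inv_eq_one.1 h2).symm, ?_⟩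
  have key : ∀ a b : Bool, xor b a = false → a = b := by decide
  exact key ε ε' h3

variable [Finite G]

theorem Six.axis_order (X : Six E ι c) : orderOf (el j s axA 1) = 3 := by
  have : Fact (Nat.Prime 3) := ⟨Nat.prime_three⟩
  exact orderOf_eq_prime (E.space_cube (el_mem_range axA))
    fun e => absurd ((E.el_eq_one_iff (one_mem W)).1 e).1 (by decide +kernel)

theorem Six.dec_normalizer (X : Six E ι c) {g : G}
    (hg : g ∈ normalizer (zpowers (el j s axA 1) : Set G)) :
    ∃ x ε σ, g = axPart j s x ε * ι σ := by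
  obtain ⟨hmul, hact, hneg, -, -, -, -, -, -, hval⟩ := axMon_facts
  set a := el j s axA 1
  have hpow : ∀ i : ℕ, a ^ i = axPart j s (i : ZMod 3) false := fun i => by
    rw [← E.el_nsmul, axPart, show axMon false = 1 from rfl, Nat.cast_smul_eq_nsmul]
  have ha3 : a ^ 3 = 1 := E.space_cube (el_mem_range axA)
  obtain ⟨i, hi⟩ := mem_zpowers_iff.1 ((mem_normalizer_iff.1 hg a).1 (mem_zpowers a))
  have hmod : a ^ i = a ^ (i % 3) := by
    conv_lhs => rw [← Int.emod_add_mul_ediv i 3, zpow_add, zpow_mul,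
      show a ^ (3 : ℤ) = 1 by rw [show (3 : ℤ) = (3 : ℕ) from rfl, zpow_natCast, ha3], one_zpow, mul_one]
  rw [hmod] at hi
  rcases (show i % 3 = 0 ∨ i % 3 = 1 ∨ i % 3 = 2 by omega) with h | h | h <;> rw [h] at hi
  · rw [zpow_zero] at hi
    have h1 := X.axis_order
    rw [show el j s axA 1 = 1 from conj_eq_one_iff.1 hi.symm, orderOf_one] at h1
    norm_num at h1
  · rw [zpow_one] at hi
    obtain ⟨l, σ, rfl⟩ := X.dec g (mem_centralizer_singleton_iff.2 (mul_inv_eq_iff_eq_mul.1 hi.symm))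
    exact ⟨_, _, σ, by rw [hpow]⟩
  · set e := el j s 0 eA
    have h2 : g * a * g⁻¹ = a⁻¹ := by
      rw [← hi, eq_inv_iff_mul_eq_one, show (2 : ℤ) = (2 : ℕ) from rfl, zpow_natCast, ← pow_succ, ha3]
    have hea : e * a⁻¹ * e⁻¹ = a := by
      rw [← E.el_neg, E.el_conj (E.mem rfl), show act eA (-axA) = -act eA axA from (actAdd eA).map_neg _,
        hneg, neg_neg]
    obtain ⟨l, σ, e'⟩ := X.dec (e * g) (mem_centralizer_singleton_iff.2 (mul_inv_eq_iff_eq_mul.1 (by
      calc e * g * a * (e * g)⁻¹ = e * (g * a * g⁻¹) * e⁻¹ := by group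
        _ = a := by rw [h2, hea])))
    have hee : e = axPart j s 0 true := by rw [axPart, zero_smul]; rfl
    have he2 : e⁻¹ = e := inv_eq_of_mul_eq_one_right (E.sm_sq (E.mem rfl) octMon_facts.2.2.2.2.2)
    obtain ⟨x, hx⟩ := X.axPart_mul 0 (l : ZMod 3) true false
    rw [show xor true false = true from rfl] at hx
    refine ⟨x, true, σ, ?_⟩
    rw [← hx, ← hee, ← hpow, mul_assoc, ← e', ← mul_assoc]
    nth_rw 1 [← he2]
    rw [inv_mul_cancel, one_mul]

/-- The group of the three signs. -/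
def tripleGrp (ι : Perm (Fin 6) →* G) (c : Bool) : Subgroup G := closure (Set.range fun k => ι (lP c k))

/-- Its centralizer. -/
def tripleCent (ι : Perm (Fin 6) →* G) (c : Bool) : Subgroup G :=
  centralizer (Set.range fun k => ι (lP c k))

omit [Finite G] in
theorem tripleGrp_mem {σ : Perm (Fin 6)} (h : ∀ k, σ * lP c k = lP c k * σ) :
    ι σ ∈ tripleGrp ι c := by
  obtain ⟨p, q, r, rfl⟩ := triple_span c σ h
  have hk : ∀ k, ι (lP c k) ∈ tripleGrp ι c := fun k => subset_closure ⟨k, rfl⟩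
  rw [map_mul, map_mul]
  refine mul_mem (mul_mem ?_ ?_) ?_ <;>
    split_ifs <;> first | exact hk _ | (rw [map_one]; exact one_mem _)

omit [Finite G] in
theorem tripleGrp_form {g : G} (h : g ∈ tripleGrp ι c) :
    ∃ σ, g = ι σ ∧ ∀ k, σ * lP c k = lP c k * σ := by
  have hle : tripleGrp ι c ≤ (centralizer (Set.range (lP c))).map ι := by
    refine (closure_le _).2 ?_
    rintro _ ⟨k, rfl⟩
    refine ⟨lP c k, mem_centralizer_iff.2 ?_, rfl⟩
    rintro _ ⟨k', rfl⟩
    exact (triple_facts c).2.1 k' k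
  obtain ⟨σ, hσ, rfl⟩ := hle h
  exact ⟨σ, rfl, fun k => (mem_centralizer_iff.1 hσ _ ⟨k, rfl⟩).symm⟩

omit [Finite G] in
theorem tripleGrp_isPGroup : IsPGroup 2 (tripleGrp ι c) := fun g => ⟨1, Subtype.ext (by
  obtain ⟨σ, e, hσ⟩ := tripleGrp_form g.2
  rw [pow_one, SubgroupClass.coe_pow, e, ← map_pow, pow_two, (triple_cent c σ hσ).2, map_one]; rfl)⟩

omit [Finite G] in
theorem tripleCent_cent {g y : G} (hg : g ∈ tripleCent ι c) (hy : y ∈ tripleGrp ι c) : Commute g y := by
  have hle : tripleGrp ι c ≤ centralizer ({g} : Set G) := by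
    refine (closure_le _).2 ?_
    rintro _ ⟨k, rfl⟩
    exact mem_centralizer_singleton_iff.2 (mem_centralizer_iff.1 hg _ ⟨k, rfl⟩)
  exact (mem_centralizer_singleton_iff.1 (hle hy)).symm

omit [Finite G] in
theorem Six.exchange_eq (X : Six E ι c) :
    el j s 0 tau = ι (lP c 0) * ι (lP c 1) * ι (lP c 2) := by
  rw [← map_mul, ← map_mul, (triple_facts c).1, X.val_z]

omit [Finite G] in
theorem Six.tripleCent_le_exchange (X : Six E ι c) :
    tripleCent ι c ≤ centralizer ({el j s 0 tau} : Set G) := fun g hg => by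
  have hk : ∀ k, Commute g (ι (lP c k)) := fun k =>
    tripleCent_cent hg (subset_closure ⟨k, rfl⟩)
  exact mem_centralizer_singleton_iff.2 (X.exchange_eq ▸ ((hk 0).mul_right (hk 1)).mul_right (hk 2)).eq

/-- The centralizer of the three signs normalizes the axis. -/
theorem Six.tripleCent_le (X : Six E ι c) :
    tripleCent ι c ≤ normalizer (zpowers (el j s axA 1) : Set G) := by
  obtain ⟨hmul, hact, hneg, hta, hform, hnax, hsum, htb, -, -⟩ := axMon_facts
  obtain ⟨hprod, hcom, -, hrot, hlz, -, -, hbz⟩ := triple_facts c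
  set a := el j s axA 1
  set t := el j s 0 tau
  set Ω := tripleGrp ι c
  set Xc := tripleCent ι c
  set P := fixT j
  set bq := bP c * cP c
  have ha3 : a ^ 3 = 1 := E.space_cube (el_mem_range axA)
  have hbq : ι bq = el j s (0, 1, 1) 1 := by
    rw [map_mul, X.val_b, X.val_c, E.el_mul (one_mem W) (one_mem W), act_one, mul_one, hsum]
  have hP3 : IsPGroup 3 P := E.space_isPGroup.to_le (planeSub_le _)
  have haX : a ∈ Xc := mem_centralizer_iff.2 (by
    rintro _ ⟨k, rfl⟩
    exact mem_centralizer_singleton_iff.1 (X.cent _))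
  have haP : a ∈ P := E.mem_fixT.2 hta
  have hbP : ι bq ∈ P := hbq ▸ E.mem_fixT.2 htb
  have hPgen : P ≤ zpowers a ⊔ zpowers (ι bq) := fun p hp => by
    obtain ⟨u, hu, rfl⟩ := E.exists_planeSub hp
    have e : el j s u 1 = a ^ u.1.val * ι bq ^ u.2.1.val := by
      rw [← E.el_nsmul, hbq, ← E.el_nsmul, E.el_mul (one_mem W) (one_mem W), act_one, mul_one,
        ← hform u (fixMap_eq_zero.1 hu)]
    rw [e]
    exact mul_mem (mem_sup_left (npow_mem_zpowers a _)) (mem_sup_right (npow_mem_zpowers (ι bq) _))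
  have hbΩ : ι bq ∈ normalizer (Ω : Set G) := by
    refine mem_normalizer_iff_map_conj_eq.2 (eq_of_le_of_card_ge ?_
      (le_of_eq (card_map_of_injective (K := Ω) (MulAut.conj (ι bq)).injective).symm))
    rw [show Ω = closure (Set.range fun k => ι (lP c k)) from rfl, MonoidHom.map_closure]
    refine closure_mono ?_
    rintro _ ⟨_, ⟨k, rfl⟩, rfl⟩
    obtain ⟨k', hk'⟩ := hrot k
    refine ⟨k', ?_⟩
    show ι (lP c k') = ι bq * ι (lP c k) * (ι bq)⁻¹
    rw [← hk', map_mul, map_mul, map_inv]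
  have hbX : ι bq ∈ normalizer (Xc : Set G) := by
    refine mem_normalizer_iff_map_conj_eq.2 (eq_of_le_of_card_ge ?_
      (le_of_eq (card_map_of_injective (K := Xc) (MulAut.conj (ι bq)).injective).symm))
    rintro _ ⟨g, hg, rfl⟩
    refine mem_centralizer_iff.2 ?_
    rintro _ ⟨k, rfl⟩
    have h1 : (ι bq)⁻¹ * ι (lP c k) * ι bq ∈ Ω := by
      have h := (mem_normalizer_iff.1 (inv_mem hbΩ) _).1 (subset_closure ⟨k, rfl⟩ : ι (lP c k) ∈ Ω)
      rwa [inv_inv] at h
    have h2 := ((tripleCent_cent hg h1).map (MulAut.conj (ι bq)).toMonoidHom).eq.symm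
    simpa [mul_assoc] using h2
  have hnX : Xc ⊔ P ≤ normalizer (Xc : Set G) :=
    sup_le le_normalizer (hPgen.trans (sup_le (zpowers_le.2 (le_normalizer haX)) (zpowers_le.2 hbX)))
  have hXΩ : Xc ≤ normalizer (Ω : Set G) := fun g hg => mem_normalizer_iff.2 fun y => by
    constructor
    · intro hy
      rwa [(tripleCent_cent hg hy).eq, mul_inv_cancel_right]
    · intro hy
      have h := (tripleCent_cent hg hy).eq
      have e : y = g * y * g⁻¹ := by
        calc y = g⁻¹ * (g * y * g⁻¹ * g) := by group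
          _ = g⁻¹ * (g * (g * y * g⁻¹)) := by rw [h]
          _ = g * y * g⁻¹ := by group
      rwa [← e] at hy
  have hnΩ : Xc ⊔ P ≤ normalizer (Ω : Set G) :=
    sup_le hXΩ (hPgen.trans (sup_le (zpowers_le.2 (hXΩ haX)) (zpowers_le.2 hbΩ)))
  have htC : Xc ⊔ P ≤ centralizer ({t} : Set G) := sup_le X.tripleCent_le_exchange E.fixT_le_cent
  have hsig : Sig P (Xc ⊔ P) Ω := sig_of_points hP3 E.fixT_comm E.fixT_noncyc fun q hq hq1 K hK hPK hcop g hg => by
    obtain ⟨u, hu, rfl⟩ := E.exists_planeSub hq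
    have hu' := fixMap_eq_zero.1 hu
    have hu0 : u ≠ 0 := fun e => hq1 (by rw [e, el_zero_one])
    by_cases hax : u.2.1 = 0
    · -- the axis itself
      have hga : Commute g a := by
        have h1 : Commute g (el j s u 1) := mem_centralizer_singleton_iff.1 hg.2
        have key : ∀ u : V3, act tau u = u → u ≠ 0 → u.2.1 = 0 → axA = u.1.val • u := by decide +kernel
        show Commute g (el j s axA 1)
        rw [key u hu' hu0 hax, E.el_nsmul]
        exact h1.pow_right _
      obtain ⟨i, σ, rfl⟩ := X.dec g (mem_centralizer_singleton_iff.2 hga.eq)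
      have hai : Commute (a ^ i) (ι σ) :=
        (show Commute a (ι σ) from (mem_centralizer_singleton_iff.1 (X.cent σ)).symm).pow_left i
      have hk := orderOf_dvd_iff_pow_eq_one.1 (K.orderOf_dvd_natCard hg.1)
      rw [hai.mul_pow] at hk
      set k := Nat.card K with hkdef
      have h1 : axPart j s ((i * k : ℕ) : ZMod 3) false = ι (σ⁻¹ ^ k) := by
        rw [map_pow, map_inv, inv_pow, ← eq_inv_of_mul_eq_one_left hk, axPart, ← pow_mul,
          Nat.cast_smul_eq_nsmul, ← E.el_nsmul]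
        rfl
      obtain ⟨hσk, hik, -⟩ := X.axPart_range h1
      rw [inv_pow, inv_eq_one] at hσk
      have h3i : 3 ∣ i :=
        (Nat.Coprime.dvd_of_dvd_mul_right hcop.symm ((ZMod.natCast_eq_zero_iff _ 3).1 hik))
      have hgσ : a ^ i * ι σ = ι σ := by
        obtain ⟨l, rfl⟩ := h3i
        rw [pow_mul, ha3, one_pow, one_mul]
      rw [hgσ] at hg ⊢
      have hzc : ∀ {ρ}, ι ρ ∈ K → ρ * zP c = zP c * ρ := fun {ρ} h => X.inj (by
        rw [map_mul ι ρ, map_mul ι _ ρ, X.val_z]; exact mem_centralizer_singleton_iff.1 (htC (hK h)))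
      have hfour : ∀ {ρ}, ι ρ ∈ K → ρ ^ 4 = 1 := fun {ρ} h => by
        have hρk : ρ ^ k = 1 := X.inj (by
          rw [map_pow, map_one]; exact orderOf_dvd_iff_pow_eq_one.1 (K.orderOf_dvd_natCard h))
        refine orderOf_dvd_iff_pow_eq_one.1 ((Nat.Coprime.dvd_of_dvd_mul_left (k := orderOf ρ) (m := 3) ?_ ?_))
        · exact Nat.Coprime.coprime_dvd_left (orderOf_dvd_of_pow_eq_one hρk) hcop
        · show orderOf ρ ∣ 3 * 4
          exact orderOf_dvd_of_pow_eq_one (cent_exchange c ρ (hzc h)).1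
      have hcomm : ι (σ * bq * σ⁻¹ * bq⁻¹) ∈ K := by
        rw [map_mul, map_mul, map_mul, map_inv, map_inv]
        have := mul_mem hg.1 ((mem_normalizer_iff.1 (hPK hbP) _).1 (inv_mem hg.1))
        simpa [mul_assoc] using this
      exact tripleGrp_mem ((cent_exchange c σ (hzc hg.1)).2 (hfour hg.1) (hfour hcomm))
    · have hN := (E.cent_or_axis hu0).resolve_right (fun h => hnax u hu' hu0 hax h.2) hg.2
      have h1 := E.sig_tau_point (hK.trans htC) hPK hcop hg.1 hN
      refine zpowers_le.2 ?_ h1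
      rw [← X.val_z]
      exact tripleGrp_mem fun k => (hlz k).symm
  have hΩX : Ω ≤ Xc := by
    refine (closure_le _).2 ?_
    rintro _ ⟨k, rfl⟩
    refine mem_centralizer_iff.2 ?_
    rintro _ ⟨k', rfl⟩
    rw [← map_mul, ← map_mul, hcom k' k]
  have hXa : ∀ g ∈ Xc, g * a = a * g → ∃ (i : ℕ) (σ : Perm (Fin 6)),
      g = a ^ i * ι σ ∧ ∀ k, σ * lP c k = lP c k * σ := by
    intro g hg hga
    obtain ⟨i, σ, rfl⟩ := X.dec g (mem_centralizer_singleton_iff.2 hga)
    refine ⟨i, σ, rfl, fun k => X.inj ?_⟩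
    have h1 : Commute (ι σ) (ι (lP c k)) := by
      have hc1 : Commute (a ^ i) (ι (lP c k)) :=
        (show Commute a (ι (lP c k)) from (mem_centralizer_singleton_iff.1 (X.cent _)).symm).pow_left i
      have h2 := hc1.inv_left.mul_left (tripleCent_cent hg (subset_closure ⟨k, rfl⟩))
      rwa [inv_mul_cancel_left] at h2
    rw [map_mul, map_mul]
    exact h1.eq
  have h9 : ¬ 9 ∣ Nat.card Xc := by
    refine not_nine_of_three haX ha3 (fun e => ?_) fun g hg hga n hn => ?_
    · have h := X.axis_order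
      rw [show el j s axA 1 = 1 from e, orderOf_one] at h
      norm_num at h
    · obtain ⟨i, σ, rfl, hσ⟩ := hXa g hg hga
      have h3 : σ ^ 3 ^ (n + 1) = 1 := X.inj (by
        rw [((show Commute a (ι σ) from (mem_centralizer_singleton_iff.1 (X.cent σ)).symm).pow_left i).mul_pow] at hn
        rw [map_pow, map_one, pow_succ, pow_mul, eq_inv_of_mul_eq_one_right hn, inv_pow, ← pow_mul, ← pow_mul,
          show i * (3 ^ n * 3) = 3 * (i * 3 ^ n) by ring, pow_mul, ha3, one_pow, inv_one])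
      have h := pow_gcd_eq_one.2 ⟨(show σ ^ 2 = 1 by rw [pow_two]; exact (triple_cent c σ hσ).2), h3⟩
      rw [show Nat.gcd 2 (3 ^ (n + 1)) = 1 from Nat.Coprime.pow_right _ (by norm_num), pow_one] at h
      rw [h, map_one, mul_one]
      exact npow_mem_zpowers _ _
  intro g hg
  have hline := conj_mem_of_line hP3 tripleGrp_isPGroup hsig le_sup_left hnX le_sup_right hΩX hnΩ haX
    X.axis_order (fun z hz => ((tripleCent_cent haX hz).eq).symm) h9 (fun y hy hya => by
      obtain ⟨i, σ, rfl, hσ⟩ := hXa y hy hya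
      refine ⟨2 * i, ?_⟩
      rw [mul_assoc, ← ((show Commute a (ι σ) from
        (mem_centralizer_singleton_iff.1 (X.cent σ)).symm).pow_left (2 * i)).eq, ← mul_assoc, ← pow_add,
        show i + 2 * i = 3 * i by ring, pow_mul, ha3, one_pow, one_mul]
      exact tripleGrp_mem hσ) (mem_sup_left hg)
  refine mem_normalizer_iff_map_conj_eq.2 (eq_of_le_of_card_ge ?_
    (le_of_eq (card_map_of_injective (K := zpowers a) (MulAut.conj g).injective).symm))
  rw [MonoidHom.map_zpowers, zpowers_le]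
  show g * a * g⁻¹ ∈ zpowers a
  rcases hline with e | e <;> rw [e]
  exacts [mem_zpowers a, inv_mem (mem_zpowers a)]

end Cfsg.Agent.SymNineThree
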